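/-
helper66: modules S3360-[ORB], [FIXN], [CORE0], [ORD] for helper2's project S3360 (Huppert).
-/
import Mathlib
import Cfsg.Prelude.Def_Solvable
import Cfsg.Agent.Lib.Helper2.HuppertDefs
import Cfsg.Agent.Lib.Helper1.PCore

set_option autoImplicit false

namespace Cfsg.Agent.Lib.Helper66.HupGeneral

open Cfsg Module Cfsg.Agent.Lib.Helper2.Huppert

variable {q : ℕ} [Fact q.Prime] {V : Type*} [AddCommGroup V] [Module (ZMod q) V] [Finite V]
  {G : Type*} [Group G] [Finite G]

/-- **[ORB]** `|V| - 1` divides `|G|` for a group transitive on the nonzero vectors. -/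
theorem card_sub_one_dvd [Nontrivial V] (ρ : G →* (V ≃ₗ[ZMod q] V)) (htrans : Trans ρ) :
    Nat.card V - 1 ∣ Nat.card G := by
  let _ : MulAction G V := MulAction.compHom V ρ
  have hsmul : ∀ (g : G) (v : V), g • v = ρ g v := fun g v => rfl
  obtain ⟨v₀, hv₀⟩ := exists_ne (0 : V)
  have horb : MulAction.orbit G v₀ = (Set.univ : Set V) \ {0} := by
    ext w
    constructor
    · rintro ⟨g, rfl⟩
      refine ⟨Set.mem_univ _, ?_⟩
      simp only [Set.mem_singleton_iff]
      show ρ g v₀ ≠ 0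
      intro h
      exact hv₀ ((ρ g).map_eq_zero_iff.1 h)
    · rintro ⟨-, hw⟩
      obtain ⟨g, hg⟩ := htrans v₀ w hv₀ hw
      exact ⟨g, hg⟩
  have h1 : (MulAction.stabilizer G v₀).index = (MulAction.orbit G v₀).ncard :=
    MulAction.index_stabilizer G v₀
  have h2 : (MulAction.orbit G v₀).ncard = Nat.card V - 1 := by
    rw [horb, Set.ncard_sdiff_singleton_of_mem (Set.mem_univ _), Set.ncard_univ]
  rw [← h2, ← h1]
  exact Subgroup.index_dvd_card _

/-- **[FIXN]** A nontrivial normal subgroup of a faithful transitive linear group fixes no nonzero vector. -/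
theorem fixed_eq_zero_of_normal (ρ : G →* (V ≃ₗ[ZMod q] V)) (hρ : Function.Injective ρ)
    (htrans : Trans ρ) (N : Subgroup G) [N.Normal] (hN : N ≠ ⊥) (v : V)
    (hv : ∀ g ∈ N, ρ g v = v) : v = 0 := by
  by_contra hv0
  apply hN
  rw [Subgroup.eq_bot_iff_forall]
  intro n hn
  apply hρ
  rw [map_one]
  ext w
  show ρ n w = w
  by_cases hw : w = 0
  · rw [hw, map_zero]
  · obtain ⟨g, rfl⟩ := htrans v w hv0 hw
    have h1 : g⁻¹ * n * g ∈ N := by
      have := ‹N.Normal›.conj_mem n hn g⁻¹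
      simpa using this
    have h2 := hv _ h1
    have h3 : ρ n (ρ g v) = ρ (g * (g⁻¹ * n * g)) v := by
      have : g * (g⁻¹ * n * g) = n * g := by group
      rw [this, map_mul]
      rfl
    rw [h3, map_mul]
    show ρ g (ρ (g⁻¹ * n * g) v) = ρ g v
    rw [h2]

/-- **[CORE0]** `O_s(G) = 1` for primes `s` not dividing `|V| - 1`. -/
theorem pCore_eq_bot_of_not_dvd [Nontrivial V] (ρ : G →* (V ≃ₗ[ZMod q] V))
    (hρ : Function.Injective ρ) (htrans : Trans ρ) (s : ℕ) [Fact s.Prime]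
    (hs : ¬ s ∣ Nat.card V - 1) : pCore s G = ⊥ := by
  by_contra hne
  have hnorm : (pCore s G).Normal := Cfsg.Agent.Lib.Helper1.pCore_normal s
  have hpg : IsPGroup s (pCore s G) := Cfsg.Agent.Lib.Helper1.pCore_isPGroup s
  let _ : MulAction (pCore s G) V := MulAction.compHom V (ρ.comp (pCore s G).subtype)
  have hsmul : ∀ (g : pCore s G) (v : V), g • v = ρ (g : G) v := fun g v => rfl
  have hfix : MulAction.fixedPoints (pCore s G) V = {0} := by
    ext v
    simp only [MulAction.mem_fixedPoints, Set.mem_singleton_iff]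
    constructor
    · intro h
      exact fixed_eq_zero_of_normal ρ hρ htrans (pCore s G) hne v
        (fun g hg => by simpa [hsmul] using h ⟨g, hg⟩)
    · rintro rfl g
      rw [hsmul, map_zero]
  have hmod := hpg.card_modEq_card_fixedPoints V
  rw [hfix] at hmod
  have h1 : Nat.card ({0} : Set V) = 1 := by simp
  rw [h1] at hmod
  apply hs
  have hpos : 1 ≤ Nat.card V := Nat.card_pos
  exact (Nat.modEq_iff_dvd' hpos).1 hmod.symm

/-- **[ORD]** A primitive prime divisor `r` of `q ^ n - 1` satisfies `n + 1 ≤ r`. -/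
theorem succ_le_of_primitive (q n r : ℕ) (hq : 2 ≤ q) (hr : r.Prime) (hn : 1 ≤ n)
    (hdvd : r ∣ q ^ n - 1) (hprim : ∀ i : ℕ, 1 ≤ i → i < n → ¬ r ∣ q ^ i - 1) : n + 1 ≤ r := by
  have : Fact r.Prime := ⟨hr⟩
  have hpow : ∀ i : ℕ, ((q : ZMod r) ^ i = 1 ↔ r ∣ q ^ i - 1) := by
    intro i
    have hpos : 1 ≤ q ^ i := Nat.one_le_pow _ _ (by omega)
    rw [← (ZMod.natCast_eq_zero_iff (q ^ i - 1) r)]
    rw [Nat.cast_sub hpos]
    push_cast
    rw [sub_eq_zero]
  have h1 : (q : ZMod r) ^ n = 1 := (hpow n).2 hdvd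
  have hq0 : (q : ZMod r) ≠ 0 := by
    intro h0
    rw [h0, zero_pow (by omega)] at h1
    exact zero_ne_one h1
  have hd : orderOf (q : ZMod r) ∣ n := orderOf_dvd_of_pow_eq_one h1
  have hdpos : 0 < orderOf (q : ZMod r) := by
    apply orderOf_pos_iff.2
    exact isOfFinOrder_iff_pow_eq_one.2 ⟨n, by omega, h1⟩
  have hdn : orderOf (q : ZMod r) = n := by
    by_contra hne
    have hlt : orderOf (q : ZMod r) < n := lt_of_le_of_ne (Nat.le_of_dvd (by omega) hd) hne
    exact hprim _ hdpos hlt ((hpow _).1 (pow_orderOf_eq_one _))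
  have h2 : (q : ZMod r) ^ (r - 1) = 1 := ZMod.pow_card_sub_one_eq_one hq0
  have h3 : n ∣ r - 1 := by
    rw [← hdn]
    exact orderOf_dvd_of_pow_eq_one h2
  have hr2 : 2 ≤ r := hr.two_le
  have := Nat.le_of_dvd (by omega) h3
  omega

end Cfsg.Agent.Lib.Helper66.HupGeneral
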