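import Mathlib
import Cfsg.Agent.Lib.Helper23.SU3GFG

/-!
# S2283-[EPS] (helper66): a norm-one element `ε` with `1 + ε ≠ 0` and `F_p(ε³) = F` for `|F| = q²`, `q ≥ 3`, `q ≠ 5, 8`
-/

set_option autoImplicit false

namespace Cfsg.Agent.Lib.Helper66.SU3G

variable {F : Type*} [Field F]

theorem exists_eps [Fintype F] {q : ℕ} (hF : Fintype.card F = q ^ 2) (hq3 : 3 ≤ q) (hq5 : q ≠ 5)
    (hq8 : q ≠ 8) :
    ∃ ε : F, ε ^ (q + 1) = 1 ∧ 1 + ε ≠ 0 ∧ Subfield.closure ({ε ^ 3} : Set F) = ⊤ := by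
  classical
  obtain ⟨ζ, hζ⟩ := IsCyclic.exists_generator (α := Fˣ)
  have hq21 : q ^ 2 - 1 = (q - 1) * (q + 1) := by
    obtain ⟨k, rfl⟩ : ∃ k, q = k + 1 := ⟨q - 1, by omega⟩
    have h1 : (k + 1) ^ 2 - 1 = k * (k + 2) := by
      have h2 : (k + 1) ^ 2 = k * (k + 2) + 1 := by ring
      omega
    rw [h1]
    rfl
  have hordζ : orderOf ζ = (q - 1) * (q + 1) := by
    rw [orderOf_eq_card_of_forall_mem_zpowers hζ, Nat.card_eq_fintype_card, Fintype.card_units, hF,
      hq21]
  have hq1 : q - 1 ≠ 0 := by omega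
  have hordu : orderOf (ζ ^ (q - 1)) = q + 1 := by
    rw [orderOf_pow' ζ hq1, hordζ, Nat.gcd_eq_right (Dvd.intro _ rfl),
      Nat.mul_div_cancel_left _ (Nat.pos_of_ne_zero hq1)]
  set u : Fˣ := ζ ^ (q - 1) with hu
  refine ⟨(u : F), ?_, ?_, ?_⟩
  · rw [← Units.val_pow_eq_pow_val, ← hordu, pow_orderOf_eq_one, Units.val_one]
  · intro h
    have h1 : (u : F) = -1 := by linear_combination h
    have h2 : u ^ 2 = 1 := by
      apply Units.ext
      rw [Units.val_pow_eq_pow_val, h1, Units.val_one]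
      ring
    have h3 := orderOf_dvd_of_pow_eq_one h2
    rw [hordu] at h3
    have := Nat.le_of_dvd (by norm_num) h3
    omega
  · apply Cfsg.Agent.Lib.Helper23.SU3G.closure_eq_top_of_pow_ne
    intro c m hc hm hcm hpow
    rw [hF] at hcm
    -- `q + 1 ∣ 3 (c - 1)`
    have h1 : u ^ (3 * (c - 1)) = 1 := by
      have h2 : (u ^ 3) ^ c = u ^ 3 := by
        apply Units.ext
        rw [Units.val_pow_eq_pow_val, Units.val_pow_eq_pow_val]
        exact hpow
      have h3 : u ^ (3 * (c - 1)) * u ^ 3 = 1 * u ^ 3 := by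
        have e : 3 * (c - 1) + 3 = 3 * c := by omega
        rw [one_mul, ← pow_add, e, pow_mul, h2]
      exact mul_right_cancel h3
    have hdvd : q + 1 ∣ 3 * (c - 1) := by
      rw [← hordu]
      exact orderOf_dvd_of_pow_eq_one h1
    have hle : q + 1 ≤ 3 * (c - 1) := Nat.le_of_dvd (by omega) hdvd
    rcases Nat.lt_or_ge m 3 with hm3 | hm3
    · -- `m = 2`, `c = q`
      have hm2 : m = 2 := by omega
      rw [hm2] at hcm
      have hcq : c = q := Nat.pow_left_injective (by norm_num : 2 ≠ 0) hcm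
      rw [hcq] at hdvd
      have h6 : q + 1 ∣ 6 := by
        have h7 : q + 1 ∣ 3 * (q + 1) := Dvd.intro_left 3 rfl
        have h8 : 3 * (q + 1) - 3 * (q - 1) = 6 := by omega
        rw [← h8]
        exact Nat.dvd_sub h7 hdvd
      have h9 := Nat.le_of_dvd (by norm_num) h6
      have hq5' : q ≤ 5 := by omega
      interval_cases q <;> omega
    · -- `m ≥ 3`
      have hc3 : c ^ 3 ≤ q ^ 2 := by
        rw [← hcm]
        exact Nat.pow_le_pow_right (by omega) hm3
      have h3c : q + 4 ≤ 3 * c := by omega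
      have hq14 : q ≤ 14 := by
        by_contra hcon
        push Not at hcon
        have h10 : (q + 4) ^ 3 ≤ (3 * c) ^ 3 := Nat.pow_le_pow_left h3c 3
        have h11 : (3 * c) ^ 3 = 27 * c ^ 3 := by ring
        nlinarith [Nat.mul_le_mul_right (q ^ 2) hcon]
      have hc5 : c ≤ 5 := by
        by_contra hcon
        push Not at hcon
        have h10 : 6 ^ 3 ≤ c ^ 3 := Nat.pow_le_pow_left hcon 3
        have h11 : q ^ 2 ≤ 14 ^ 2 := Nat.pow_le_pow_left hq14 2
        omega
      have hc3' : 3 ≤ c := by omega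
      interval_cases c <;> interval_cases q <;> omega

end Cfsg.Agent.Lib.Helper66.SU3G
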