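import Mathlib
import Cfsg.Prelude.Def_GeometricClasses
import Cfsg.Agent.Lib.Helper99.AschDefs

/-!
# ASCH-[SS] (helper66, for helper99): `F^n` is a semisimple module over the algebra generated by a subgroup
`N` normalised by an irreducible group `H`.
-/

set_option autoImplicit false

namespace Cfsg.Agent.Lib.Helper66.AschSS

open Cfsg Cfsg.Geo Cfsg.Agent.Lib.Helper99.Asch
open scoped MatrixGroups Matrix

variable {n : ℕ} {F : Type*} [Field F]

/-- conjugation by `g⁻¹` preserves `endAlg N` when it preserves `N` -/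
theorem conj_mem_endAlg (N : Subgroup (GL (Fin n) F)) (g : GL (Fin n) F)
    (hg : ∀ x ∈ N, g⁻¹ * x * g ∈ N) (a : Module.End F (Fin n → F)) (ha : a ∈ endAlg N) :
    Matrix.toLin' ((g⁻¹ : GL (Fin n) F) : Matrix (Fin n) (Fin n) F) * a *
      Matrix.toLin' (g : Matrix (Fin n) (Fin n) F) ∈ endAlg N := by
  have hinv : Matrix.toLin' ((g⁻¹ : GL (Fin n) F) : Matrix (Fin n) (Fin n) F) *
      Matrix.toLin' (g : Matrix (Fin n) (Fin n) F) = 1 := by
    rw [Module.End.mul_eq_comp, ← Matrix.toLin'_mul, ← Matrix.GeneralLinearGroup.coe_mul,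
      inv_mul_cancel, Matrix.GeneralLinearGroup.coe_one, Matrix.toLin'_one]; rfl
  have hinv' : Matrix.toLin' (g : Matrix (Fin n) (Fin n) F) *
      Matrix.toLin' ((g⁻¹ : GL (Fin n) F) : Matrix (Fin n) (Fin n) F) = 1 := by
    rw [Module.End.mul_eq_comp, ← Matrix.toLin'_mul, ← Matrix.GeneralLinearGroup.coe_mul,
      mul_inv_cancel, Matrix.GeneralLinearGroup.coe_one, Matrix.toLin'_one]; rfl
  unfold endAlg at ha ⊢
  induction ha using Algebra.adjoin_induction with
  | mem a ha =>
    obtain ⟨x, hx, rfl⟩ := ha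
    apply Algebra.subset_adjoin
    refine ⟨g⁻¹ * x * g, hg x hx, ?_⟩
    simp only [Matrix.GeneralLinearGroup.coe_mul, Matrix.toLin'_mul, Module.End.mul_eq_comp]
  | algebraMap r =>
    rw [← Algebra.commutes, mul_assoc, hinv, mul_one]
    exact Subalgebra.algebraMap_mem _ r
  | add a b _ _ iha ihb =>
    rw [mul_add, add_mul]
    exact add_mem iha ihb
  | mul a b _ _ iha ihb =>
    have : Matrix.toLin' ((g⁻¹ : GL (Fin n) F) : Matrix (Fin n) (Fin n) F) * (a * b) *
        Matrix.toLin' (g : Matrix (Fin n) (Fin n) F) =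
        (Matrix.toLin' ((g⁻¹ : GL (Fin n) F) : Matrix (Fin n) (Fin n) F) * a *
          Matrix.toLin' (g : Matrix (Fin n) (Fin n) F)) *
        (Matrix.toLin' ((g⁻¹ : GL (Fin n) F) : Matrix (Fin n) (Fin n) F) * b *
          Matrix.toLin' (g : Matrix (Fin n) (Fin n) F)) := by
      calc _ = Matrix.toLin' ((g⁻¹ : GL (Fin n) F) : Matrix (Fin n) (Fin n) F) * (a * 1 * b) *
            Matrix.toLin' (g : Matrix (Fin n) (Fin n) F) := by rw [mul_one]
        _ = _ := by rw [← hinv']; simp only [mul_assoc]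
    rw [this]
    exact mul_mem iha ihb

/-- the translate `g W` of a submodule over `endAlg N`, for `g` normalising `N` -/
def translate (N : Subgroup (GL (Fin n) F)) (g : GL (Fin n) F)
    (hg : ∀ x ∈ N, g⁻¹ * x * g ∈ N) (W : Submodule (endAlg N) (Fin n → F)) :
    Submodule (endAlg N) (Fin n → F) where
  carrier := {v | Matrix.toLin' ((g⁻¹ : GL (Fin n) F) : Matrix (Fin n) (Fin n) F) v ∈ W}
  add_mem' := by
    intro a b ha hb
    simp only [Set.mem_ofPred_eq, map_add] at ha hb ⊢
    exact W.add_mem ha hb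
  zero_mem' := by
    simp only [Set.mem_ofPred_eq, map_zero]
    exact W.zero_mem
  smul_mem' := by
    intro a v hv
    simp only [Set.mem_ofPred_eq] at hv ⊢
    have hinv' : Matrix.toLin' (g : Matrix (Fin n) (Fin n) F)
        (Matrix.toLin' ((g⁻¹ : GL (Fin n) F) : Matrix (Fin n) (Fin n) F) v) = v := by
      rw [← LinearMap.comp_apply, ← Matrix.toLin'_mul, ← Matrix.GeneralLinearGroup.coe_mul,
        mul_inv_cancel, Matrix.GeneralLinearGroup.coe_one, Matrix.toLin'_one]; rfl
    have h1 := conj_mem_endAlg N g hg a.1 a.2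
    have h2 := W.smul_mem ⟨_, h1⟩ hv
    have h3 : (⟨_, h1⟩ : endAlg N) •
        (Matrix.toLin' ((g⁻¹ : GL (Fin n) F) : Matrix (Fin n) (Fin n) F) v) =
        Matrix.toLin' ((g⁻¹ : GL (Fin n) F) : Matrix (Fin n) (Fin n) F) (a • v) := by
      show (Matrix.toLin' ((g⁻¹ : GL (Fin n) F) : Matrix (Fin n) (Fin n) F) * a.1 *
        Matrix.toLin' (g : Matrix (Fin n) (Fin n) F))
          (Matrix.toLin' ((g⁻¹ : GL (Fin n) F) : Matrix (Fin n) (Fin n) F) v) = _
      rw [Module.End.mul_apply, Module.End.mul_apply, hinv']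
      rfl
    rw [← h3]
    exact h2

theorem mem_translate (N : Subgroup (GL (Fin n) F)) (g : GL (Fin n) F)
    (hg : ∀ x ∈ N, g⁻¹ * x * g ∈ N) (W : Submodule (endAlg N) (Fin n → F)) (v : Fin n → F) :
    v ∈ translate N g hg W ↔
      Matrix.toLin' ((g⁻¹ : GL (Fin n) F) : Matrix (Fin n) (Fin n) F) v ∈ W := Iff.rfl

theorem translate_mono (N : Subgroup (GL (Fin n) F)) (g : GL (Fin n) F)
    (hg : ∀ x ∈ N, g⁻¹ * x * g ∈ N) {W W' : Submodule (endAlg N) (Fin n → F)} (h : W ≤ W') :
    translate N g hg W ≤ translate N g hg W' := fun _ hv => h hv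

theorem translate_translate (N : Subgroup (GL (Fin n) F)) (g : GL (Fin n) F)
    (hg : ∀ x ∈ N, g⁻¹ * x * g ∈ N) (hg' : ∀ x ∈ N, g⁻¹⁻¹ * x * g⁻¹ ∈ N)
    (W : Submodule (endAlg N) (Fin n → F)) :
    translate N g hg (translate N g⁻¹ hg' W) = W := by
  ext v
  rw [mem_translate, mem_translate]
  have : Matrix.toLin' ((g⁻¹⁻¹ : GL (Fin n) F) : Matrix (Fin n) (Fin n) F)
        (Matrix.toLin' ((g⁻¹ : GL (Fin n) F) : Matrix (Fin n) (Fin n) F) v) = v := by
    rw [← LinearMap.comp_apply, ← Matrix.toLin'_mul, ← Matrix.GeneralLinearGroup.coe_mul,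
      inv_mul_cancel, Matrix.GeneralLinearGroup.coe_one, Matrix.toLin'_one]; rfl
  rw [this]

theorem translate_translate' (N : Subgroup (GL (Fin n) F)) (g : GL (Fin n) F)
    (hg : ∀ x ∈ N, g⁻¹ * x * g ∈ N) (hg' : ∀ x ∈ N, g⁻¹⁻¹ * x * g⁻¹ ∈ N)
    (W : Submodule (endAlg N) (Fin n → F)) :
    translate N g⁻¹ hg' (translate N g hg W) = W := by
  ext v
  rw [mem_translate, mem_translate]
  have : Matrix.toLin' ((g⁻¹ : GL (Fin n) F) : Matrix (Fin n) (Fin n) F)
        (Matrix.toLin' ((g⁻¹⁻¹ : GL (Fin n) F) : Matrix (Fin n) (Fin n) F) v) = v := by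
    rw [← LinearMap.comp_apply, ← Matrix.toLin'_mul, ← Matrix.GeneralLinearGroup.coe_mul,
      mul_inv_cancel, Matrix.GeneralLinearGroup.coe_one, Matrix.toLin'_one]; rfl
  rw [this]

/-- translation as an order isomorphism of the submodule lattice -/
def translateIso (N : Subgroup (GL (Fin n) F)) (g : GL (Fin n) F)
    (hg : ∀ x ∈ N, g⁻¹ * x * g ∈ N) (hg' : ∀ x ∈ N, g⁻¹⁻¹ * x * g⁻¹ ∈ N) :
    Submodule (endAlg N) (Fin n → F) ≃o Submodule (endAlg N) (Fin n → F) where
  toFun := translate N g hg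
  invFun := translate N g⁻¹ hg'
  left_inv := translate_translate' N g hg hg'
  right_inv := translate_translate N g hg hg'
  map_rel_iff' := by
    intro W W'
    constructor
    · intro h
      have := translate_mono N g⁻¹ hg' h
      simpa only [Equiv.coe_fn_mk, translate_translate'] using this
    · intro h
      exact translate_mono N g hg h

/-- the sum of the simple submodules is everything -/
theorem sSup_atoms_eq_top (H N : Subgroup (GL (Fin n) F))
    (hirr : ActsIrreducibly (matrixSet H)) (hnrm : Nrm H N) :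
    sSup {m : Submodule (endAlg N) (Fin n → F) | IsAtom m} = ⊤ := by
  classical
  have hart : IsArtinian (endAlg N) (Fin n → F) := isArtinian_of_tower F inferInstance
  set S : Submodule (endAlg N) (Fin n → F) :=
    sSup {m : Submodule (endAlg N) (Fin n → F) | IsAtom m} with hS
  -- conjugation hypotheses
  have hconj : ∀ h ∈ H, ∀ x ∈ N, h⁻¹ * x * h ∈ N := by
    intro h hh x hx
    have := hnrm h⁻¹ (H.inv_mem hh) x hx
    rwa [inv_inv] at this
  have hconj' : ∀ h ∈ H, ∀ x ∈ N, h⁻¹⁻¹ * x * h⁻¹ ∈ N := by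
    intro h hh x hx
    have := hnrm h hh x hx
    rwa [inv_inv]
  -- `S` is invariant under the translations
  have hinv : ∀ h (hh : h ∈ H), translate N h (hconj h hh) S ≤ S := by
    intro h hh
    have e : translate N h (hconj h hh) S =
        translateIso N h (hconj h hh) (hconj' h hh) S := rfl
    rw [e, hS, OrderIso.map_sSup]
    apply iSup₂_le
    intro W hW
    apply le_sSup
    exact (OrderIso.isAtom_iff _ _).mpr hW
  -- the underlying `F`-subspace is `H`-invariant
  have hH : ∀ s ∈ matrixSet H, (S.restrictScalars F).map (Matrix.toLin' s) ≤ S.restrictScalars F := by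
    rintro s ⟨h, hh, rfl⟩ v hv
    obtain ⟨w, hw, rfl⟩ := hv
    apply hinv h hh
    rw [mem_translate]
    have : Matrix.toLin' ((h⁻¹ : GL (Fin n) F) : Matrix (Fin n) (Fin n) F)
        (Matrix.toLin' (h : Matrix (Fin n) (Fin n) F) w) = w := by
      rw [← LinearMap.comp_apply, ← Matrix.toLin'_mul, ← Matrix.GeneralLinearGroup.coe_mul,
        inv_mul_cancel, Matrix.GeneralLinearGroup.coe_one, Matrix.toLin'_one]; rfl
    rw [this]
    exact hw
  rcases hirr _ hH with h0 | h1
  · -- `S = ⊥`: then there is no atom, so the module is trivial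
    have hS0 : S = ⊥ := by
      rw [← Submodule.restrictScalars_eq_bot_iff (S := F)] ; exact h0
    rcases eq_bot_or_exists_atom_le (⊤ : Submodule (endAlg N) (Fin n → F)) with ht | ⟨a, ha, -⟩
    · rw [hS0, ht]
    · exfalso
      have : a ≤ S := le_sSup ha
      rw [hS0, le_bot_iff] at this
      exact ha.1 this
  · rw [← Submodule.restrictScalars_eq_top_iff (S := F)]; exact h1

end Cfsg.Agent.Lib.Helper66.AschSS

namespace Cfsg.Agent.Lib.Helper99.Asch

open Cfsg Cfsg.Geo Cfsg.Agent.Lib.Helper66.AschSS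
open scoped MatrixGroups Matrix

variable {n : ℕ} {F : Type*} [Field F]

theorem semisimple_of_normalized (H N : Subgroup (GL (Fin n) F))
    (hirr : ActsIrreducibly (matrixSet H)) (hnrm : Nrm H N) :
    IsSemisimpleModule (endAlg N) (Fin n → F) := by
  apply IsSemisimpleModule.of_sSup_simples_eq_top
  simp_rw [isSimpleModule_iff_isAtom]
  exact sSup_atoms_eq_top H N hirr hnrm

end Cfsg.Agent.Lib.Helper99.Asch
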