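import Mathlib
import Cfsg.Prelude.Def_HallClasses

/-!
# Hall π-subgroups: basic permanence properties (helper66, modules HALL-[HALLBASIC], HALL-[TRIV]
for helper15's S4310/S1908 project)
-/

set_option autoImplicit false
set_option linter.unusedSectionVars false
set_option linter.unusedSimpArgs false
set_option linter.unusedVariables false
set_option linter.style.haveILetI false

namespace Cfsg.Agent.Lib.Helper66.Hall

universe u

variable {G : Type u} [Group G]

/-- `n` is a π-number -/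
def PiNum (π : Set ℕ) (n : ℕ) : Prop := ∀ p : ℕ, p.Prime → p ∣ n → p ∈ π

/-- `n` is a π'-number -/
def PiPrimeNum (π : Set ℕ) (n : ℕ) : Prop := ∀ p : ℕ, p.Prime → p ∈ π → ¬ p ∣ n

theorem PiNum.of_dvd {π : Set ℕ} {m n : ℕ} (h : PiNum π n) (hd : m ∣ n) : PiNum π m :=
  fun p hp hpm => h p hp (dvd_trans hpm hd)

theorem PiPrimeNum.of_dvd {π : Set ℕ} {m n : ℕ} (h : PiPrimeNum π n) (hd : m ∣ n) :
    PiPrimeNum π m :=
  fun p hp hpπ hpm => h p hp hpπ (dvd_trans hpm hd)

theorem PiNum.mul {π : Set ℕ} {m n : ℕ} (hm : PiNum π m) (hn : PiNum π n) : PiNum π (m * n) := by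
  intro p hp hd
  rcases (Nat.Prime.dvd_mul hp).mp hd with h | h
  · exact hm p hp h
  · exact hn p hp h

theorem PiPrimeNum.mul {π : Set ℕ} {m n : ℕ} (hm : PiPrimeNum π m) (hn : PiPrimeNum π n) :
    PiPrimeNum π (m * n) := by
  intro p hp hpπ hd
  rcases (Nat.Prime.dvd_mul hp).mp hd with h | h
  · exact hm p hp hpπ h
  · exact hn p hp hpπ h

theorem piNum_one (π : Set ℕ) : PiNum π 1 := by
  intro p hp hd
  exact absurd (Nat.dvd_one.mp hd) hp.one_lt.ne'

theorem piPrimeNum_one (π : Set ℕ) : PiPrimeNum π 1 := by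
  intro p hp _ hd
  exact absurd (Nat.dvd_one.mp hd) hp.one_lt.ne'

theorem eq_one_of_piNum_of_piPrimeNum {π : Set ℕ} {n : ℕ} (h1 : PiNum π n) (h2 : PiPrimeNum π n) :
    n = 1 := by
  by_contra hn
  obtain ⟨p, hp, hd⟩ := Nat.exists_prime_and_dvd hn
  exact h2 p hp (h1 p hp hd) hd

theorem coprime_of_piNum_of_piPrimeNum {π : Set ℕ} {m n : ℕ} (h1 : PiNum π m)
    (h2 : PiPrimeNum π n) : Nat.Coprime m n := by
  apply Nat.coprime_of_dvd
  intro p hp hpm hpn
  exact h2 p hp (h1 p hp hpm) hpn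

theorem isPiHall_iff {π : Set ℕ} {H : Subgroup G} :
    Cfsg.IsPiHall π H ↔ PiNum π (Nat.card H) ∧ PiPrimeNum π H.index := Iff.rfl

/-- for `A` normal, `[A : H ∩ A] = [HA : H]` -/
theorem relIndex_sup_eq_of_normal [Finite G] (H A : Subgroup G) [A.Normal] :
    H.relIndex (H ⊔ A) = H.relIndex A := by
  have cmr : ∀ {X Y : Subgroup G}, X ≤ Y → Nat.card X * X.relIndex Y = Nat.card Y := by
    intro X Y h
    have h1 := (X.subgroupOf Y).card_mul_index
    rwa [Nat.card_congr (Subgroup.subgroupOfEquivOfLe h).toEquiv] at h1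
  have e1 : Nat.card A * A.relIndex (H ⊔ A) = Nat.card (H ⊔ A : Subgroup G) := cmr le_sup_right
  have e2 : Nat.card (H ⊓ A : Subgroup G) * A.relIndex H = Nat.card H := by
    have := cmr (inf_le_left : H ⊓ A ≤ H)
    rwa [Subgroup.inf_relIndex_left] at this
  have e3 : Nat.card (H ⊓ A : Subgroup G) * H.relIndex A = Nat.card A := by
    have := cmr (inf_le_right : H ⊓ A ≤ A)
    rwa [Subgroup.inf_relIndex_right] at this
  have e4 : Nat.card H * H.relIndex (H ⊔ A) = Nat.card (H ⊔ A : Subgroup G) := cmr le_sup_left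
  have e5 : A.relIndex (H ⊔ A) = A.relIndex H := Subgroup.relIndex_sup_right H A
  have hpos : 0 < Nat.card H := Nat.card_pos
  apply Nat.eq_of_mul_eq_mul_left hpos
  rw [e4, ← e1, e5, ← e3, mul_assoc, mul_comm (H.relIndex A), ← mul_assoc, e2]

theorem relIndex_dvd_index_of_normal' [Finite G] (H A : Subgroup G) [A.Normal] :
    H.relIndex A ∣ H.index := by
  rw [← relIndex_sup_eq_of_normal H A]
  exact Subgroup.relIndex_dvd_index_of_le le_sup_left

/-! ### Module HALL-[HALLBASIC] -/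

theorem isPiHall_map_conj [Finite G] {π : Set ℕ} {H : Subgroup G} (hH : Cfsg.IsPiHall π H)
    (g : G) : Cfsg.IsPiHall π (H.map (MulAut.conj g).toMonoidHom) := by
  refine ⟨?_, ?_⟩
  · rw [Subgroup.card_map_of_injective (MulAut.conj g).injective]
    exact hH.1
  · have : (H.map (MulAut.conj g).toMonoidHom).index = H.index :=
      Subgroup.index_map_equiv H (MulAut.conj g)
    rw [this]
    exact hH.2

theorem isPiHall_map_mk [Finite G] {π : Set ℕ} (A : Subgroup G) [A.Normal] {H : Subgroup G}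
    (hH : Cfsg.IsPiHall π H) : Cfsg.IsPiHall π (H.map (QuotientGroup.mk' A)) := by
  refine ⟨?_, ?_⟩
  · exact PiNum.of_dvd hH.1 (Subgroup.card_map_dvd H (QuotientGroup.mk' A))
  · exact PiPrimeNum.of_dvd hH.2
      (Subgroup.index_map_dvd H (QuotientGroup.mk'_surjective A))

theorem isPiHall_subgroupOf [Finite G] {π : Set ℕ} (A : Subgroup G) [A.Normal] {H : Subgroup G}
    (hH : Cfsg.IsPiHall π H) : Cfsg.IsPiHall π (H.subgroupOf A) := by
  refine ⟨?_, ?_⟩
  · have h1 : Nat.card (H.subgroupOf A) = Nat.card (H ⊓ A : Subgroup G) := by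
      rw [← Subgroup.inf_subgroupOf_right H A]
      exact Nat.card_congr (Subgroup.subgroupOfEquivOfLe inf_le_right).toEquiv
    rw [h1]
    exact PiNum.of_dvd hH.1 (Subgroup.card_dvd_of_le inf_le_left)
  · exact PiPrimeNum.of_dvd hH.2 (relIndex_dvd_index_of_normal' H A)

theorem isPiHall_comap_mk [Finite G] {π : Set ℕ} (A : Subgroup G) [A.Normal]
    (hA : ∀ p : ℕ, p.Prime → p ∣ Nat.card A → p ∈ π) {K : Subgroup (G ⧸ A)}
    (hK : Cfsg.IsPiHall π K) : Cfsg.IsPiHall π (K.comap (QuotientGroup.mk' A)) := by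
  refine ⟨?_, ?_⟩
  · have h1 : Nat.card (K.comap (QuotientGroup.mk' A)) = Nat.card A * Nat.card K :=
      QuotientGroup.card_preimage_mk A (K : Set (G ⧸ A))
    rw [h1]
    exact PiNum.mul hA hK.1
  · rw [Subgroup.index_comap_of_surjective K (QuotientGroup.mk'_surjective A)]
    exact hK.2

/-! ### Module HALL-[TRIV] -/

theorem isPiHall_top_of_pi [Finite G] {π : Set ℕ}
    (h : ∀ p : ℕ, p.Prime → p ∣ Nat.card G → p ∈ π) : Cfsg.IsPiHall π (⊤ : Subgroup G) := by
  refine ⟨?_, ?_⟩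
  · rw [Subgroup.card_top]; exact h
  · rw [Subgroup.index_top]; exact piPrimeNum_one π

theorem isCPiGroup_of_pi [Finite G] (π : Set ℕ)
    (h : ∀ p : ℕ, p.Prime → p ∣ Nat.card G → p ∈ π) : Cfsg.IsCPiGroup π G := by
  refine ⟨⟨⊤, isPiHall_top_of_pi h⟩, ?_⟩
  have key : ∀ H : Subgroup G, Cfsg.IsPiHall π H → H = ⊤ := by
    intro H hH
    have h1 : PiNum π H.index := PiNum.of_dvd h (Subgroup.index_dvd_card H)
    exact Subgroup.index_eq_one.mp (eq_one_of_piNum_of_piPrimeNum h1 hH.2)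
  intro H K hH hK
  refine ⟨1, ?_⟩
  rw [key H hH, key K hK, Subgroup.map_top_of_surjective _ (MulAut.conj (1 : G)).surjective]

theorem isCPiGroup_of_pi' [Finite G] (π : Set ℕ)
    (h : ∀ p : ℕ, p.Prime → p ∣ Nat.card G → p ∉ π) : Cfsg.IsCPiGroup π G := by
  have h' : PiPrimeNum π (Nat.card G) := fun p hp hpπ hd => h p hp hd hpπ
  refine ⟨⟨⊥, ?_, ?_⟩, ?_⟩
  · rw [Subgroup.card_bot]; exact piNum_one π
  · rw [Subgroup.index_bot]; exact h'
  have key : ∀ H : Subgroup G, Cfsg.IsPiHall π H → H = ⊥ := by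
    intro H hH
    have h1 : PiPrimeNum π (Nat.card H) := PiPrimeNum.of_dvd h' (Subgroup.card_subgroup_dvd_card H)
    exact Subgroup.card_eq_one.mp (eq_one_of_piNum_of_piPrimeNum hH.1 h1)
  intro H K hH hK
  refine ⟨1, ?_⟩
  rw [key H hH, key K hK, Subgroup.map_bot]

end Cfsg.Agent.Lib.Helper66.Hall
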