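import Mathlib
import Cfsg.Prelude.Def_HallClasses
import Cfsg.Agent.Lib.Helper66.HallBasic

/-!
# Chunikhin existence (helper66, module HALL-[EXIST] for helper15's S4310/S1908 project)

If `A ⊴ G`, `A ∈ C_π` and `G ⧸ A ∈ E_π` then `G ∈ E_π`.
-/

set_option autoImplicit false
set_option linter.unusedSectionVars false
set_option linter.unusedSimpArgs false
set_option linter.unusedVariables false
set_option linter.style.haveILetI false

namespace Cfsg.Agent.Lib.Helper66.Hall

universe u

variable {G : Type u} [Group G]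

/-- `|H| * [K : H] = |K|` for `H ≤ K`. -/
theorem card_mul_relIndex' {H K : Subgroup G} (h : H ≤ K) :
    Nat.card H * H.relIndex K = Nat.card K := by
  have h1 := (H.subgroupOf K).card_mul_index
  rwa [Nat.card_congr (Subgroup.subgroupOfEquivOfLe h).toEquiv] at h1

/-- Schur–Zassenhaus existence in a section: `D ≤ X ≤ K₁`, `D, X ⊴ K₁`, `[X : D]` coprime to
`[K₁ : X]`: there is a subgroup of order `|D| [K₁ : X]`. -/
theorem exists_card_of_coprime_section [Finite G] (D X K₁ : Subgroup G) (hDX : D ≤ X)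
    (hXK : X ≤ K₁) (hDn : K₁ ≤ Subgroup.normalizer (D : Set G))
    (hXn : K₁ ≤ Subgroup.normalizer (X : Set G))
    (hcop : Nat.Coprime (D.relIndex X) (X.relIndex K₁)) :
    ∃ H : Subgroup G, Nat.card H = Nat.card D * X.relIndex K₁ := by
  haveI hD1n : (D.subgroupOf K₁).Normal := Subgroup.normal_subgroupOf_of_le_normalizer hDn
  haveI hX1n : (X.subgroupOf K₁).Normal := Subgroup.normal_subgroupOf_of_le_normalizer hXn
  have hsurj : Function.Surjective (QuotientGroup.mk' (D.subgroupOf K₁)) :=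
    QuotientGroup.mk'_surjective _
  haveI hXqn : ((X.subgroupOf K₁).map (QuotientGroup.mk' (D.subgroupOf K₁))).Normal :=
    Subgroup.Normal.map hX1n _ hsurj
  have hD1X1 : D.subgroupOf K₁ ≤ X.subgroupOf K₁ := by
    intro x hx
    exact Subgroup.mem_subgroupOf.mpr (hDX (Subgroup.mem_subgroupOf.mp hx))
  have hker : (QuotientGroup.mk' (D.subgroupOf K₁)).ker ≤ X.subgroupOf K₁ := by
    rw [QuotientGroup.ker_mk']; exact hD1X1
  -- cardinalities
  have hcardD1 : Nat.card (D.subgroupOf K₁) = Nat.card D :=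
    Nat.card_congr (Subgroup.subgroupOfEquivOfLe (le_trans hDX hXK)).toEquiv
  have hcardX1 : Nat.card (X.subgroupOf K₁) = Nat.card X :=
    Nat.card_congr (Subgroup.subgroupOfEquivOfLe hXK).toEquiv
  have hcardXq : Nat.card ((X.subgroupOf K₁).map (QuotientGroup.mk' (D.subgroupOf K₁))) =
      D.relIndex X := by
    have h1 : Nat.card (((X.subgroupOf K₁).map (QuotientGroup.mk' (D.subgroupOf K₁))).comap
        (QuotientGroup.mk' (D.subgroupOf K₁))) =
        Nat.card (D.subgroupOf K₁) *
          Nat.card ((X.subgroupOf K₁).map (QuotientGroup.mk' (D.subgroupOf K₁))) :=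
      QuotientGroup.card_preimage_mk (D.subgroupOf K₁)
        (((X.subgroupOf K₁).map (QuotientGroup.mk' (D.subgroupOf K₁)) :
          Subgroup (↥K₁ ⧸ D.subgroupOf K₁)) : Set (↥K₁ ⧸ D.subgroupOf K₁))
    rw [Subgroup.comap_map_eq_self hker, hcardX1, hcardD1, ← card_mul_relIndex' hDX] at h1
    exact (Nat.eq_of_mul_eq_mul_left Nat.card_pos h1).symm
  have hindXq : ((X.subgroupOf K₁).map (QuotientGroup.mk' (D.subgroupOf K₁))).index =
      X.relIndex K₁ := by
    rw [Subgroup.index_map_eq _ hsurj hker]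
    rfl
  have hcop' : Nat.Coprime
      (Nat.card ((X.subgroupOf K₁).map (QuotientGroup.mk' (D.subgroupOf K₁))))
      ((X.subgroupOf K₁).map (QuotientGroup.mk' (D.subgroupOf K₁))).index := by
    rw [hcardXq, hindXq]; exact hcop
  obtain ⟨C, hC⟩ := Subgroup.exists_right_complement'_of_coprime hcop'
  have hcardC : Nat.card C = X.relIndex K₁ := by
    have h1 := hC.card_mul_card
    have h2 := ((X.subgroupOf K₁).map (QuotientGroup.mk' (D.subgroupOf K₁))).card_mul_index
    rw [← h2, hindXq] at h1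
    exact Nat.eq_of_mul_eq_mul_left Nat.card_pos h1
  refine ⟨(C.comap (QuotientGroup.mk' (D.subgroupOf K₁))).map K₁.subtype, ?_⟩
  rw [Subgroup.card_map_of_injective (Subgroup.subtype_injective K₁)]
  have h3 : Nat.card (C.comap (QuotientGroup.mk' (D.subgroupOf K₁))) =
      Nat.card (D.subgroupOf K₁) * Nat.card C :=
    QuotientGroup.card_preimage_mk (D.subgroupOf K₁) (C : Set (↥K₁ ⧸ D.subgroupOf K₁))
  rw [h3, hcardD1, hcardC]

/-- Frattini argument for Hall subgroups of a normal `C_π`-subgroup. -/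
theorem frattini_hall [Finite G] (π : Set ℕ) (A : Subgroup G) [A.Normal]
    (hA : Cfsg.IsCPiGroup π ↥A) (D₀ : Subgroup ↥A) (hD₀ : Cfsg.IsPiHall π D₀) (g : G) :
    ∃ a : G, a ∈ A ∧ a⁻¹ * g ∈ Subgroup.normalizer ((D₀.map A.subtype : Subgroup G) : Set G) := by
  -- the conjugate of `D₀` by `g` inside `A`
  obtain ⟨φ, hφ⟩ : ∃ φ : MulAut A, ∀ x : A, ((φ x : A) : G) = g * x * g⁻¹ :=
    ⟨MulAut.conjNormal g, fun x => MulAut.conjNormal_apply g x⟩
  have hE₀ : Cfsg.IsPiHall π (D₀.map φ.toMonoidHom) := by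
    refine ⟨?_, ?_⟩
    · rw [Subgroup.card_map_of_injective φ.injective]
      exact hD₀.1
    · have : (D₀.map φ.toMonoidHom).index = D₀.index := Subgroup.index_map_equiv D₀ φ
      rw [this]
      exact hD₀.2
  obtain ⟨a, ha⟩ := hA.2 D₀ _ hD₀ hE₀
  refine ⟨(a : G), a.2, ?_⟩
  -- push both sides to `G`
  have h1 : A.subtype.comp φ.toMonoidHom = (MulAut.conj g).toMonoidHom.comp A.subtype := by
    ext x
    simp [hφ]
  have h2 : A.subtype.comp (MulAut.conj a).toMonoidHom =
      (MulAut.conj (a : G)).toMonoidHom.comp A.subtype := by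
    ext x
    simp
  have h3 : (D₀.map A.subtype).map (MulAut.conj g).toMonoidHom =
      (D₀.map A.subtype).map (MulAut.conj (a : G)).toMonoidHom := by
    rw [Subgroup.map_map, Subgroup.map_map, ← h1, ← h2, ← Subgroup.map_map, ← Subgroup.map_map, ha]
  rw [Subgroup.mem_normalizer_iff]
  intro h
  constructor
  · intro hh
    -- `g h g⁻¹ ∈ D^g = D^a`, so `a⁻¹ g h g⁻¹ a ∈ D`
    have h4 : g * h * g⁻¹ ∈ (D₀.map A.subtype).map (MulAut.conj (a : G)).toMonoidHom := by
      rw [← h3]
      exact ⟨h, hh, rfl⟩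
    obtain ⟨d, hd, hd'⟩ := h4
    have hd'' : (a : G) * d * (a : G)⁻¹ = g * h * g⁻¹ := hd'
    have : (a : G)⁻¹ * g * h * ((a : G)⁻¹ * g)⁻¹ = d := by
      rw [mul_inv_rev, inv_inv]
      calc (a : G)⁻¹ * g * h * (g⁻¹ * (a : G)) = (a : G)⁻¹ * (g * h * g⁻¹) * (a : G) := by group
        _ = (a : G)⁻¹ * ((a : G) * d * (a : G)⁻¹) * (a : G) := by rw [hd'']
        _ = d := by group
    rw [this]; exact hd
  · intro hh
    -- `a (a⁻¹ g h g⁻¹ a) a⁻¹ = g h g⁻¹ ∈ D^a = D^g`
    have h4 : g * h * g⁻¹ ∈ (D₀.map A.subtype).map (MulAut.conj g).toMonoidHom := by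
      rw [h3]
      refine ⟨(a : G)⁻¹ * g * h * ((a : G)⁻¹ * g)⁻¹, hh, ?_⟩
      show (a : G) * ((a : G)⁻¹ * g * h * ((a : G)⁻¹ * g)⁻¹) * (a : G)⁻¹ = g * h * g⁻¹
      group
    obtain ⟨d, hd, hd'⟩ := h4
    have hd'' : g * d * g⁻¹ = g * h * g⁻¹ := hd'
    have : d = h := by
      have := mul_right_cancel hd''
      exact mul_left_cancel this
    rw [← this]; exact hd

theorem isEPiGroup_of_normal [Finite G] (π : Set ℕ) (A : Subgroup G) [A.Normal]
    (hA : Cfsg.IsCPiGroup π ↥A) (hQ : Cfsg.IsEPiGroup π (G ⧸ A)) : Cfsg.IsEPiGroup π G := by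
  obtain ⟨D₀, hD₀⟩ := hA.1
  obtain ⟨Kbar, hKbar⟩ := hQ
  set D : Subgroup G := D₀.map A.subtype with hD
  set N : Subgroup G := Subgroup.normalizer (D : Set G) with hN
  set K₁ : Subgroup G := N ⊓ Kbar.comap (QuotientGroup.mk' A) with hK₁
  set X : Subgroup G := A ⊓ N with hX
  have hDA : D ≤ A := Subgroup.map_subtype_le D₀
  have hDN : D ≤ N := Subgroup.le_normalizer
  have hDX : D ≤ X := le_inf hDA hDN
  have hAcomap : A ≤ Kbar.comap (QuotientGroup.mk' A) := by
    intro x hx
    rw [Subgroup.mem_comap]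
    have : QuotientGroup.mk' A x = 1 := by
      rw [← MonoidHom.mem_ker, QuotientGroup.ker_mk']; exact hx
    rw [this]; exact Kbar.one_mem
  have hXK : X ≤ K₁ := le_inf inf_le_right (le_trans inf_le_left hAcomap)
  have hDn : K₁ ≤ Subgroup.normalizer (D : Set G) := inf_le_left
  have hXn : K₁ ≤ Subgroup.normalizer (X : Set G) := by
    intro k hk
    have hkN : k ∈ N := hk.1
    rw [Subgroup.mem_normalizer_iff]
    intro h
    have hA' : h ∈ A ↔ k * h * k⁻¹ ∈ A := by
      constructor
      · intro hh; exact Subgroup.Normal.conj_mem inferInstance h hh k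
      · intro hh
        have := Subgroup.Normal.conj_mem (inferInstance : A.Normal) _ hh k⁻¹
        simpa [mul_assoc] using this
    have hN' : h ∈ N ↔ k * h * k⁻¹ ∈ N := by
      constructor
      · intro hh; exact N.mul_mem (N.mul_mem hkN hh) (N.inv_mem hkN)
      · intro hh
        have := N.mul_mem (N.mul_mem (N.inv_mem hkN) hh) hkN
        simpa [mul_assoc] using this
    rw [hX, Subgroup.mem_inf, Subgroup.mem_inf, hA', hN']
  -- `K₁` covers `Kbar`
  have hcover : K₁.map (QuotientGroup.mk' A) = Kbar := by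
    apply le_antisymm
    · rintro _ ⟨k, hk, rfl⟩
      exact hk.2
    · intro kb hkb
      obtain ⟨g, rfl⟩ := QuotientGroup.mk'_surjective A kb
      obtain ⟨a, haA, han⟩ := frattini_hall π A hA D₀ hD₀ g
      refine ⟨a⁻¹ * g, ⟨han, ?_⟩, ?_⟩
      · show QuotientGroup.mk' A (a⁻¹ * g) ∈ Kbar
        rw [map_mul]
        have : QuotientGroup.mk' A a⁻¹ = 1 := by
          rw [← MonoidHom.mem_ker, QuotientGroup.ker_mk']; exact A.inv_mem haA
        rw [this, one_mul]; exact hkb
      · rw [map_mul]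
        have : QuotientGroup.mk' A a⁻¹ = 1 := by
          rw [← MonoidHom.mem_ker, QuotientGroup.ker_mk']; exact A.inv_mem haA
        rw [this, one_mul]
  -- the two relative indices
  have hrel1 : X.relIndex K₁ = Nat.card Kbar := by
    have h1 : X.subgroupOf K₁ = A.subgroupOf K₁ := by
      ext x
      rw [Subgroup.mem_subgroupOf, Subgroup.mem_subgroupOf, hX, Subgroup.mem_inf]
      constructor
      · intro h; exact h.1
      · intro h; exact ⟨h, x.2.1⟩
    have h2 : X.relIndex K₁ = A.relIndex K₁ := by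
      unfold Subgroup.relIndex; rw [h1]
    have h3 := Subgroup.relIndex_ker (K := K₁) (QuotientGroup.mk' A)
    rw [QuotientGroup.ker_mk', hcover] at h3
    rw [h2, h3]
  have hD₀eq : D.subgroupOf A = D₀ := by
    rw [hD]
    exact Subgroup.comap_map_eq_self_of_injective (Subgroup.subtype_injective A) D₀
  have hrelDA : D.relIndex A = D₀.index := by
    unfold Subgroup.relIndex; rw [hD₀eq]
  have hrel2 : D.relIndex X ∣ D₀.index := by
    rw [← hrelDA]
    have e1 := card_mul_relIndex' hDX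
    have e2 := card_mul_relIndex' hDA
    have e3 : Nat.card X ∣ Nat.card A := Subgroup.card_dvd_of_le inf_le_left
    rw [← e1, ← e2] at e3
    exact Nat.dvd_of_mul_dvd_mul_left Nat.card_pos e3
  have hcop : Nat.Coprime (D.relIndex X) (X.relIndex K₁) := by
    rw [hrel1]
    exact (coprime_of_piNum_of_piPrimeNum (π := π) hKbar.1
      (PiPrimeNum.of_dvd hD₀.2 hrel2)).symm
  obtain ⟨H, hH⟩ := exists_card_of_coprime_section D X K₁ hDX hXK hDn hXn hcop
  rw [hrel1] at hH
  have hcardD : Nat.card D = Nat.card D₀ := by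
    rw [hD]; exact Subgroup.card_map_of_injective (Subgroup.subtype_injective A)
  refine ⟨H, ?_, ?_⟩
  · rw [hH, hcardD]
    exact PiNum.mul hD₀.1 hKbar.1
  · -- the index of `H`
    have e1 : H.index * Nat.card H = Nat.card G := H.index_mul_card
    have e2 : Nat.card A * Nat.card (G ⧸ A) = Nat.card G := by
      rw [← Subgroup.index_eq_card, mul_comm]; exact A.index_mul_card
    have e3 : Nat.card D₀ * D₀.index = Nat.card A := D₀.card_mul_index
    have e4 : Nat.card Kbar * Kbar.index = Nat.card (G ⧸ A) := Kbar.card_mul_index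
    have e5 : H.index = D₀.index * Kbar.index := by
      have hpos : 0 < Nat.card D₀ * Nat.card Kbar := Nat.mul_pos Nat.card_pos Nat.card_pos
      apply Nat.eq_of_mul_eq_mul_left hpos
      calc Nat.card D₀ * Nat.card Kbar * H.index = H.index * Nat.card H := by
            rw [hH, hcardD]; ring
        _ = Nat.card G := e1
        _ = (Nat.card D₀ * D₀.index) * (Nat.card Kbar * Kbar.index) := by rw [e3, e4, e2]
        _ = Nat.card D₀ * Nat.card Kbar * (D₀.index * Kbar.index) := by ring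
    rw [e5]
    exact PiPrimeNum.mul hD₀.2 hKbar.2

end Cfsg.Agent.Lib.Helper66.Hall
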