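import Mathlib
import Cfsg.Prelude.Def_OddOrderLocal
import Cfsg.Agent.S1412

/-!
# BG Theorem 15.7 project, module [R2] (helper66)

Consequences of the landed `S1412` for a nonabelian Sylow `p`-subgroup `P` of rank `≤ 2` of a
minimal simple group of odd order: `p`-th powers and commutators of `P` are central in `P`,
commutators have order dividing `p`, and if `Z(P)` has exponent `p` then `|P| = p ^ 3`.
-/

set_option autoImplicit false
set_option linter.unusedSectionVars false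
set_option linter.unusedSimpArgs false
set_option linter.unusedVariables false

namespace Cfsg.Agent.Lib.Helper66.BGRankTwo

open Cfsg

section general

variable {G : Type*} [Group G]

/-- Elements of the join of two elementwise commuting subgroups are products. -/
theorem exists_mul_of_mem_sup_of_comm (A B : Subgroup G)
    (hcomm : ∀ a ∈ A, ∀ b ∈ B, a * b = b * a) {x : G} (hx : x ∈ A ⊔ B) :
    ∃ a ∈ A, ∃ b ∈ B, x = a * b := by
  have comm : ∀ (m : ↥A) (n : ↥B), Commute (A.subtype m) (B.subtype n) :=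
    fun m n => hcomm m.1 m.2 n.1 n.2
  have hrange : (A.subtype.noncommCoprod B.subtype comm).range = A ⊔ B := by
    rw [MonoidHom.noncommCoprod_range, Subgroup.range_subtype, Subgroup.range_subtype]
  rw [← hrange] at hx
  obtain ⟨⟨a, b⟩, rfl⟩ := hx
  exact ⟨a.1, a.2, b.1, b.2, rfl⟩

/-- a group of order dividing `p ^ 2` is commutative -/
theorem comm_of_card_dvd_prime_sq {H : Type*} [Group H] [Finite H] {p : ℕ} [hp : Fact p.Prime]
    (h : Nat.card H ∣ p ^ 2) (a b : H) : a * b = b * a := by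
  obtain ⟨k, hk, hc⟩ := (Nat.dvd_prime_pow hp.out).mp h
  interval_cases k
  · rw [pow_zero] at hc
    have := (Nat.card_eq_one_iff_unique.mp hc).1
    exact Subsingleton.elim _ _
  · rw [pow_one] at hc
    have hcyc : IsCyclic H := isCyclic_of_prime_card hc
    exact (IsCyclic.commGroup (α := H)).mul_comm a b
  · have := IsPGroup.isMulCommutative_of_card_eq_prime_sq (G := H) hc
    exact this.is_comm.comm a b

/-- In a group of order `p ^ 3` all commutators are central. -/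
theorem comm_central_of_card_cube {H : Type*} [Group H] [Finite H] {p : ℕ}
    [hp : Fact p.Prime] (hH : Nat.card H = p ^ 3) (a b c : H) :
    (a * b * a⁻¹ * b⁻¹) * c = c * (a * b * a⁻¹ * b⁻¹) := by
  have hHp : IsPGroup p H := IsPGroup.of_card hH
  have hnt : Nontrivial H := by
    rw [← Finite.one_lt_card_iff_nontrivial, hH]
    exact Nat.one_lt_pow (by norm_num) hp.out.one_lt
  have hZnt : Nontrivial (Subgroup.center H) := hHp.center_nontrivial
  have hZp : IsPGroup p (Subgroup.center H) := hHp.to_subgroup _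
  obtain ⟨n, hn⟩ := hZp.exists_card_eq
  have hn0 : n ≠ 0 := by
    rintro rfl
    rw [pow_zero] at hn
    have := (Nat.card_eq_one_iff_unique.mp hn).1
    exact not_subsingleton _ this
  have h1 : Nat.card (Subgroup.center H) * (Subgroup.center H).index = p ^ 3 := by
    rw [Subgroup.card_mul_index, hH]
  have h2 : (Subgroup.center H).index ∣ p ^ 2 := by
    have hn3 : n ≤ 3 := by
      have : p ^ n ∣ p ^ 3 := by rw [← hn, ← h1]; exact dvd_mul_right _ _
      exact (Nat.pow_dvd_pow_iff_le_right hp.out.one_lt).mp this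
    have h3 : p ^ n * (Subgroup.center H).index = p ^ n * p ^ (3 - n) := by
      rw [← hn, h1, hn, ← pow_add]; congr 1; omega
    have h4 := Nat.eq_of_mul_eq_mul_left (pow_pos hp.out.pos n) h3
    rw [h4]
    exact pow_dvd_pow p (by omega)
  have hcomm := comm_of_card_dvd_prime_sq (H := H ⧸ Subgroup.center H) (p := p)
    (by rw [← Subgroup.index_eq_card]; exact h2)
  have h5 : (QuotientGroup.mk' (Subgroup.center H)) (a * b * a⁻¹ * b⁻¹) = 1 := by
    rw [map_mul, map_mul, map_mul, map_inv, map_inv,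
      hcomm ((QuotientGroup.mk' (Subgroup.center H)) a) ((QuotientGroup.mk' (Subgroup.center H)) b)]
    group
  have h6 : a * b * a⁻¹ * b⁻¹ ∈ Subgroup.center H := by
    rw [← QuotientGroup.ker_mk' (Subgroup.center H)]; exact h5
  exact (Subgroup.mem_center_iff.mp h6 c).symm

/-- The structural core: the four facts from the central-product decomposition of `S1412`. -/
theorem facts_of_structure [Finite G] {p : ℕ} [hp : Fact p.Prime]
    (Q P₁ P₂ : Subgroup G) (hsup : P₁ ⊔ P₂ = Q) (hcomm : ∀ a ∈ P₁, ∀ b ∈ P₂, a * b = b * a)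
    (hcard : Nat.card P₁ = p ^ 3) (hexp : Monoid.exponent P₁ = p) (hcyc : IsCyclic P₂)
    (hcl : Subgroup.closure {x : G | x ∈ P₂ ∧ x ^ p = 1} = P₁ ⊓ Subgroup.centralizer (P₁ : Set G)) :
    (∀ w ∈ Q, ∀ y ∈ Q, w ^ p * y = y * w ^ p) ∧
    (∀ a ∈ Q, ∀ b ∈ Q, ∀ y ∈ Q, (a * b * a⁻¹ * b⁻¹) * y = y * (a * b * a⁻¹ * b⁻¹)) ∧
    (∀ a ∈ Q, ∀ b ∈ Q, (a * b * a⁻¹ * b⁻¹) ^ p = 1) ∧
    ((∀ z ∈ Q, (∀ y ∈ Q, z * y = y * z) → z ^ p = 1) → Nat.card Q = p ^ 3) := by
  -- P₂ is commutative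
  have hP₂c : ∀ b ∈ P₂, ∀ b' ∈ P₂, b * b' = b' * b := by
    intro b hb b' hb'
    have h := (IsCyclic.commGroup (α := P₂)).mul_comm ⟨b, hb⟩ ⟨b', hb'⟩
    exact congrArg Subtype.val h
  -- P₁ has exponent p
  have hP₁e : ∀ a ∈ P₁, a ^ p = 1 := by
    intro a ha
    have h := Monoid.pow_exponent_eq_one (⟨a, ha⟩ : P₁)
    rw [hexp] at h
    exact congrArg Subtype.val h
  -- decomposition
  have hdec : ∀ x ∈ Q, ∃ a ∈ P₁, ∃ b ∈ P₂, x = a * b := by
    intro x hx
    rw [← hsup] at hx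
    exact exists_mul_of_mem_sup_of_comm P₁ P₂ hcomm hx
  -- elements of P₂ are central in Q
  have hP₂Z : ∀ b ∈ P₂, ∀ y ∈ Q, b * y = y * b := by
    intro b hb y hy
    obtain ⟨a', ha', b', hb', rfl⟩ := hdec y hy
    rw [← mul_assoc, ← hcomm a' ha' b hb, mul_assoc, hP₂c b hb b' hb', mul_assoc]
  -- commutators of P₁ are central in P₁
  have hP₁comm : ∀ a ∈ P₁, ∀ a' ∈ P₁, ∀ c ∈ P₁,
      (a * a' * a⁻¹ * a'⁻¹) * c = c * (a * a' * a⁻¹ * a'⁻¹) := by
    intro a ha a' ha' c hc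
    have h := comm_central_of_card_cube (H := P₁) hcard ⟨a, ha⟩ ⟨a', ha'⟩ ⟨c, hc⟩
    exact congrArg Subtype.val h
  -- commutators of Q are commutators of P₁
  have hcommQ : ∀ x ∈ Q, ∀ y ∈ Q, ∃ a ∈ P₁, ∃ a' ∈ P₁,
      x * y * x⁻¹ * y⁻¹ = a * a' * a⁻¹ * a'⁻¹ := by
    intro x hx y hy
    obtain ⟨a, ha, b, hb, rfl⟩ := hdec x hx
    obtain ⟨a', ha', b', hb', rfl⟩ := hdec y hy
    refine ⟨a, ha, a', ha', ?_⟩
    have e1 : b * a' = a' * b := (hcomm a' ha' b hb).symm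
    have e2 : b * b' = b' * b := hP₂c b hb b' hb'
    have e3 : b * a⁻¹ = a⁻¹ * b := (hcomm a⁻¹ (P₁.inv_mem ha) b hb).symm
    have e4 : b' * a⁻¹ = a⁻¹ * b' := (hcomm a⁻¹ (P₁.inv_mem ha) b' hb').symm
    have e5 : b' * a'⁻¹ = a'⁻¹ * b' := (hcomm a'⁻¹ (P₁.inv_mem ha') b' hb').symm
    calc a * b * (a' * b') * (a * b)⁻¹ * (a' * b')⁻¹
        = a * (b * a') * b' * b⁻¹ * a⁻¹ * b'⁻¹ * a'⁻¹ := by
          simp only [mul_inv_rev, mul_assoc]
      _ = a * a' * (b * b') * b⁻¹ * a⁻¹ * b'⁻¹ * a'⁻¹ := by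
          rw [e1]; simp only [mul_assoc]
      _ = a * a' * b' * a⁻¹ * b'⁻¹ * a'⁻¹ := by
          rw [e2]; simp only [mul_assoc, mul_inv_cancel_left]
      _ = a * a' * (b' * a⁻¹) * b'⁻¹ * a'⁻¹ := by simp only [mul_assoc]
      _ = a * a' * a⁻¹ * a'⁻¹ := by
          rw [e4]
          have e6 : b' * (b'⁻¹ * a'⁻¹) = a'⁻¹ := by rw [← mul_assoc, mul_inv_cancel, one_mul]
          simp only [mul_assoc, e6]
  refine ⟨?_, ?_, ?_, ?_⟩
  · intro w hw y hy
    obtain ⟨a, ha, b, hb, rfl⟩ := hdec w hw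
    have hab : Commute a b := hcomm a ha b hb
    rw [hab.mul_pow, hP₁e a ha, one_mul]
    exact hP₂Z (b ^ p) (P₂.pow_mem hb p) y hy
  · intro x hx y hy z hz
    obtain ⟨a, ha, a', ha', hE⟩ := hcommQ x hx y hy
    rw [hE]
    obtain ⟨c, hc, d, hd, rfl⟩ := hdec z hz
    have hmem : a * a' * a⁻¹ * a'⁻¹ ∈ P₁ :=
      P₁.mul_mem (P₁.mul_mem (P₁.mul_mem ha ha') (P₁.inv_mem ha)) (P₁.inv_mem ha')
    have hkc := hP₁comm a ha a' ha' c hc
    have hkd := hcomm _ hmem d hd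
    generalize a * a' * a⁻¹ * a'⁻¹ = k at hkc hkd ⊢
    calc k * (c * d) = (k * c) * d := (mul_assoc _ _ _).symm
      _ = (c * k) * d := by rw [hkc]
      _ = c * (k * d) := mul_assoc _ _ _
      _ = c * (d * k) := by rw [hkd]
      _ = c * d * k := (mul_assoc _ _ _).symm
  · intro x hx y hy
    obtain ⟨a, ha, a', ha', hE⟩ := hcommQ x hx y hy
    rw [hE]
    exact hP₁e _ (P₁.mul_mem (P₁.mul_mem (P₁.mul_mem ha ha') (P₁.inv_mem ha)) (P₁.inv_mem ha'))
  · intro hZ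
    have hP₂Q : P₂ ≤ Q := by rw [← hsup]; exact le_sup_right
    have hP₂e : ∀ b ∈ P₂, b ^ p = 1 := fun b hb => hZ b (hP₂Q hb) (hP₂Z b hb)
    have hP₂le : P₂ ≤ P₁ := by
      have h1 : P₂ ≤ Subgroup.closure {x : G | x ∈ P₂ ∧ x ^ p = 1} := by
        intro b hb
        exact Subgroup.subset_closure ⟨hb, hP₂e b hb⟩
      exact le_trans h1 (by rw [hcl]; exact inf_le_left)
    have hQ : Q = P₁ := by rw [← hsup]; exact sup_eq_left.mpr hP₂le
    rw [hQ, hcard]

end general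

variable {G : Type*} [Group G] [Finite G]

theorem rankTwo_sylow_facts (hG : Cfsg.IsMinSimpleOddOrder G) (p : ℕ) [Fact p.Prime] (P : Sylow p G) (hr : Cfsg.PRankLE p 2 (P : Subgroup G)) (hna : ¬ IsMulCommutative (P : Subgroup G)) :
    (∀ w ∈ (P : Subgroup G), ∀ y ∈ (P : Subgroup G), w ^ p * y = y * w ^ p) ∧
    (∀ a ∈ (P : Subgroup G), ∀ b ∈ (P : Subgroup G), ∀ y ∈ (P : Subgroup G), (a * b * a⁻¹ * b⁻¹) * y = y * (a * b * a⁻¹ * b⁻¹)) ∧
    (∀ a ∈ (P : Subgroup G), ∀ b ∈ (P : Subgroup G), (a * b * a⁻¹ * b⁻¹) ^ p = 1) ∧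
    ((∀ z ∈ (P : Subgroup G), (∀ y ∈ (P : Subgroup G), z * y = y * z) → z ^ p = 1) → Nat.card (P : Subgroup G) = p ^ 3) := by
  rcases Cfsg.Agent.S1412.result hG p P hr with h | ⟨P₁, P₂, hsup, hcomm, -, hcard, hexp, hcyc, hcl⟩
  · exact absurd h hna
  · exact facts_of_structure (P : Subgroup G) P₁ P₂ hsup hcomm hcard hexp hcyc hcl

end Cfsg.Agent.Lib.Helper66.BGRankTwo
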