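import Mathlib
import Cfsg.Agent.Lib.Helper74.PF127Defs

/-!
# Peterfalvi (12.7) = S1540 core: leaf modules [DMONO], [RHO](c), [NMASS], [LMASS] (helper66)
-/

set_option autoImplicit false
set_option linter.unusedSectionVars false
set_option linter.unusedSimpArgs false
set_option linter.unusedVariables false
set_option linter.style.haveILetI false

namespace Cfsg.Agent.Lib.Helper66.PF127

open Cfsg Cfsg.Agent.Lib.Helper74.PF127
open scoped ComplexConjugate

/-- MODULE [DMONO] -/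
theorem dadeHypothesis_mono {G : Type*} [Group G] {A A' : Set G} {L : Subgroup G}
    {R : G → Subgroup G} (hD : DadeHypothesis A L R) (hsub : A' ⊆ A)
    (hconj : ∀ x ∈ L, ∀ a ∈ A', x * a * x⁻¹ ∈ A') : DadeHypothesis A' L R where
  one_not_mem := fun h => hD.one_not_mem (hsub h)
  subset := fun a ha => hD.subset (hsub ha)
  conj_mem := hconj
  fusion := fun a ha g hg => hD.fusion a (hsub ha) g (hsub hg)
  le_centralizer := fun a ha => hD.le_centralizer a (hsub ha)
  conj_mem_H := fun a ha => hD.conj_mem_H a (hsub ha)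
  inf_eq_bot := fun a ha => hD.inf_eq_bot a (hsub ha)
  sup_eq := fun a ha => hD.sup_eq a (hsub ha)
  coprime := fun a ha b hb => hD.coprime a (hsub ha) b (hsub hb)

/-- MODULE [RHO] (c) -/
theorem dadeAvg_eq_of_const {G : Type*} [Group G] [Finite G] (R : G → Subgroup G) (ν : G → ℂ)
    (a : G) (c : ℂ) (h : ∀ u ∈ R a, ν (a * u) = c) : dadeAvg R ν a = c := by
  classical
  unfold dadeAvg
  have hfin : ((R a : Subgroup G) : Set G).Finite := Set.toFinite _
  have h1 : ∑ᶠ u ∈ ((R a : Subgroup G) : Set G), ν (a * u) =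
      ∑ᶠ u ∈ ((R a : Subgroup G) : Set G), c :=
    finsum_mem_congr rfl (fun u hu => h u hu)
  rw [h1, finsum_mem_eq_finite_toFinset_sum _ hfin, Finset.sum_const, nsmul_eq_mul]
  have h2 : hfin.toFinset.card = Nat.card (R a) := by
    rw [← Set.ncard_eq_toFinset_card _ hfin]
    exact (Nat.card_coe_set_eq _).symm
  rw [h2]
  have h3 : (Nat.card (R a) : ℂ) ≠ 0 := by
    have : 0 < Nat.card (R a) := Nat.card_pos
    exact_mod_cast this.ne'
  field_simp

theorem norm_add_int_sq (z : ℂ) (n : ℤ) :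
    ‖z + (n : ℂ)‖ ^ 2 = ‖z‖ ^ 2 + 2 * (n : ℝ) * z.re + (n : ℝ) ^ 2 := by
  rw [Complex.sq_norm, Complex.sq_norm, Complex.normSq_apply, Complex.normSq_apply]
  simp only [Complex.add_re, Complex.add_im, Complex.intCast_re, Complex.intCast_im, add_zero]
  ring

/-- MODULE [NMASS] -/
theorem nside_mass {G : Type*} [Group G] [Fintype G] (N F : Subgroup G) [Fintype N]
    (hFN : F ≤ N) (RN : G → Subgroup G) (ν : G → ℂ) (ψ : N → ℂ) (e : ℕ) (hψ1 : ψ 1 = e)
    (hψsum : ∑ᶠ a ∈ {a : N | (a : G) ∈ F}, ψ a = 0)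
    (hψnorm : ∑ᶠ a ∈ {a : N | (a : G) ∈ F}, ‖ψ a‖ ^ 2 = Nat.card N)
    (n : ℤ) (hN1 : ∀ a : N, (a : G) ∈ F → a ≠ 1 → dadeAvg RN ν (a : G) = ψ a + n) :
    (Nat.card N : ℝ)⁻¹ *
        ∑ᶠ a ∈ {a : N | (a : G) ∈ (F : Set G) \ {1}}, ‖dadeAvg RN ν (a : G)‖ ^ 2 =
      1 - ((e : ℝ) ^ 2 + 2 * e * n - (n : ℝ) ^ 2 * (Nat.card F - 1)) / Nat.card N := by
  classical
  -- the finite index sets
  set T : Finset N := Finset.univ.filter (fun a : N => (a : G) ∈ F) with hT
  have hTset : {a : N | (a : G) ∈ F} = (T : Set N) := by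
    ext a; simp [hT]
  have hT'set : {a : N | (a : G) ∈ (F : Set G) \ {1}} = ((T.erase 1 : Finset N) : Set N) := by
    ext a
    simp only [Set.mem_ofPred_eq, Set.mem_sdiff, SetLike.mem_coe, Set.mem_singleton_iff,
      Finset.coe_erase, hT, Finset.coe_filter, Finset.mem_univ, true_and]
    constructor
    · rintro ⟨h1, h2⟩
      exact ⟨h1, fun h => h2 (by rw [h]; rfl)⟩
    · rintro ⟨h1, h2⟩
      exact ⟨h1, fun h => h2 (Subtype.ext (by rw [h]; rfl))⟩
  have h1T : (1 : N) ∈ T := by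
    simp only [hT, Finset.mem_filter, Finset.mem_univ, true_and]
    exact F.one_mem
  rw [hTset, finsum_mem_coe_finset] at hψsum hψnorm
  rw [hT'set, finsum_mem_coe_finset]
  -- card of T
  have hcardT : (T.card : ℝ) = Nat.card F := by
    haveI : Fintype ↥(F.subgroupOf N) := Fintype.ofFinite _
    have h1 : Fintype.card ↥(F.subgroupOf N) = T.card :=
      Fintype.card_of_subtype T (fun a => by simp [hT, Subgroup.mem_subgroupOf])
    have h2 : Nat.card ↥(F.subgroupOf N) = Nat.card F :=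
      Nat.card_congr (Subgroup.subgroupOfEquivOfLe hFN).toEquiv
    rw [← h2, Nat.card_eq_fintype_card, h1]
  have hcardN : (Nat.card N : ℝ) ≠ 0 := by
    have : 0 < Nat.card N := Nat.card_pos
    exact_mod_cast this.ne'
  -- rewrite the summand
  have hsum1 : ∑ a ∈ T.erase 1, ‖dadeAvg RN ν (a : G)‖ ^ 2 =
      ∑ a ∈ T.erase 1, (‖ψ a‖ ^ 2 + 2 * (n : ℝ) * (ψ a).re + (n : ℝ) ^ 2) := by
    apply Finset.sum_congr rfl
    intro a ha
    rw [Finset.mem_erase] at ha
    have haF : (a : G) ∈ F := by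
      have := ha.2
      simp only [hT, Finset.mem_filter, Finset.mem_univ, true_and] at this
      exact this
    rw [hN1 a haF ha.1, norm_add_int_sq]
  rw [hsum1, Finset.sum_add_distrib, Finset.sum_add_distrib, ← Finset.mul_sum, Finset.sum_const,
    nsmul_eq_mul, Finset.card_erase_of_mem h1T]
  have hA : ∑ a ∈ T.erase 1, ‖ψ a‖ ^ 2 = (Nat.card N : ℝ) - (e : ℝ) ^ 2 := by
    have := Finset.add_sum_erase T (fun a => ‖ψ a‖ ^ 2) h1T
    rw [hψnorm, hψ1] at this
    have h3 : ‖((e : ℕ) : ℂ)‖ = (e : ℝ) := by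
      rw [Complex.norm_natCast]
    rw [h3] at this
    linarith
  have hB : ∑ a ∈ T.erase 1, (ψ a).re = - (e : ℝ) := by
    have := Finset.add_sum_erase T (fun a => (ψ a).re) h1T
    have h4 : ∑ x ∈ T, (ψ x).re = 0 := by
      rw [← Complex.re_sum, hψsum, Complex.zero_re]
    rw [h4, hψ1, Complex.natCast_re] at this
    linarith
  have hTpos : 1 ≤ T.card := Finset.card_pos.mpr ⟨1, h1T⟩
  rw [hA, hB, Nat.cast_sub hTpos, hcardT]
  field_simp
  ring

theorem classInner_self_re' {K : Type*} [Group K] [Fintype K] (b : K → ℂ) :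
    (classInner b b).re = (Nat.card K : ℝ)⁻¹ * ∑ h : K, ‖b h‖ ^ 2 := by
  unfold classInner
  have h1 : ((Nat.card K : ℂ)⁻¹) = (((Nat.card K : ℝ)⁻¹ : ℝ) : ℂ) := by
    rw [Complex.ofReal_inv, Complex.ofReal_natCast]
  rw [h1, Complex.re_ofReal_mul, Complex.re_sum]
  congr 1
  apply Finset.sum_congr rfl
  intro h _
  rw [Complex.mul_conj, Complex.ofReal_re, Complex.sq_norm]

/-- MODULE [LMASS] -/
theorem lside_mass {G : Type*} [Group G] [Fintype G] (L H : Subgroup G) [Fintype L]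
    [Fintype ↥(H.subgroupOf L)] (hHL : H ≤ L) (f : G → ℂ) (b : ↥(H.subgroupOf L) → ℂ)
    (hb1 : b 1 = 0) (hb : ∀ h : ↥(H.subgroupOf L), h ≠ 1 → b h = f ((h : L) : G)) :
    (Nat.card L : ℝ)⁻¹ * ∑ᶠ a ∈ {a : L | (a : G) ∈ (H : Set G) \ {1}}, ‖f (a : G)‖ ^ 2 =
      (Nat.card H : ℝ) / Nat.card L * (classInner b b).re := by
  classical
  have hcardK : Nat.card ↥(H.subgroupOf L) = Nat.card H :=
    Nat.card_congr (Subgroup.subgroupOfEquivOfLe hHL).toEquiv
  have hcardH : (Nat.card H : ℝ) ≠ 0 := by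
    have : 0 < Nat.card H := Nat.card_pos
    exact_mod_cast this.ne'
  have hcardL : (Nat.card L : ℝ) ≠ 0 := by
    have : 0 < Nat.card L := Nat.card_pos
    exact_mod_cast this.ne'
  rw [classInner_self_re', hcardK]
  -- the index set as a finset
  set T : Finset L := (Finset.univ.filter (fun h : ↥(H.subgroupOf L) => h ≠ 1)).map
    ⟨Subtype.val, Subtype.val_injective⟩ with hT
  have hTset : {a : L | (a : G) ∈ (H : Set G) \ {1}} = (T : Set L) := by
    ext a
    simp only [Set.mem_ofPred_eq, Set.mem_sdiff, SetLike.mem_coe, Set.mem_singleton_iff, hT,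
      Finset.coe_map, Function.Embedding.coeFn_mk, Set.mem_image, Finset.coe_filter,
      Finset.mem_univ, true_and]
    constructor
    · rintro ⟨h1, h2⟩
      refine ⟨⟨a, Subgroup.mem_subgroupOf.mpr h1⟩, ?_, rfl⟩
      intro h
      apply h2
      have := congrArg (fun t : ↥(H.subgroupOf L) => ((t : L) : G)) h
      simpa using this
    · rintro ⟨h, hne, rfl⟩
      refine ⟨Subgroup.mem_subgroupOf.mp h.2, ?_⟩
      intro h1
      apply hne
      apply Subtype.ext
      apply Subtype.ext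
      rw [h1]; rfl
  rw [hTset, finsum_mem_coe_finset, hT, Finset.sum_map]
  simp only [Function.Embedding.coeFn_mk]
  have hsum : ∑ h ∈ Finset.univ.filter (fun h : ↥(H.subgroupOf L) => h ≠ 1),
      ‖f ((h : L) : G)‖ ^ 2 = ∑ h : ↥(H.subgroupOf L), ‖b h‖ ^ 2 := by
    rw [Finset.sum_filter]
    apply Finset.sum_congr rfl
    intro h _
    by_cases h1 : h = 1
    · rw [if_neg (not_not.mpr h1), h1, hb1, norm_zero]; norm_num
    · rw [if_pos h1, hb h h1]
  rw [hsum]
  field_simp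

end Cfsg.Agent.Lib.Helper66.PF127
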