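import Mathlib
import Cfsg.Prelude.Def_KGroupFacts

set_option autoImplicit false

namespace Cfsg.Agent.Lib.Helper66

open scoped commutatorElement

/-- If a group is generated by a set `S` whose elements commute pairwise modulo the normal subgroup `N`,
then `N` contains the commutator subgroup. -/
theorem commutator_le_of_generators {Γ : Type*} [Group Γ] (N : Subgroup Γ) [N.Normal] (S : Set Γ)
    (hS : Subgroup.closure S = ⊤) (hcomm : ∀ s ∈ S, ∀ t ∈ S, s * t * s⁻¹ * t⁻¹ ∈ N) :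
    commutator Γ ≤ N := by
  rw [← Subgroup.Normal.quotient_commutative_iff_commutator_le]
  set π := QuotientGroup.mk' N with hπ
  have hS' : Subgroup.closure (π '' S) = ⊤ := by
    rw [← MonoidHom.map_closure, hS, ← MonoidHom.range_eq_map, MonoidHom.range_eq_top]
    exact QuotientGroup.mk'_surjective N
  have hc : ∀ s ∈ π '' S, ∀ t ∈ π '' S, s * t = t * s := by
    rintro _ ⟨s, hs, rfl⟩ _ ⟨t, ht, rfl⟩
    have := hcomm s hs t ht
    rw [← QuotientGroup.eq_one_iff] at this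
    have h2 : π s * π t * (π s)⁻¹ * (π t)⁻¹ = 1 := by
      rw [← this]; simp [hπ]
    calc π s * π t = (π s * π t * (π s)⁻¹ * (π t)⁻¹) * π t * π s := by group
      _ = π t * π s := by rw [h2, one_mul]
  have h1 : ∀ s ∈ π '' S, s ∈ Subgroup.center (Γ ⧸ N) := by
    intro s hs
    have : Subgroup.closure (π '' S) ≤ Subgroup.centralizer {s} := by
      rw [Subgroup.closure_le]
      intro t ht
      rw [SetLike.mem_coe, Subgroup.mem_centralizer_iff]
      intro u hu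
      rw [Set.mem_singleton_iff] at hu
      subst hu
      exact hc u hs t ht
    rw [hS'] at this
    rw [Subgroup.mem_center_iff]
    intro g
    have hg := this (Subgroup.mem_top g)
    rw [Subgroup.mem_centralizer_iff] at hg
    exact (hg s rfl).symm
  have h2 : Subgroup.center (Γ ⧸ N) = ⊤ := by
    rw [eq_top_iff, ← hS', Subgroup.closure_le]
    exact h1
  refine ⟨⟨fun a b => ?_⟩⟩
  have ha : a ∈ Subgroup.center (Γ ⧸ N) := by rw [h2]; trivial
  rw [Subgroup.mem_center_iff] at ha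
  exact (ha b).symm

section dihedralLike

variable {Γ : Type*} [Group Γ] (A X : Γ)

/-- If `X A X⁻¹ = z A⁻¹` with `z` central then `c = X A X⁻¹ A⁻¹` commutes with `A`. -/
theorem dl_c_comm_A (hz : X * A * X⁻¹ * A ∈ Subgroup.center Γ) :
    A * (X * A * X⁻¹ * A⁻¹) * A⁻¹ = X * A * X⁻¹ * A⁻¹ := by
  rw [Subgroup.mem_center_iff] at hz
  have h1 := hz A
  -- X A X⁻¹ A commutes with A, so X A X⁻¹ commutes with A
  have h2 : A * (X * A * X⁻¹) = (X * A * X⁻¹) * A := by
    have : A * (X * A * X⁻¹ * A) * A⁻¹ = X * A * X⁻¹ * A := by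
      rw [h1]; group
    calc A * (X * A * X⁻¹) = (A * (X * A * X⁻¹ * A) * A⁻¹) := by group
      _ = X * A * X⁻¹ * A := this
  calc A * (X * A * X⁻¹ * A⁻¹) * A⁻¹ = (A * (X * A * X⁻¹)) * A⁻¹ * A⁻¹ := by group
    _ = (X * A * X⁻¹) * A * A⁻¹ * A⁻¹ := by rw [h2]
    _ = X * A * X⁻¹ * A⁻¹ := by group

/-- If `X A X⁻¹ = z A⁻¹` with `z` central then `X` inverts `c = X A X⁻¹ A⁻¹`. -/
theorem dl_X_c (hz : X * A * X⁻¹ * A ∈ Subgroup.center Γ) :
    X * (X * A * X⁻¹ * A⁻¹) * X⁻¹ = (X * A * X⁻¹ * A⁻¹)⁻¹ := by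
  rw [Subgroup.mem_center_iff] at hz
  set z := X * A * X⁻¹ * A with hzdef
  -- X A X⁻¹ = z A⁻¹
  have h1 : X * A * X⁻¹ = z * A⁻¹ := by rw [hzdef]; group
  have h1' : X * A⁻¹ * X⁻¹ = A * z⁻¹ := by
    have : X * A⁻¹ * X⁻¹ = (X * A * X⁻¹)⁻¹ := by group
    rw [this, h1]; group
  have hzX : X * z * X⁻¹ = z := by rw [hz X]; group
  have hzA : A * z = z * A := hz A
  have hzA' : A * z⁻¹ = z⁻¹ * A := by
    calc A * z⁻¹ = z⁻¹ * (z * A) * z⁻¹ := by group
      _ = z⁻¹ * (A * z) * z⁻¹ := by rw [hzA]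
      _ = z⁻¹ * A := by group
  calc X * (X * A * X⁻¹ * A⁻¹) * X⁻¹ = X * (z * A⁻¹ * A⁻¹) * X⁻¹ := by rw [h1]
    _ = (X * z * X⁻¹) * (X * A⁻¹ * X⁻¹) * (X * A⁻¹ * X⁻¹) := by group
    _ = z * (A * z⁻¹) * (A * z⁻¹) := by rw [hzX, h1']
    _ = z * (z⁻¹ * A) * (A * z⁻¹) := by rw [hzA']
    _ = A * (A * z⁻¹) := by group
    _ = A * (z * A⁻¹)⁻¹ := by group
    _ = A * (X * A * X⁻¹)⁻¹ := by rw [h1]
    _ = (X * A * X⁻¹ * A⁻¹)⁻¹ := by group

theorem dl_conj_zpow (g c : Γ) (k : ℤ) : g * c ^ k * g⁻¹ = (g * c * g⁻¹) ^ k := by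
  have := map_zpow (MulAut.conj g) c k
  simpa [MulAut.conj_apply] using this

/-- `zpowers c` is normal if the generators normalise it. -/
theorem dl_zpowers_normal (Z : Subgroup Γ) (hZ : Z ≤ Subgroup.center Γ)
    (hgen : Subgroup.closure ({A, X} ∪ (Z : Set Γ)) = ⊤)
    (hz : X * A * X⁻¹ * A ∈ Subgroup.center Γ) :
    (Subgroup.zpowers (X * A * X⁻¹ * A⁻¹)).Normal := by
  set c := X * A * X⁻¹ * A⁻¹ with hc
  rw [← Subgroup.normalizer_eq_top_iff, eq_top_iff, ← hgen, Subgroup.closure_le]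
  have key : ∀ g : Γ, (g * c * g⁻¹ = c ∨ g * c * g⁻¹ = c⁻¹) →
      g ∈ Subgroup.normalizer (Subgroup.zpowers c : Set Γ) := by
    intro g hg
    rw [Subgroup.mem_normalizer_iff]
    intro h
    constructor
    · rintro ⟨k, rfl⟩
      show g * c ^ k * g⁻¹ ∈ Subgroup.zpowers c
      rw [dl_conj_zpow]
      rcases hg with hg | hg
      · rw [hg]; exact ⟨k, rfl⟩
      · rw [hg]; exact ⟨-k, by simp⟩
    · intro hh
      obtain ⟨k, hk⟩ := hh
      have hk' : h = g⁻¹ * c ^ k * g := by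
        have : c ^ k = g * h * g⁻¹ := hk
        rw [this]; group
      rw [hk']
      have e : g⁻¹ * c ^ k * g = (g⁻¹ * c * g) ^ k := by
        have := dl_conj_zpow g⁻¹ c k
        simpa using this
      rw [e]
      rcases hg with hg | hg
      · have : g⁻¹ * c * g = c := by
          calc g⁻¹ * c * g = g⁻¹ * (g * c * g⁻¹) * g := by rw [hg]
            _ = c := by group
        rw [this]; exact ⟨k, rfl⟩
      · have : g⁻¹ * c * g = c⁻¹ := by
          have : g⁻¹ * c⁻¹ * g = c := by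
            calc g⁻¹ * c⁻¹ * g = g⁻¹ * (g * c * g⁻¹) * g := by rw [hg]
              _ = c := by group
          calc g⁻¹ * c * g = (g⁻¹ * c⁻¹ * g)⁻¹ := by group
            _ = c⁻¹ := by rw [this]
        rw [this]; exact ⟨-k, by simp⟩
  rintro g (hg | hg)
  · rcases hg with hg | hg
    · rw [hg]
      exact key _ (Or.inl (dl_c_comm_A A X hz))
    · rw [Set.mem_singleton_iff] at hg
      rw [hg]
      exact key _ (Or.inr (dl_X_c A X hz))
  · apply key
    left
    have := hZ hg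
    rw [Subgroup.mem_center_iff] at this
    rw [← this c]; group

/-- In a group generated by `A`, `X` and a central subgroup `Z` with `X A X⁻¹ A ∈ Z`, the commutator
subgroup is contained in the cyclic group generated by `c = [X, A]`. -/
theorem dl_commutator_le (Z : Subgroup Γ) (hZ : Z ≤ Subgroup.center Γ)
    (hgen : Subgroup.closure ({A, X} ∪ (Z : Set Γ)) = ⊤)
    (hz : X * A * X⁻¹ * A ∈ Subgroup.center Γ) :
    commutator Γ ≤ Subgroup.zpowers (X * A * X⁻¹ * A⁻¹) := by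
  haveI := dl_zpowers_normal A X Z hZ hgen hz
  apply commutator_le_of_generators _ _ hgen
  set c := X * A * X⁻¹ * A⁻¹ with hc
  have hcen : ∀ s ∈ (Z : Set Γ), ∀ t : Γ, s * t * s⁻¹ * t⁻¹ ∈ Subgroup.zpowers c ∧
      t * s * t⁻¹ * s⁻¹ ∈ Subgroup.zpowers c := by
    intro s hs t
    have := hZ hs
    rw [Subgroup.mem_center_iff] at this
    constructor
    · have e : s * t * s⁻¹ * t⁻¹ = 1 := by rw [← this t]; group
      rw [e]; exact Subgroup.one_mem _
    · have e : t * s * t⁻¹ * s⁻¹ = 1 := by rw [this t]; group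
      rw [e]; exact Subgroup.one_mem _
  have hone : ∀ s : Γ, s * s * s⁻¹ * s⁻¹ ∈ Subgroup.zpowers c := by
    intro s
    have : s * s * s⁻¹ * s⁻¹ = 1 := by group
    rw [this]; exact Subgroup.one_mem _
  rintro s (hs | hs) t (ht | ht)
  · rcases hs with rfl | hs <;> rcases ht with rfl | ht
    · exact hone _
    · rw [Set.mem_singleton_iff] at ht; subst ht
      -- A X A⁻¹ X⁻¹ = c⁻¹
      have : s * t * s⁻¹ * t⁻¹ = (t * s * t⁻¹ * s⁻¹)⁻¹ := by group
      rw [this]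
      exact Subgroup.inv_mem _ (Subgroup.mem_zpowers _)
    · rw [Set.mem_singleton_iff] at hs; subst hs
      exact Subgroup.mem_zpowers _
    · rw [Set.mem_singleton_iff] at hs ht; subst hs; subst ht
      exact hone _
  · exact (hcen t ht s).2
  · exact (hcen s hs t).1
  · exact (hcen s hs t).1

/-- If moreover `X` commutes with `A ^ n`, then `c ^ n = 1`. -/
theorem dl_c_pow_eq_one (hz : X * A * X⁻¹ * A ∈ Subgroup.center Γ) (n : ℕ)
    (hn : X * A ^ n * X⁻¹ = A ^ n) : (X * A * X⁻¹ * A⁻¹) ^ n = 1 := by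
  rw [Subgroup.mem_center_iff] at hz
  set z := X * A * X⁻¹ * A with hzdef
  have h1 : X * A * X⁻¹ = z * A⁻¹ := by rw [hzdef]; group
  have hcomm : Commute z A⁻¹ := by
    have := hz A⁻¹
    exact this.symm
  -- (X A X⁻¹)^n = z^n A^-n
  have h2 : X * A ^ n * X⁻¹ = z ^ n * (A⁻¹) ^ n := by
    have := map_pow (MulAut.conj X) A n
    simp only [MulAut.conj_apply] at this
    rw [this, h1, hcomm.mul_pow]
  -- c = z * A⁻¹ * A⁻¹
  have hc : X * A * X⁻¹ * A⁻¹ = z * (A⁻¹ * A⁻¹) := by rw [h1]; group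
  have hcomm2 : Commute z (A⁻¹ * A⁻¹) := hcomm.mul_right hcomm
  rw [hc, hcomm2.mul_pow]
  have h3 : (A⁻¹ * A⁻¹) ^ n = (A⁻¹) ^ n * (A⁻¹) ^ n := by
    rw [(Commute.refl A⁻¹).mul_pow]
  rw [h3, ← mul_assoc, ← h2, hn]
  rw [inv_pow]; group

end dihedralLike

end Cfsg.Agent.Lib.Helper66
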