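import Mathlib
import Cfsg.Agent.Lib.Helper79.BrauerN.Defs
import Cfsg.Agent.Lib.Helper79.ClassCount
import Cfsg.Agent.Lib.Helper78.CharValues
import Cfsg.Agent.Lib.Helper75.Clifford
import Cfsg.Agent.S1528
import Cfsg.Agent.S4825

/-!
# S0999 / S4701 module [E1c] (helper66, for helper79)

In the rigid configuration the characters of `X` with sign `-1` vanish on `N_G(P) ∖ P`.
-/

set_option autoImplicit false
set_option linter.unusedSectionVars false
set_option linter.unusedSimpArgs false
set_option linter.unusedVariables false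
set_option linter.style.haveILetI false

namespace Cfsg.Agent.Lib.Helper66.BrauerNE1c

open Cfsg
open scoped ComplexConjugate
open Cfsg.Agent.Lib.Helper79.BrauerN

variable {G : Type*} [Group G] [Finite G] {p : ℕ} {P : Sylow p G} {q t : ℕ}
  {ε : ℤ} {a : IrrCharacter G → ℤ} {X Y : Finset (IrrCharacter G)}

/-- A character of a finite group `N` whose sum over a normal subgroup `P'` vanishes, where `P'`
contains the centralizers of its non-identity elements, vanishes off `P'`. -/
theorem vanish_off_of_sum_eq_zero {N : Type*} [Group N] [Fintype N] (P' : Subgroup N) [P'.Normal]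
    [Fintype P']
    (hC : ∀ n ∈ P', n ≠ 1 → Subgroup.centralizer ({n} : Set N) ≤ P')
    (ψ : N → ℂ) (hψ : IsCharacter N ψ) (hsum : ∑ u : P', ψ (u : N) = 0)
    {y : N} (hy : y ∉ P') : ψ y = 0 := by
  classical
  obtain ⟨m, hm⟩ := (Cfsg.Agent.Lib.Helper78.isCharacter_iff_exists_nat_combination ψ).mp hψ
  choose k hk using fun μ : IrrCharacter N => Cfsg.Agent.Lib.Helper79.sum_subgroup_irr μ P'
  have hcardP' : (Nat.card P' : ℂ) ≠ 0 := by
    have : 0 < Nat.card P' := Nat.card_pos
    exact_mod_cast this.ne'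
  -- the sum of `ψ` over `P'`
  have h1 : ∑ u : P', ψ (u : N) = (Nat.card P' : ℂ) * ((∑ μ : IrrCharacter N, m μ * k μ : ℕ) : ℂ) := by
    rw [hm]
    simp only [Finset.sum_apply, Pi.smul_apply, smul_eq_mul]
    rw [Finset.sum_comm]
    push_cast
    rw [Finset.mul_sum]
    apply Finset.sum_congr rfl
    intro μ _
    rw [← Finset.mul_sum, hk μ]
    ring
  rw [hsum] at h1
  have h2 : ((∑ μ : IrrCharacter N, m μ * k μ : ℕ) : ℂ) = 0 := by
    rcases mul_eq_zero.mp h1.symm with h | h
    · exact absurd h hcardP'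
    · exact h
  have h3 : ∑ μ : IrrCharacter N, m μ * k μ = 0 := by exact_mod_cast h2
  have h4 : ∀ μ : IrrCharacter N, m μ * k μ = 0 := fun μ =>
    (Finset.sum_eq_zero_iff.mp h3) μ (Finset.mem_univ μ)
  -- each constituent vanishes at `y`
  have h5 : ∀ μ : IrrCharacter N, (m μ : ℂ) * (μ : N → ℂ) y = 0 := by
    intro μ
    rcases Nat.eq_zero_or_pos (m μ) with h0 | hpos
    · rw [h0]; simp
    · have hk0 : k μ = 0 := by
        rcases Nat.mul_eq_zero.mp (h4 μ) with h | h
        · omega
        · exact h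
      have hμsum : ∑ u : P', (μ : N → ℂ) (u : N) = 0 := by rw [hk μ, hk0]; simp
      have hex : ∃ n ∈ P', (μ : N → ℂ) n ≠ (μ : N → ℂ) 1 := by
        by_contra hno
        push Not at hno
        have h6 : ∑ u : P', (μ : N → ℂ) (u : N) = (Nat.card P' : ℂ) * (μ : N → ℂ) 1 := by
          have h7 : ∀ u : P', (μ : N → ℂ) (u : N) = (μ : N → ℂ) 1 := fun u => hno (u : N) u.2
          rw [Finset.sum_congr rfl (fun u _ => h7 u), Finset.sum_const, nsmul_eq_mul,
            Finset.card_univ, Nat.card_eq_fintype_card]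
        rw [hμsum] at h6
        rcases mul_eq_zero.mp h6.symm with h | h
        · exact hcardP' h
        · exact Cfsg.Agent.Lib.Helper78.IsIrrCharacter.apply_one_ne_zero μ.2 h
      obtain ⟨φ, -, hφ⟩ := Cfsg.Agent.S1528.result P' hC (μ : N → ℂ) μ.2 hex
      rw [hφ, Cfsg.Agent.S4825.indFun_eq_zero_of_not_mem P' φ hy, mul_zero]
  rw [hm]
  simp only [Finset.sum_apply, Pi.smul_apply, smul_eq_mul]
  exact Finset.sum_eq_zero (fun μ _ => h5 μ)

theorem rigid_Xminus_vanish (D : RigidData p P q t ε a X Y) {χ : IrrCharacter G} (hχ : χ ∈ X)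
    (ha : a χ = -1) {y : G} (hy : y ∈ Subgroup.normalizer ((P : Subgroup G) : Set G))
    (hyP : y ∉ (P : Subgroup G)) : (χ : G → ℂ) y = 0 := by
  classical
  haveI : Fintype G := Fintype.ofFinite G
  set N : Subgroup G := Subgroup.normalizer ((P : Subgroup G) : Set G) with hN
  haveI : Fintype N := Fintype.ofFinite N
  set P' : Subgroup N := (P : Subgroup G).subgroupOf N with hP'
  haveI : P'.Normal := Subgroup.normal_in_normalizer
  haveI : Fintype P' := Fintype.ofFinite P'
  have hC : ∀ n ∈ P', n ≠ 1 → Subgroup.centralizer ({n} : Set N) ≤ P' := by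
    intro n hn hn1 c hc
    rw [hP', Subgroup.mem_subgroupOf] at hn ⊢
    have hn1' : (n : G) ≠ 1 := fun h => hn1 (Subtype.ext h)
    rw [← D.hcent (n : G) hn hn1', Subgroup.mem_centralizer_iff]
    intro z hz
    rw [Set.mem_singleton_iff] at hz
    subst hz
    have := Subgroup.mem_centralizer_iff.mp hc n (Set.mem_singleton n)
    exact congrArg Subtype.val this
  have hψ : IsCharacter N (fun n : N => (χ : G → ℂ) n) :=
    Cfsg.Agent.Lib.Helper75.isCharacter_res N (Cfsg.Agent.Lib.Helper78.IsIrrCharacter.isCharacter χ.2)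
  -- the sum over `P'`
  have hsum : ∑ u : P', (χ : G → ℂ) ((u : N) : G) = 0 := by
    have hval : ∀ u : P', (χ : G → ℂ) ((u : N) : G) = if u = 1 then ((p - 1 : ℕ) : ℂ) else -1 := by
      intro u
      by_cases hu : u = 1
      · rw [if_pos hu, hu]
        exact D.hdegXm χ hχ ha
      · rw [if_neg hu]
        have hu1 : ((u : N) : G) ≠ 1 := fun h => hu (Subtype.ext (Subtype.ext h))
        have huP : ((u : N) : G) ∈ (P : Subgroup G) := Subgroup.mem_subgroupOf.mp u.2
        rw [D.hXval χ hχ _ huP hu1, ha]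
        simp
    rw [Finset.sum_congr rfl (fun u _ => hval u)]
    rw [Finset.sum_ite, Finset.sum_const, Finset.sum_const]
    have hc1 : (Finset.univ.filter (fun u : P' => u = 1)).card = 1 := by
      rw [Finset.filter_eq' Finset.univ (1 : P')]
      simp
    have hcard : Fintype.card P' = p := by
      rw [← Nat.card_eq_fintype_card, hP',
        Nat.card_congr (Subgroup.subgroupOfEquivOfLe (Subgroup.le_normalizer)).toEquiv]
      exact D.hPcard
    have hc2 : (Finset.univ.filter (fun u : P' => ¬ u = 1)).card = p - 1 := by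
      have := Finset.card_filter_add_card_filter_not (s := (Finset.univ : Finset P'))
        (fun u : P' => u = 1)
      rw [hc1, Finset.card_univ, hcard] at this
      omega
    rw [hc1, hc2]
    simp
  have hyP' : (⟨y, hy⟩ : N) ∉ P' := by
    rw [hP', Subgroup.mem_subgroupOf]
    exact hyP
  exact vanish_off_of_sum_eq_zero P' hC (fun n : N => (χ : G → ℂ) n) hψ hsum hyP'

end Cfsg.Agent.Lib.Helper66.BrauerNE1c
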