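import Mathlib
import Cfsg.Agent.Lib.Helper19.FHDefs

/-!
# Feit–Higman project (S1142), module LA-ALG (helper66)

Pure noncommutative-ring identities in `Matrix ι ι ℝ` for the Hecke generators `a`, `b` with
`a² = u + (u-1) a`, `b² = v + (v-1) b`: the central element `zeta`, the projections `projP`, and the
alternating products under the braid relation.
-/

set_option autoImplicit false
set_option linter.unusedSectionVars false
set_option linter.unusedSimpArgs false
set_option linter.unusedVariables false

namespace Cfsg.Agent.Lib.Helper66.FHAlg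

open Matrix Cfsg.Agent.Lib.Helper19.FH

section altgen

variable {R : Type*} [Monoid R]

theorem altProd_succ_right (a b : R) (k : ℕ) :
    altProd a b (k + 1) = altProd a b k * (if Even k then a else b) := by
  induction k generalizing a b with
  | zero => simp [altProd]
  | succ k ih =>
    have h1 : altProd a b (k + 1 + 1) = a * altProd b a (k + 1) := rfl
    rw [h1, ih b a, ← mul_assoc]
    have h2 : a * altProd b a k = altProd a b (k + 1) := rfl
    rw [h2]
    congr 1
    by_cases hk : Even k
    · have : ¬ Even (k + 1) := by rw [Nat.even_add_one]; exact not_not.mpr hk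
      simp [hk, this]
    · have : Even (k + 1) := by rw [Nat.even_add_one]; exact hk
      simp [hk, this]

theorem altProd_add (a b : R) (m k : ℕ) :
    altProd a b (m + k) = altProd a b m * (if Even m then altProd a b k else altProd b a k) := by
  induction m generalizing a b with
  | zero => simp [altProd]
  | succ m ih =>
    have h1 : altProd a b (m + 1 + k) = a * altProd b a (m + k) := by
      have : m + 1 + k = (m + k) + 1 := by omega
      rw [this]; rfl
    rw [h1, ih b a, ← mul_assoc]
    have h2 : a * altProd b a m = altProd a b (m + 1) := rfl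
    rw [h2]
    congr 1
    by_cases hm : Even m
    · have : ¬ Even (m + 1) := by rw [Nat.even_add_one]; exact not_not.mpr hm
      simp [hm, this]
    · have : Even (m + 1) := by rw [Nat.even_add_one]; exact hm
      simp [hm, this]

theorem altProd_two_mul (a b : R) (n : ℕ) : altProd a b (2 * n) = (a * b) ^ n := by
  induction n with
  | zero => simp [altProd]
  | succ n ih =>
    have h1 : altProd a b (2 * (n + 1)) = a * (b * altProd a b (2 * n)) := by
      have : 2 * (n + 1) = 2 * n + 1 + 1 := by ring
      rw [this]; rfl
    rw [h1, ih, pow_succ', mul_assoc]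

theorem altProd_mul_self' (a b : R) (n : ℕ) (hbr : altProd a b n = altProd b a n) :
    altProd a b n * altProd a b n = (a * b) ^ n := by
  rw [← altProd_two_mul, two_mul, altProd_add]
  split_ifs
  · rfl
  · rw [← hbr]

theorem mul_altProd_comm (a b : R) (n : ℕ) (hbr : altProd a b n = altProd b a n) :
    a * altProd a b n = altProd a b n * (if Even n then a else b) := by
  have h1 : a * altProd b a n = altProd a b (n + 1) := rfl
  rw [hbr, h1, altProd_succ_right, hbr]

theorem pow_comm_a' (a b : R) (n : ℕ) (hbr : altProd a b n = altProd b a n) :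
    (a * b) ^ n * a = a * (a * b) ^ n := by
  rw [← altProd_mul_self' a b n hbr]
  have ha := mul_altProd_comm a b n hbr
  have hb := mul_altProd_comm b a n hbr.symm
  rw [← hbr] at hb
  by_cases hn : Even n
  · simp only [hn, if_true] at ha
    calc altProd a b n * altProd a b n * a = altProd a b n * (altProd a b n * a) := mul_assoc _ _ _
      _ = altProd a b n * (a * altProd a b n) := by rw [ha]
      _ = (altProd a b n * a) * altProd a b n := (mul_assoc _ _ _).symm
      _ = (a * altProd a b n) * altProd a b n := by rw [ha]
      _ = a * (altProd a b n * altProd a b n) := mul_assoc _ _ _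
  · simp only [hn, if_false] at ha hb
    calc altProd a b n * altProd a b n * a = altProd a b n * (altProd a b n * a) := mul_assoc _ _ _
      _ = altProd a b n * (b * altProd a b n) := by rw [hb]
      _ = (altProd a b n * b) * altProd a b n := (mul_assoc _ _ _).symm
      _ = (a * altProd a b n) * altProd a b n := by rw [ha]
      _ = a * (altProd a b n * altProd a b n) := mul_assoc _ _ _

theorem pow_comm_b' (a b : R) (n : ℕ) (hbr : altProd a b n = altProd b a n) :
    (a * b) ^ n * b = b * (a * b) ^ n := by
  rw [← altProd_mul_self' a b n hbr]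
  have ha := mul_altProd_comm a b n hbr
  have hb := mul_altProd_comm b a n hbr.symm
  rw [← hbr] at hb
  by_cases hn : Even n
  · simp only [hn, if_true] at hb
    calc altProd a b n * altProd a b n * b = altProd a b n * (altProd a b n * b) := mul_assoc _ _ _
      _ = altProd a b n * (b * altProd a b n) := by rw [hb]
      _ = (altProd a b n * b) * altProd a b n := (mul_assoc _ _ _).symm
      _ = (b * altProd a b n) * altProd a b n := by rw [hb]
      _ = b * (altProd a b n * altProd a b n) := mul_assoc _ _ _
  · simp only [hn, if_false] at ha hb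
    calc altProd a b n * altProd a b n * b = altProd a b n * (altProd a b n * b) := mul_assoc _ _ _
      _ = altProd a b n * (a * altProd a b n) := by rw [ha]
      _ = (altProd a b n * a) * altProd a b n := (mul_assoc _ _ _).symm
      _ = (b * altProd a b n) * altProd a b n := by rw [hb]
      _ = b * (altProd a b n * altProd a b n) := mul_assoc _ _ _

end altgen

variable {ι : Type*} [Fintype ι] [DecidableEq ι] (u v : ℝ) (a b : Matrix ι ι ℝ)

noncomputable def projP (u : ℝ) (a : Matrix ι ι ℝ) : Matrix ι ι ℝ := (1 + u)⁻¹ • (1 + a)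

theorem zeta_symm (has : a.IsSymm) (hbs : b.IsSymm) : (zeta u v a b).IsSymm := by
  unfold zeta Matrix.IsSymm
  rw [Matrix.IsSymm] at has hbs
  simp only [Matrix.transpose_add, Matrix.transpose_sub, Matrix.transpose_mul,
    Matrix.transpose_smul, Matrix.transpose_one, has, hbs]
  abel

theorem zeta_comm_a (ha : a * a = u • (1 : Matrix ι ι ℝ) + (u - 1) • a) :
    zeta u v a b * a = a * zeta u v a b := by
  have haL : ∀ x : Matrix ι ι ℝ, x * a * a = x * (u • (1 : Matrix ι ι ℝ) + (u - 1) • a) := by
    intro x; rw [mul_assoc, ha]
  unfold zeta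
  simp only [mul_add, add_mul, mul_sub, sub_mul, smul_mul_assoc, mul_smul_comm, mul_one, one_mul,
    ← mul_assoc, haL, ha, smul_add, smul_sub, smul_smul]
  module

theorem zeta_comm_b (hb : b * b = v • (1 : Matrix ι ι ℝ) + (v - 1) • b) :
    zeta u v a b * b = b * zeta u v a b := by
  have hbL : ∀ x : Matrix ι ι ℝ, x * b * b = x * (v • (1 : Matrix ι ι ℝ) + (v - 1) • b) := by
    intro x; rw [mul_assoc, hb]
  unfold zeta
  simp only [mul_add, add_mul, mul_sub, sub_mul, smul_mul_assoc, mul_smul_comm, mul_one, one_mul,
    ← mul_assoc, hbL, hb, smul_add, smul_sub, smul_smul]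
  module

theorem ab_mul_ab (ha : a * a = u • (1 : Matrix ι ι ℝ) + (u - 1) • a)
    (hb : b * b = v • (1 : Matrix ι ι ℝ) + (v - 1) • b) :
    (a * b) * (a * b) = zeta u v a b * (a * b) - (u * v) • (1 : Matrix ι ι ℝ) := by
  have haL : ∀ x : Matrix ι ι ℝ, x * a * a = x * (u • (1 : Matrix ι ι ℝ) + (u - 1) • a) := by
    intro x; rw [mul_assoc, ha]
  have hbL : ∀ x : Matrix ι ι ℝ, x * b * b = x * (v • (1 : Matrix ι ι ℝ) + (v - 1) • b) := by
    intro x; rw [mul_assoc, hb]
  unfold zeta
  simp only [mul_add, add_mul, mul_sub, sub_mul, smul_mul_assoc, mul_smul_comm, mul_one, one_mul,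
    ← mul_assoc, haL, hbL, ha, hb, smul_add, smul_sub, smul_smul]
  module

theorem one_add_sq (ha : a * a = u • (1 : Matrix ι ι ℝ) + (u - 1) • a) :
    (1 + a) * (1 + a) = (1 + u) • (1 + a) := by
  simp only [mul_add, add_mul, mul_one, one_mul, ha]
  module

theorem projP_idem (hu : 1 + u ≠ 0) (ha : a * a = u • (1 : Matrix ι ι ℝ) + (u - 1) • a) :
    projP u a * projP u a = projP u a := by
  unfold projP
  rw [smul_mul_assoc, mul_smul_comm, one_add_sq u a ha, smul_smul, smul_smul]
  congr 1
  field_simp

theorem projP_symm (has : a.IsSymm) : (projP u a).IsSymm := by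
  unfold projP Matrix.IsSymm
  rw [Matrix.IsSymm] at has
  simp only [Matrix.transpose_smul, Matrix.transpose_add, Matrix.transpose_one, has]

theorem eq_projP (hu : 1 + u ≠ 0) : a = (1 + u) • projP u a - 1 := by
  unfold projP
  rw [smul_smul, mul_inv_cancel₀ hu, one_smul]
  abel

theorem mul_projP (hu : 1 + u ≠ 0) (ha : a * a = u • (1 : Matrix ι ι ℝ) + (u - 1) • a) :
    a * projP u a = u • projP u a := by
  unfold projP
  rw [mul_smul_comm, mul_add, mul_one, ha, smul_smul, mul_comm u, ← smul_smul]
  congr 1
  module

theorem projP_sub_sq (hu : 1 + u ≠ 0) (hv : 1 + v ≠ 0)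
    (ha : a * a = u • (1 : Matrix ι ι ℝ) + (u - 1) • a)
    (hb : b * b = v • (1 : Matrix ι ι ℝ) + (v - 1) • b) :
    (projP u a - projP v b) * (projP u a - projP v b) =
      ((1 + u) * (1 + v))⁻¹ • ((1 + u * v) • (1 : Matrix ι ι ℝ) - zeta u v a b) := by
  have hPP := projP_idem u a hu ha
  have hQQ := projP_idem v b hv hb
  have h1 : (projP u a - projP v b) * (projP u a - projP v b) =
      projP u a + projP v b - projP u a * projP v b - projP v b * projP u a := by
    rw [sub_mul, mul_sub, mul_sub, hPP, hQQ]; abel
  rw [h1]
  have hP : projP u a = ((1 + u) * (1 + v))⁻¹ • ((1 + v) • (1 + a)) := by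
    unfold projP; rw [smul_smul]; congr 1; field_simp
  have hQ : projP v b = ((1 + u) * (1 + v))⁻¹ • ((1 + u) • (1 + b)) := by
    unfold projP; rw [smul_smul]; congr 1; field_simp
  have hPQ : projP u a * projP v b = ((1 + u) * (1 + v))⁻¹ • ((1 + a) * (1 + b)) := by
    unfold projP; rw [smul_mul_assoc, mul_smul_comm, smul_smul, mul_inv]
  have hQP : projP v b * projP u a = ((1 + u) * (1 + v))⁻¹ • ((1 + b) * (1 + a)) := by
    unfold projP; rw [smul_mul_assoc, mul_smul_comm, smul_smul, mul_inv, mul_comm]
  rw [hPQ, hQP]
  conv_lhs => rw [hP, hQ]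
  rw [← smul_add, ← smul_sub, ← smul_sub]
  congr 1
  unfold zeta
  simp only [mul_add, add_mul, mul_one, one_mul]
  module

theorem altProd_transpose (n : ℕ) (has : a.IsSymm) (hbs : b.IsSymm) :
    (altProd a b n)ᵀ = if Even n then altProd b a n else altProd a b n := by
  induction n generalizing a b with
  | zero => simp [altProd]
  | succ k ih =>
    have h1 : (altProd a b (k + 1))ᵀ = (altProd b a k)ᵀ * a := by
      have : altProd a b (k + 1) = a * altProd b a k := rfl
      rw [this, Matrix.transpose_mul, has.eq]
    rw [h1, ih b a hbs has]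
    by_cases hk : Even k
    · have hk1 : ¬ Even (k + 1) := by rw [Nat.even_add_one]; exact not_not.mpr hk
      have e := altProd_succ_right a b k
      simp only [hk, if_true] at e
      simp only [hk, hk1, if_true, if_false]
      exact e.symm
    · have hk1 : Even (k + 1) := by rw [Nat.even_add_one]; exact hk
      have e := altProd_succ_right b a k
      simp only [hk, if_false] at e
      simp only [hk, hk1, if_true, if_false]
      exact e.symm

theorem altProd_symm (n : ℕ) (has : a.IsSymm) (hbs : b.IsSymm)
    (hbr : altProd a b n = altProd b a n) : (altProd a b n).IsSymm := by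
  unfold Matrix.IsSymm
  rw [altProd_transpose a b n has hbs]
  split_ifs
  · exact hbr.symm
  · rfl

theorem altProd_mul_self (n : ℕ) (hbr : altProd a b n = altProd b a n) :
    altProd a b n * altProd a b n = (a * b) ^ n :=
  altProd_mul_self' a b n hbr

theorem pow_comm_a (n : ℕ) (hbr : altProd a b n = altProd b a n) :
    (a * b) ^ n * a = a * (a * b) ^ n :=
  pow_comm_a' a b n hbr

theorem pow_comm_b (n : ℕ) (hbr : altProd a b n = altProd b a n) :
    (a * b) ^ n * b = b * (a * b) ^ n :=
  pow_comm_b' a b n hbr

end Cfsg.Agent.Lib.Helper66.FHAlg
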