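import Mathlib
import Cfsg.Agent.Lib.Helper19.FHDefs
import Cfsg.Agent.Lib.Helper66.FHAlg

/-!
# Feit–Higman project (S1142), module DIH-A (helper66)

A finite group generated by two distinct involutions `x`, `y` is dihedral of order `2 n`,
`n = orderOf (x * y)`: normal form `altProd x y k` (`k < n`) / `altProd y x k` (`1 ≤ k ≤ n`),
braid relation, injectivity of the normal form.
-/

set_option autoImplicit false
set_option linter.unusedSectionVars false
set_option linter.unusedSimpArgs false
set_option linter.unusedVariables false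

namespace Cfsg.Agent.Lib.Helper66.FHDih

open Cfsg.Agent.Lib.Helper19.FH Cfsg.Agent.Lib.Helper66.FHAlg

section grp

variable {W : Type*} [Group W]

theorem orderOf_swap (x y : W) : orderOf (y * x) = orderOf (x * y) := by
  have h : SemiconjBy y (x * y) (y * x) := by
    unfold SemiconjBy
    simp only [mul_assoc]
  exact (SemiconjBy.orderOf_eq y h).symm

theorem inv_of_sq {x : W} (hx : x * x = 1) : x⁻¹ = x := inv_eq_of_mul_eq_one_left hx

theorem altProd_inv (x y : W) (hx : x * x = 1) (hy : y * y = 1) (k : ℕ) :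
    (altProd x y k)⁻¹ = if Even k then altProd y x k else altProd x y k := by
  induction k generalizing x y with
  | zero => simp [altProd]
  | succ k ih =>
    have h1 : altProd x y (k + 1) = x * altProd y x k := rfl
    rw [h1, mul_inv_rev, ih y x hy hx, inv_of_sq hx]
    by_cases hk : Even k
    · have hk1 : ¬ Even (k + 1) := by rw [Nat.even_add_one]; exact not_not.mpr hk
      rw [if_pos hk, if_neg hk1, ← h1, altProd_succ_right, if_pos hk]
    · have hk1 : Even (k + 1) := by rw [Nat.even_add_one]; exact hk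
      rw [if_neg hk, if_pos hk1, altProd_succ_right, if_neg hk]

theorem mul_altProd_succ (x y : W) (hx : x * x = 1) (k : ℕ) :
    x * altProd x y (k + 1) = altProd y x k := by
  have h1 : altProd x y (k + 1) = x * altProd y x k := rfl
  rw [h1, ← mul_assoc, hx, one_mul]

/-- odd-length alternating words are conjugates of a generator -/
theorem altProd_odd (x y : W) (hx : x * x = 1) (hy : y * y = 1) (j : ℕ) :
    altProd x y (2 * j + 1) =
      altProd x y j * (if Even j then x else y) * (altProd x y j)⁻¹ := by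
  have h0 : 2 * j + 1 = j + (j + 1) := by ring
  rw [h0, altProd_add, altProd_inv x y hx hy, mul_assoc]
  congr 1
  by_cases hj : Even j
  · rw [if_pos hj, if_pos hj, if_pos hj]; rfl
  · rw [if_neg hj, if_neg hj, if_neg hj]; rfl

/-- alternating words of length `1 ≤ m < 2 n` are nontrivial -/
theorem altProd_ne_one (x y : W) (hx : x * x = 1) (hy : y * y = 1) (hx1 : x ≠ 1) (hy1 : y ≠ 1)
    (m : ℕ) (h1 : 1 ≤ m) (h2 : m < 2 * orderOf (x * y)) : altProd x y m ≠ 1 := by
  intro h
  rcases Nat.even_or_odd' m with ⟨j, hj | hj⟩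
  · subst hj
    rw [altProd_two_mul] at h
    have hd : orderOf (x * y) ∣ j := orderOf_dvd_of_pow_eq_one h
    have : orderOf (x * y) ≤ j := Nat.le_of_dvd (by omega) hd
    omega
  · subst hj
    rw [altProd_odd x y hx hy] at h
    have h3 : (if Even j then x else y) = 1 := by
      have h4 := congrArg (fun z => (altProd x y j)⁻¹ * z * altProd x y j) h
      simp only [mul_assoc, inv_mul_cancel, mul_one, inv_mul_cancel_left] at h4
      simpa using h4
    split_ifs at h3
    · exact hx1 h3
    · exact hy1 h3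

theorem altProd_eq_imp (x y : W) (hx : x * x = 1) (hy : y * y = 1) (hx1 : x ≠ 1) (hy1 : y ≠ 1)
    (k l : ℕ) (hkl : k ≤ l) (hd : l - k < 2 * orderOf (x * y))
    (h : altProd x y k = altProd x y l) : k = l := by
  by_contra hne
  obtain ⟨d, rfl⟩ : ∃ d, l = k + d := ⟨l - k, by omega⟩
  have hd1 : 1 ≤ d := by omega
  have hd2 : d < 2 * orderOf (x * y) := by omega
  rw [altProd_add] at h
  have h5 : (if Even k then altProd x y d else altProd y x d) = 1 := by
    have h6 : altProd x y k * 1 =
        altProd x y k * (if Even k then altProd x y d else altProd y x d) := by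
      rw [mul_one]; exact h
    exact (mul_left_cancel h6).symm
  split_ifs at h5
  · exact altProd_ne_one x y hx hy hx1 hy1 d hd1 hd2 h5
  · exact altProd_ne_one y x hy hx hy1 hx1 d hd1 (by rw [orderOf_swap]; exact hd2) h5

theorem altProd_ne_swap (x y : W) (hx : x * x = 1) (hy : y * y = 1) (hx1 : x ≠ 1) (hy1 : y ≠ 1)
    (k l : ℕ) (h1 : 1 ≤ k + l) (h2 : k + l < 2 * orderOf (x * y)) :
    altProd x y k ≠ altProd y x l := by
  intro h
  have h3 : (altProd y x l)⁻¹ * altProd x y k = 1 := by rw [h, inv_mul_cancel]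
  rw [altProd_inv y x hy hx] at h3
  by_cases hl : Even l
  · rw [if_pos hl] at h3
    have h4 : altProd x y (l + k) = 1 := by rw [altProd_add, if_pos hl]; exact h3
    exact altProd_ne_one x y hx hy hx1 hy1 (l + k) (by omega) (by omega) h4
  · rw [if_neg hl] at h3
    have h4 : altProd y x (l + k) = 1 := by rw [altProd_add, if_neg hl]; exact h3
    exact altProd_ne_one y x hy hx hy1 hx1 (l + k) (by omega)
      (by rw [orderOf_swap]; omega) h4

theorem dihedral_braid' (x y : W) (hx : x * x = 1) (hy : y * y = 1) :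
    altProd x y (orderOf (x * y)) = altProd y x (orderOf (x * y)) := by
  set n := orderOf (x * y) with hn
  have h1 : altProd x y (n + n) = 1 := by
    rw [← two_mul, altProd_two_mul, hn, pow_orderOf_eq_one]
  rw [altProd_add] at h1
  have h2 := altProd_inv x y hx hy n
  by_cases he : Even n
  · rw [if_pos he] at h1 h2
    rw [← h2]
    exact (inv_eq_of_mul_eq_one_left h1).symm
  · rw [if_neg he] at h1 h2
    have h3 := inv_eq_of_mul_eq_one_right h1
    rw [← h3, h2]

/-- the set of words of length `≤ n` (and `≤ m`) -/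
def QQ (x y : W) (n m : ℕ) (w : W) : Prop :=
  ∃ k, k ≤ n ∧ k ≤ m ∧ (w = altProd x y k ∨ w = altProd y x k)

theorem QQ_swap (x y : W) (n m : ℕ) (w : W) : QQ x y n m w ↔ QQ y x n m w := by
  unfold QQ
  constructor
  · rintro ⟨k, h1, h2, h3⟩; exact ⟨k, h1, h2, h3.symm⟩
  · rintro ⟨k, h1, h2, h3⟩; exact ⟨k, h1, h2, h3.symm⟩

theorem QQ_mul_left (x y : W) (hx : x * x = 1) (n : ℕ) (hn : 1 ≤ n)
    (hbr : altProd x y n = altProd y x n) (m : ℕ) (w : W) (hw : QQ x y n m w) :
    QQ x y n (m + 1) (x * w) := by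
  obtain ⟨k, hkn, hkm, hk | hk⟩ := hw
  · rcases Nat.eq_zero_or_pos k with rfl | hkpos
    · refine ⟨1, hn, by omega, Or.inl ?_⟩
      rw [hk]; simp [altProd]
    · obtain ⟨k', rfl⟩ : ∃ k', k = k' + 1 := ⟨k - 1, by omega⟩
      refine ⟨k', by omega, by omega, Or.inr ?_⟩
      rw [hk, mul_altProd_succ x y hx]
  · rcases Nat.lt_or_ge k n with hlt | hge
    · refine ⟨k + 1, by omega, by omega, Or.inl ?_⟩
      rw [hk]; rfl
    · have hkn' : k = n := le_antisymm hkn hge
      subst hkn'
      obtain ⟨k', rfl⟩ : ∃ k', k = k' + 1 := ⟨k - 1, by omega⟩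
      refine ⟨k', by omega, by omega, Or.inr ?_⟩
      rw [hk, ← hbr, mul_altProd_succ x y hx]

end grp

section fin

variable {W : Type*} [Group W] [Finite W]

theorem dihedral_braid (x y : W) (hx : x * x = 1) (hy : y * y = 1) :
    altProd x y (orderOf (x * y)) = altProd y x (orderOf (x * y)) :=
  dihedral_braid' x y hx hy

theorem QQ_of_mem (x y : W) (hx : x * x = 1) (hy : y * y = 1) (w : W)
    (hw : w ∈ Subgroup.closure ({x, y} : Set W)) :
    ∃ m, QQ x y (orderOf (x * y)) m w := by
  have hn : 1 ≤ orderOf (x * y) := orderOf_pos (x * y)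
  have hbr := dihedral_braid' x y hx hy
  have hX : ∀ m w, QQ x y (orderOf (x * y)) m w → QQ x y (orderOf (x * y)) (m + 1) (x * w) :=
    fun m w h => QQ_mul_left x y hx _ hn hbr m w h
  have hY : ∀ m w, QQ x y (orderOf (x * y)) m w → QQ x y (orderOf (x * y)) (m + 1) (y * w) := by
    intro m w h
    rw [QQ_swap] at h ⊢
    exact QQ_mul_left y x hy _ hn hbr.symm m w h
  induction hw using Subgroup.closure_induction_left with
  | one => exact ⟨0, 0, by omega, le_refl _, Or.inl rfl⟩
  | mul_left g hg w hw ih =>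
    obtain ⟨m, hm⟩ := ih
    rcases hg with rfl | hg
    · exact ⟨m + 1, hX m w hm⟩
    · rw [Set.mem_singleton_iff] at hg
      subst hg
      exact ⟨m + 1, hY m w hm⟩
  | inv_mul_cancel g hg w hw ih =>
    obtain ⟨m, hm⟩ := ih
    rcases hg with rfl | hg
    · rw [inv_of_sq hx]; exact ⟨m + 1, hX m w hm⟩
    · rw [Set.mem_singleton_iff] at hg
      subst hg
      rw [inv_of_sq hy]; exact ⟨m + 1, hY m w hm⟩

theorem normal_of_QQ (x y : W) (hx : x * x = 1) (hy : y * y = 1) (m : ℕ) (w : W)
    (h : QQ x y (orderOf (x * y)) m w) :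
    (∃ k, k < orderOf (x * y) ∧ w = altProd x y k) ∨
      (∃ k, 1 ≤ k ∧ k ≤ orderOf (x * y) ∧ w = altProd y x k) := by
  have hn : 1 ≤ orderOf (x * y) := orderOf_pos (x * y)
  have hbr := dihedral_braid' x y hx hy
  obtain ⟨k, hkn, -, hk | hk⟩ := h
  · rcases Nat.lt_or_ge k (orderOf (x * y)) with hlt | hge
    · exact Or.inl ⟨k, hlt, hk⟩
    · have hkn' : k = orderOf (x * y) := le_antisymm hkn hge
      refine Or.inr ⟨k, by omega, hkn, ?_⟩
      rw [hk, hkn', hbr]
  · rcases Nat.eq_zero_or_pos k with rfl | hkpos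
    · exact Or.inl ⟨0, by omega, by rw [hk]; rfl⟩
    · exact Or.inr ⟨k, hkpos, hkn, hk⟩

theorem dihedral_exists (x y : W) (hx : x * x = 1) (hy : y * y = 1)
    (hgen : Subgroup.closure ({x, y} : Set W) = ⊤) (w : W) :
    (∃ k, k < orderOf (x * y) ∧ w = altProd x y k) ∨
      (∃ k, 1 ≤ k ∧ k ≤ orderOf (x * y) ∧ w = altProd y x k) := by
  obtain ⟨m, hm⟩ := QQ_of_mem x y hx hy w (by rw [hgen]; exact Subgroup.mem_top w)
  exact normal_of_QQ x y hx hy m w hm

theorem dihedral_inj (x y : W) (hx : x * x = 1) (hy : y * y = 1) (hx1 : x ≠ 1) (hy1 : y ≠ 1)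
    (hxy : x ≠ y) :
    (∀ k l, k < orderOf (x * y) → l < orderOf (x * y) → altProd x y k = altProd x y l → k = l) ∧
    (∀ k l, 1 ≤ k → k ≤ orderOf (x * y) → 1 ≤ l → l ≤ orderOf (x * y) →
      altProd y x k = altProd y x l → k = l) ∧
    (∀ k l, k < orderOf (x * y) → 1 ≤ l → l ≤ orderOf (x * y) →
      altProd x y k ≠ altProd y x l) := by
  refine ⟨?_, ?_, ?_⟩
  · intro k l hk hl h
    rcases Nat.le_total k l with hkl | hkl
    · exact altProd_eq_imp x y hx hy hx1 hy1 k l hkl (by omega) h
    · exact (altProd_eq_imp x y hx hy hx1 hy1 l k hkl (by omega) h.symm).symm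
  · intro k l hk1 hk hl1 hl h
    rcases Nat.le_total k l with hkl | hkl
    · exact altProd_eq_imp y x hy hx hy1 hx1 k l hkl (by rw [orderOf_swap]; omega) h
    · exact (altProd_eq_imp y x hy hx hy1 hx1 l k hkl (by rw [orderOf_swap]; omega) h.symm).symm
  · intro k l hk hl1 hl
    exact altProd_ne_swap x y hx hy hx1 hy1 k l (by omega) (by omega)

theorem two_le_orderOf (x y : W) (hy : y * y = 1) (hxy : x ≠ y) : 2 ≤ orderOf (x * y) := by
  have hn : 1 ≤ orderOf (x * y) := orderOf_pos (x * y)
  by_contra hlt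
  have h1 : orderOf (x * y) = 1 := by omega
  rw [orderOf_eq_one_iff] at h1
  apply hxy
  have := eq_inv_of_mul_eq_one_left h1
  rw [this, inv_of_sq hy]

theorem dihedral_card (x y : W) (hx : x * x = 1) (hy : y * y = 1) (hx1 : x ≠ 1) (hy1 : y ≠ 1)
    (hxy : x ≠ y) (hgen : Subgroup.closure ({x, y} : Set W) = ⊤) :
    Nat.card W = 2 * orderOf (x * y) ∧ 2 ≤ orderOf (x * y) := by
  refine ⟨?_, two_le_orderOf x y hy hxy⟩
  obtain ⟨i1, i2, i3⟩ := dihedral_inj x y hx hy hx1 hy1 hxy
  set n := orderOf (x * y) with hn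
  let f : Fin n ⊕ Fin n → W := fun s =>
    match s with
    | Sum.inl i => altProd x y i.1
    | Sum.inr i => altProd y x (i.1 + 1)
  have hinj : Function.Injective f := by
    rintro (a | a) (b | b) hab
    · have := i1 a.1 b.1 a.2 b.2 hab
      exact congrArg Sum.inl (Fin.ext this)
    · exact absurd hab (i3 a.1 (b.1 + 1) a.2 (by omega) (by have := b.2; omega))
    · exact absurd hab.symm (i3 b.1 (a.1 + 1) b.2 (by omega) (by have := a.2; omega))
    · have := i2 (a.1 + 1) (b.1 + 1) (by omega) (by have := a.2; omega) (by omega)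
        (by have := b.2; omega) hab
      exact congrArg Sum.inr (Fin.ext (by omega))
  have hsurj : Function.Surjective f := by
    intro w
    rcases dihedral_exists x y hx hy hgen w with ⟨k, hk, rfl⟩ | ⟨k, hk1, hk, rfl⟩
    · exact ⟨Sum.inl ⟨k, hk⟩, rfl⟩
    · refine ⟨Sum.inr ⟨k - 1, by omega⟩, ?_⟩
      show altProd y x (k - 1 + 1) = altProd y x k
      congr 1; omega
  have hc := Nat.card_congr (Equiv.ofBijective f ⟨hinj, hsurj⟩)
  rw [← hc, Nat.card_sum, Nat.card_fin]
  ring

end fin

end Cfsg.Agent.Lib.Helper66.FHDih
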