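import Mathlib
import Cfsg.Agent.Lib.Helper19.FHDefs
import Cfsg.Agent.Lib.Helper66.FHAlg
import Cfsg.Agent.Lib.Helper66.FHDihA

/-!
# Feit–Higman project (S1142), module DIH-B (helper66)

In a finite group with two distinct involutions `x`, `y`, the alternating word `altProd x y k`
(`k ≤ orderOf (x * y)`) is reduced: every word in `x`, `y` with the same product has length `≥ k`.
-/

set_option autoImplicit false
set_option linter.unusedSectionVars false
set_option linter.unusedSimpArgs false
set_option linter.unusedVariables false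

namespace Cfsg.Agent.Lib.Helper66.FHDih

open Cfsg.Agent.Lib.Helper19.FH Cfsg.Agent.Lib.Helper66.FHAlg

variable {W : Type*} [Group W] [Finite W]

theorem QQ_of_list (x y : W) (hx : x * x = 1) (hy : y * y = 1) (l : List W)
    (hl : ∀ g ∈ l, g = x ∨ g = y) : QQ x y (orderOf (x * y)) l.length l.prod := by
  have hn : 1 ≤ orderOf (x * y) := orderOf_pos (x * y)
  have hbr := dihedral_braid' x y hx hy
  induction l with
  | nil => exact ⟨0, by omega, le_refl _, Or.inl rfl⟩
  | cons g l ih =>
    have ih' := ih (fun g' hg' => hl g' (List.mem_cons_of_mem _ hg'))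
    rw [List.prod_cons, List.length_cons]
    rcases hl g List.mem_cons_self with rfl | rfl
    · exact QQ_mul_left g y hx _ hn hbr _ _ ih'
    · rw [QQ_swap] at ih' ⊢
      exact QQ_mul_left g x hy _ hn hbr.symm _ _ ih'

theorem dihedral_reduced (x y : W) (hx : x * x = 1) (hy : y * y = 1) (hx1 : x ≠ 1) (hy1 : y ≠ 1)
    (hxy : x ≠ y) (k : ℕ) (hk : k ≤ orderOf (x * y)) (l : List W)
    (hl : ∀ g ∈ l, g = x ∨ g = y) (hprod : l.prod = altProd x y k) : k ≤ l.length := by
  have hn : 1 ≤ orderOf (x * y) := orderOf_pos (x * y)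
  obtain ⟨j, hjn, hjl, hj | hj⟩ := QQ_of_list x y hx hy l hl
  · rw [hprod] at hj
    rcases Nat.le_total k j with hkj | hkj
    · exact le_trans hkj hjl
    · have := altProd_eq_imp x y hx hy hx1 hy1 j k hkj (by omega) hj.symm
      omega
  · rw [hprod] at hj
    by_cases h0 : k + j = 0
    · omega
    · by_cases h2 : k + j < 2 * orderOf (x * y)
      · exact absurd hj (altProd_ne_swap x y hx hy hx1 hy1 k j (by omega) h2)
      · omega

end Cfsg.Agent.Lib.Helper66.FHDih
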