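import Mathlib

/-!
# S3818 (Flavell), module [FIXDIM] (helper2, board #3884)

If `E` is the internal direct sum of subspaces `W i` of dimension `≤ d`, permuted by `φ` along the
permutation `σ`, then the fixed space of `φ` has dimension at most `d * #(orbits of σ)`.
-/

set_option autoImplicit false

namespace Cfsg.Agent.Lib.Helper66.Flavell

open Module DirectSum

variable {K : Type*} [Field K] {E : Type*} [AddCommGroup E] [Module K E]

section
variable {ι : Type*} [Fintype ι] [DecidableEq ι] (W : ι → Submodule K E)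

/-- the sum map `(w_i) ↦ ∑ w_i` as a linear equivalence for an internal direct sum -/
noncomputable def sumEquiv (hint : DirectSum.IsInternal W) : (∀ i, W i) ≃ₗ[K] E :=
  (DirectSum.linearEquivFunOnFintype K ι (fun i => W i)).symm.trans
    (LinearEquiv.ofBijective (DirectSum.coeLinearMap W) hint)

lemma sumEquiv_apply (hint : DirectSum.IsInternal W) (w : ∀ i, W i) :
    sumEquiv W hint w = ∑ i, (w i : E) := by
  unfold sumEquiv
  rw [LinearEquiv.trans_apply]
  change DirectSum.coeLinearMap W
    ((DirectSum.linearEquivFunOnFintype K ι fun i => ↥(W i)).symm w) = _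
  conv_lhs => rw [← Finset.univ_sum_single w]
  rw [map_sum, map_sum]
  apply Finset.sum_congr rfl
  intro i _
  rw [DirectSum.linearEquivFunOnFintype_symm_single, DirectSum.coeLinearMap_lof]

/-- the `i`-th component of `v` -/
noncomputable def comp (hint : DirectSum.IsInternal W) (i : ι) : E →ₗ[K] W i :=
  (LinearMap.proj i) ∘ₗ (sumEquiv W hint).symm.toLinearMap

lemma sum_comp (hint : DirectSum.IsInternal W) (v : E) :
    ∑ i, (comp W hint i v : E) = v := by
  have h := sumEquiv_apply W hint ((sumEquiv W hint).symm v)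
  rw [LinearEquiv.apply_symm_apply] at h
  exact h.symm

lemma comp_eq_of_sum (hint : DirectSum.IsInternal W) (w : ∀ i, W i) (v : E)
    (hv : v = ∑ i, (w i : E)) (i : ι) : comp W hint i v = w i := by
  have h : (sumEquiv W hint).symm v = w := by
    rw [LinearEquiv.symm_apply_eq, sumEquiv_apply, hv]
  unfold comp
  rw [LinearMap.comp_apply, LinearEquiv.coe_coe, h]
  rfl

/-- components of a `φ`-fixed vector are transported along `σ` -/
lemma comp_perm (hint : DirectSum.IsInternal W) (φ : E →ₗ[K] E) (σ : Equiv.Perm ι)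
    (hW : ∀ i, (W i).map φ ≤ W (σ i)) (v : E) (hv : φ v = v) (i : ι) :
    (comp W hint (σ i) v : E) = φ (comp W hint i v : E) := by
  -- the family `w j := φ (comp (σ⁻¹ j) v)`
  have hmem : ∀ j, φ (comp W hint (σ.symm j) v : E) ∈ W j := by
    intro j
    have h1 : φ (comp W hint (σ.symm j) v : E) ∈ (W (σ.symm j)).map φ :=
      Submodule.mem_map_of_mem (comp W hint (σ.symm j) v).2
    have h2 := hW (σ.symm j) h1
    rwa [Equiv.apply_symm_apply] at h2
  let w : ∀ j, W j := fun j => ⟨φ (comp W hint (σ.symm j) v : E), hmem j⟩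
  have hsum : v = ∑ j, (w j : E) := by
    have h1 : ∑ j, (w j : E) = ∑ j, φ (comp W hint (σ.symm j) v : E) := rfl
    rw [h1, Equiv.sum_comp σ.symm (fun k => φ (comp W hint k v : E)), ← map_sum, sum_comp, hv]
  have h := comp_eq_of_sum W hint w v hsum (σ i)
  rw [h]
  change φ (comp W hint (σ.symm (σ i)) v : E) = _
  rw [Equiv.symm_apply_apply]

lemma comp_pow_eq_zero (hint : DirectSum.IsInternal W) (φ : E →ₗ[K] E) (σ : Equiv.Perm ι)
    (hW : ∀ i, (W i).map φ ≤ W (σ i)) (v : E) (hv : φ v = v) (i : ι)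
    (hi : comp W hint i v = 0) (n : ℕ) : comp W hint ((σ ^ n) i) v = 0 := by
  induction n with
  | zero =>
    have h0 : (σ ^ 0) i = i := by simp
    rw [h0]; exact hi
  | succ n ih =>
    apply Subtype.ext
    rw [pow_succ', Equiv.Perm.mul_apply, comp_perm W hint φ σ hW v hv, ih]
    simp

lemma comp_zpowers_eq_zero (hint : DirectSum.IsInternal W) (φ : E →ₗ[K] E) (σ : Equiv.Perm ι)
    (hW : ∀ i, (W i).map φ ≤ W (σ i)) (v : E) (hv : φ v = v) (i : ι)
    (hi : comp W hint i v = 0) (g : Subgroup.zpowers σ) : comp W hint (g • i) v = 0 := by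
  obtain ⟨k, hk⟩ := Subgroup.mem_zpowers_iff.mp g.2
  -- replace the integer power by a natural power
  have hfin : IsOfFinOrder σ := isOfFinOrder_of_finite σ
  obtain ⟨n, hn⟩ : ∃ n : ℕ, σ ^ n = σ ^ k := by
    refine ⟨(k % (orderOf σ : ℤ)).toNat, ?_⟩
    have hpos : (0 : ℤ) < orderOf σ := by exact_mod_cast hfin.orderOf_pos
    have h1 : ((k % (orderOf σ : ℤ)).toNat : ℤ) = k % (orderOf σ : ℤ) :=
      Int.toNat_of_nonneg (Int.emod_nonneg _ hpos.ne')
    rw [← zpow_natCast, h1, zpow_mod_orderOf]
  have : g • i = (σ ^ n) i := by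
    change (g : Equiv.Perm ι) i = _
    rw [← hk, hn]
  rw [this]
  exact comp_pow_eq_zero W hint φ σ hW v hv i hi n

end

/-- **[FIXDIM]** -/
theorem finrank_ker_sub_one_le [FiniteDimensional K E] {ι : Type*} [Finite ι]
    (φ : E →ₗ[K] E) (σ : Equiv.Perm ι) (W : ι → Submodule K E)
    (hW : ∀ i, (W i).map φ ≤ W (σ i)) (hind : iSupIndep W) (hsup : ⨆ i, W i = ⊤) (d : ℕ)
    (hd : ∀ i, finrank K (W i) ≤ d) :
    finrank K (LinearMap.ker (φ - LinearMap.id)) ≤
      d * Nat.card (MulAction.orbitRel.Quotient (Subgroup.zpowers σ) ι) := by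
  classical
  have : Fintype ι := Fintype.ofFinite ι
  have hint : DirectSum.IsInternal W :=
    DirectSum.isInternal_submodule_of_iSupIndep_of_iSup_eq_top hind hsup
  let Ω := MulAction.orbitRel.Quotient (Subgroup.zpowers σ) ι
  have : Fintype Ω := Fintype.ofFinite Ω
  -- representatives
  let rep : Ω → ι := fun ω => Quotient.out ω
  -- the evaluation map
  let Ψ : LinearMap.ker (φ - LinearMap.id) →ₗ[K] (∀ ω : Ω, W (rep ω)) :=
    LinearMap.pi (fun ω => (comp W hint (rep ω)) ∘ₗ (LinearMap.ker (φ - LinearMap.id)).subtype)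
  have hΨ : Function.Injective Ψ := by
    rw [← LinearMap.ker_eq_bot, LinearMap.ker_eq_bot']
    intro v hv
    have hfix : φ (v : E) = (v : E) := by
      have := v.2
      rw [LinearMap.mem_ker, LinearMap.sub_apply, LinearMap.id_apply, sub_eq_zero] at this
      exact this
    have hzero : ∀ i, comp W hint i (v : E) = 0 := by
      intro i
      -- `i` is in the orbit of its representative
      have hrel : (Quotient.mk'' i : Ω) = Quotient.mk'' (rep (Quotient.mk'' i)) :=
        (Quotient.out_eq' (Quotient.mk'' i : Ω)).symm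
      have hmem : i ∈ MulAction.orbit (Subgroup.zpowers σ) (rep (Quotient.mk'' i)) :=
        MulAction.orbitRel_apply.mp (Quotient.exact' hrel)
      obtain ⟨g, hg⟩ := hmem
      change g • rep (Quotient.mk'' i) = i at hg
      have h0 : comp W hint (rep (Quotient.mk'' i)) (v : E) = 0 := by
        have := congrFun hv (Quotient.mk'' i)
        exact this
      have := comp_zpowers_eq_zero W hint φ σ hW (v : E) hfix _ h0 g
      rwa [hg] at this
    apply Subtype.ext
    rw [← sum_comp W hint (v : E)]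
    simp [hzero]
  have h1 := LinearMap.finrank_le_finrank_of_injective hΨ
  have h2 : finrank K (∀ ω : Ω, W (rep ω)) = ∑ ω : Ω, finrank K (W (rep ω)) :=
    Module.finrank_pi_fintype K
  have h3 : ∑ ω : Ω, finrank K (W (rep ω)) ≤ ∑ _ω : Ω, d :=
    Finset.sum_le_sum (fun ω _ => hd (rep ω))
  rw [Finset.sum_const, Finset.card_univ, smul_eq_mul, mul_comm] at h3
  rw [Nat.card_eq_fintype_card]
  exact h1.trans (h2 ▸ h3)

end Cfsg.Agent.Lib.Helper66.Flavell
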