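import Mathlib

/-!
# S3818 (Flavell), module [ORBCOUNT] (helper2, board #3884)

Orbit count for a permutation of prime order: `p * #orbits = n + (p - 1) * #fixed points`.
-/

set_option autoImplicit false

namespace Cfsg.Agent.Lib.Helper66.Flavell

/-- a nonidentity element of `zpowers σ` (with `σ ^ p = 1`, `p` prime) has the same fixed points
as `σ` -/
lemma fixed_iff_of_ne_one {ι : Type*} {p : ℕ} [Fact p.Prime] (σ : Equiv.Perm ι)
    (hσ : σ ^ p = 1) (a : Subgroup.zpowers σ) (ha : a ≠ 1) (i : ι) :
    (a : Equiv.Perm ι) i = i ↔ σ i = i := by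
  constructor
  · intro hai
    have hσ1 : σ ≠ 1 := by
      intro h1
      apply ha
      obtain ⟨k, hk⟩ := Subgroup.mem_zpowers_iff.mp a.2
      apply Subtype.ext
      rw [← hk, h1, one_zpow]
      rfl
    have hord : orderOf σ = p := by
      have h1 : orderOf σ ∣ p := orderOf_dvd_of_pow_eq_one hσ
      rcases (Nat.dvd_prime (Fact.out : p.Prime)).mp h1 with h | h
      · exact absurd (orderOf_eq_one_iff.mp h) hσ1
      · exact h
    have hcard : Nat.card (Subgroup.zpowers σ) = p := by
      rw [Nat.card_zpowers, hord]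
    have htop := zpowers_eq_top_of_prime_card hcard ha
    have hmem : (⟨σ, Subgroup.mem_zpowers σ⟩ : Subgroup.zpowers σ) ∈ Subgroup.zpowers a := by
      rw [htop]; exact Subgroup.mem_top _
    obtain ⟨k, hk⟩ := Subgroup.mem_zpowers_iff.mp hmem
    have hk' : ((a : Equiv.Perm ι)) ^ k = σ := by
      have := congrArg (fun x : Subgroup.zpowers σ => (x : Equiv.Perm ι)) hk
      simpa using this
    rw [← hk']
    exact Equiv.Perm.zpow_apply_eq_self_of_apply_eq_self hai k
  · intro hsi
    obtain ⟨k, hk⟩ := Subgroup.mem_zpowers_iff.mp a.2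
    rw [← hk]
    exact Equiv.Perm.zpow_apply_eq_self_of_apply_eq_self hsi k

/-- **[ORBCOUNT]** -/
theorem prime_mul_card_orbits {ι : Type*} [Finite ι] {p : ℕ} [Fact p.Prime] (σ : Equiv.Perm ι)
    (hσ : σ ^ p = 1) :
    p * Nat.card (MulAction.orbitRel.Quotient (Subgroup.zpowers σ) ι) =
      Nat.card ι + (p - 1) * Nat.card {i : ι // σ i = i} := by
  classical
  have : Fintype ι := Fintype.ofFinite ι
  have : Fintype (Subgroup.zpowers σ) := Fintype.ofFinite _
  have : Fintype (MulAction.orbitRel.Quotient (Subgroup.zpowers σ) ι) := Fintype.ofFinite _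
  have hB := MulAction.sum_card_fixedBy_eq_card_orbits_mul_card_group (Subgroup.zpowers σ) ι
  -- the summand at `1`
  have h1 : Fintype.card (MulAction.fixedBy ι (1 : Subgroup.zpowers σ)) = Nat.card ι := by
    rw [Nat.card_eq_fintype_card]
    apply Fintype.card_congr
    exact (Equiv.subtypeUnivEquiv (fun i => by simp))
  -- the summands at `a ≠ 1`
  have h2 : ∀ a : Subgroup.zpowers σ, a ≠ 1 →
      Fintype.card (MulAction.fixedBy ι a) = Nat.card {i : ι // σ i = i} := by
    intro a ha
    rw [Nat.card_eq_fintype_card]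
    apply Fintype.card_congr
    apply Equiv.subtypeEquivRight
    intro i
    rw [MulAction.mem_fixedBy]
    exact fixed_iff_of_ne_one σ hσ a ha i
  rw [← Finset.add_sum_erase Finset.univ _ (Finset.mem_univ (1 : Subgroup.zpowers σ)), h1,
    Finset.sum_congr rfl (fun a ha => h2 a (Finset.ne_of_mem_erase ha)), Finset.sum_const,
    Finset.card_erase_of_mem (Finset.mem_univ _), Finset.card_univ, smul_eq_mul] at hB
  -- the order of `zpowers σ`
  by_cases hσ1 : σ = 1
  · subst hσ1
    have hc : Fintype.card (Subgroup.zpowers (1 : Equiv.Perm ι)) = 1 := by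
      rw [← Nat.card_eq_fintype_card, Nat.card_zpowers, orderOf_one]
    rw [hc] at hB
    have hF : Nat.card {i : ι // (1 : Equiv.Perm ι) i = i} = Nat.card ι := by
      apply Nat.card_congr
      exact Equiv.subtypeUnivEquiv (fun i => by simp)
    rw [hF, Nat.card_eq_fintype_card
      (α := MulAction.orbitRel.Quotient (Subgroup.zpowers (1 : Equiv.Perm ι)) ι)]
    have hp1 : 1 ≤ p := (Fact.out : p.Prime).one_lt.le
    have : Fintype.card (MulAction.orbitRel.Quotient (Subgroup.zpowers (1 : Equiv.Perm ι)) ι) =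
        Nat.card ι := by
      simpa using hB.symm
    rw [this]
    obtain ⟨k, rfl⟩ : ∃ k, p = k + 1 := ⟨p - 1, by omega⟩
    simp only [Nat.add_sub_cancel]
    ring
  · have hord : orderOf σ = p := by
      have h1 : orderOf σ ∣ p := orderOf_dvd_of_pow_eq_one hσ
      rcases (Nat.dvd_prime (Fact.out : p.Prime)).mp h1 with h | h
      · exact absurd (orderOf_eq_one_iff.mp h) hσ1
      · exact h
    have hc : Fintype.card (Subgroup.zpowers σ) = p := by
      rw [← Nat.card_eq_fintype_card, Nat.card_zpowers, hord]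
    rw [hc] at hB
    rw [Nat.card_eq_fintype_card (α := MulAction.orbitRel.Quotient (Subgroup.zpowers σ) ι),
      mul_comm, ← hB]

end Cfsg.Agent.Lib.Helper66.Flavell
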