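import Mathlib

/-!
# S3818 (Flavell), module [COMMLOWER] (helper2, board #3884)

For `f ≠ 1` in `End V` with `c = dim ker (f - 1)`, the commutant of `f` has dimension at least
`c ^ 2 + 1`.
-/

set_option autoImplicit false

namespace Cfsg.Agent.Lib.Helper66.Flavell

open Module

variable {K : Type*} [Field K] {V : Type*} [AddCommGroup V] [Module K V]

/-- the embedding `Hom(V/R, F) → End V`, `T ↦ F.subtype ∘ T ∘ R.mkQ` -/
def sandwich (F R : Submodule K V) : ((V ⧸ R) →ₗ[K] F) →ₗ[K] Module.End K V where
  toFun T := F.subtype ∘ₗ T ∘ₗ R.mkQ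
  map_add' T T' := by
    ext v; simp
  map_smul' c T := by
    ext v; simp

lemma sandwich_apply (F R : Submodule K V) (T : (V ⧸ R) →ₗ[K] F) (v : V) :
    sandwich F R T v = (T (R.mkQ v) : V) := rfl

lemma sandwich_injective (F R : Submodule K V) : Function.Injective (sandwich F R) := by
  intro T T' h
  apply LinearMap.ext
  intro q
  obtain ⟨v, rfl⟩ := R.mkQ_surjective q
  have := congrArg (fun g : Module.End K V => g v) h
  simp only [sandwich_apply] at this
  exact Subtype.ext this

/-- **[COMMLOWER]** -/
theorem sq_add_one_le_finrank_centralizer [FiniteDimensional K V] (f : Module.End K V)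
    (hf : f ≠ 1) :
    (finrank K ↥(LinearMap.ker (f - LinearMap.id))) ^ 2 + 1 ≤
      finrank K ↥(LinearMap.ker (LinearMap.mulLeft K f - LinearMap.mulRight K f)) := by
  set F := LinearMap.ker (f - LinearMap.id) with hF
  set R := LinearMap.range (f - LinearMap.id) with hR
  set Com := LinearMap.ker (LinearMap.mulLeft K f - LinearMap.mulRight K f) with hCom
  have hmemCom : ∀ T : Module.End K V, T ∈ Com ↔ f * T = T * f := by
    intro T
    rw [hCom, LinearMap.mem_ker, LinearMap.sub_apply, LinearMap.mulLeft_apply,
      LinearMap.mulRight_apply, sub_eq_zero]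
  -- `f` is the identity on `F` and modulo `R`
  have hfF : ∀ w : F, f (w : V) = (w : V) := by
    intro w
    have h0 : (w : V) ∈ LinearMap.ker (f - LinearMap.id) := w.2
    rw [LinearMap.mem_ker, LinearMap.sub_apply, LinearMap.id_apply, sub_eq_zero] at h0
    exact h0
  have hfR : ∀ v : V, R.mkQ (f v) = R.mkQ v := by
    intro v
    have h1 : f v - v ∈ R := ⟨v, by simp⟩
    have h2 : R.mkQ (f v - v) = 0 := (Submodule.Quotient.mk_eq_zero R).mpr h1
    rw [map_sub, sub_eq_zero] at h2
    exact h2
  -- the image of the sandwich map lies in the commutant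
  have hS : LinearMap.range (sandwich F R) ≤ Com := by
    rintro _ ⟨T, rfl⟩
    rw [hmemCom]
    ext v
    simp only [Module.End.mul_apply, sandwich_apply]
    rw [hfF, hfR]
  -- the identity is in the commutant but not in the image
  have hidCom : (1 : Module.End K V) ∈ Com := by
    rw [hmemCom, mul_one, one_mul]
  have hidS : (1 : Module.End K V) ∉ LinearMap.range (sandwich F R) := by
    rintro ⟨T, hT⟩
    apply hf
    ext v
    have h1 := congrArg (fun g : Module.End K V => g v) hT
    simp only [sandwich_apply, Module.End.one_apply] at h1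
    rw [← h1, hfF, Module.End.one_apply]
  have hlt : LinearMap.range (sandwich F R) < Com :=
    lt_of_le_of_ne hS (fun h => hidS (h ▸ hidCom))
  have h1 := Submodule.finrank_lt_finrank_of_lt hlt
  -- dimension of the image
  have h2 : finrank K ↥(LinearMap.range (sandwich F R)) = finrank K ((V ⧸ R) →ₗ[K] F) :=
    LinearMap.finrank_range_of_inj (sandwich_injective F R)
  have h3 : finrank K ((V ⧸ R) →ₗ[K] F) = finrank K (V ⧸ R) * finrank K F :=
    Module.finrank_linearMap K K (V ⧸ R) F
  have h4 : finrank K (V ⧸ R) = finrank K F := by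
    have e1 := Submodule.finrank_quotient_add_finrank R
    have e2 := LinearMap.finrank_range_add_finrank_ker (f - LinearMap.id)
    rw [← hR, ← hF] at e2
    omega
  rw [h2, h3, h4] at h1
  have : finrank K ↥F ^ 2 = finrank K ↥F * finrank K ↥F := sq _
  omega

end Cfsg.Agent.Lib.Helper66.Flavell
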