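/-
helper66: module S3360-[A3] for helper2's project S3360 (Huppert).
-/
import Mathlib
import Cfsg.Prelude.Def_Solvable
import Cfsg.Agent.Lib.Helper2.HuppertDefs
import Cfsg.Agent.Lib.Helper1.PCore
import Cfsg.Agent.Lib.Helper1.Fitting
import Cfsg.Agent.Lib.Helper21.OddTransLinearMul

set_option autoImplicit false

namespace Cfsg.Agent.Lib.Helper66.HupA3

open Cfsg Module Cfsg.Agent.Lib.Helper2.Huppert

variable {G : Type*} [Group G] [Finite G]

/-- **[A3]** In a solvable group with `O_r(G) = 1`, an element of order `r` fails to centralize `O_s(G)`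
for some prime `s ≠ r`. -/
theorem exists_not_commute_pCore (hsol : Group.IsSolvable G) {r : ℕ} [Fact r.Prime]
    (hcore : pCore r G = ⊥) (ξ : G) (hξ : orderOf ξ = r) :
    ∃ s : ℕ, s.Prime ∧ s ≠ r ∧ ∃ g ∈ pCore s G, ξ * g ≠ g * ξ := by
  by_contra hcon
  have hall : ∀ p : Nat.Primes, pCore (p : ℕ) G ≤ Subgroup.centralizer {ξ} := by
    intro p g hg
    rw [Subgroup.mem_centralizer_iff]
    intro h hh
    rw [Set.mem_singleton_iff] at hh
    subst hh
    by_cases hpr : (p : ℕ) = r
    · rw [hpr, hcore, Subgroup.mem_bot] at hg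
      rw [hg, mul_one, one_mul]
    · by_contra hne
      exact hcon ⟨p, p.2, hpr, g, hg, hne⟩
  have hF : fittingSubgroup G ≤ Subgroup.centralizer {ξ} := by
    rw [Cfsg.Agent.Lib.Helper1.fittingSubgroup_eq_iSup_pCore]
    exact iSup_le hall
  have hξC : ξ ∈ Subgroup.centralizer (fittingSubgroup G : Set G) := by
    rw [Subgroup.mem_centralizer_iff]
    intro h hh
    have := hF hh
    rw [Subgroup.mem_centralizer_iff] at this
    exact (this ξ rfl).symm
  have hξF : ξ ∈ fittingSubgroup G :=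
    Cfsg.Agent.Lib.Helper21.OddTransLinear.centralizer_fitting_le_of_isSolvable hsol hξC
  have hcop : (Nat.card (fittingSubgroup G)).Coprime r := by
    rw [Cfsg.Agent.Lib.Helper1.fittingSubgroup_eq_iSup_pCore]
    refine (Cfsg.Agent.Lib.Helper1.normal_and_coprime_card_sSup r
      (Set.range fun p : Nat.Primes => pCore (p : ℕ) G) ?_).2
    rintro N ⟨p, rfl⟩
    refine ⟨Cfsg.Agent.Lib.Helper1.pCore_normal _, ?_⟩
    by_cases hpr : (p : ℕ) = r
    · show (Nat.card (pCore (p : ℕ) G)).Coprime r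
      rw [hpr, hcore]
      simp
    · have : Fact (p : ℕ).Prime := ⟨p.2⟩
      obtain ⟨n, hn⟩ := IsPGroup.iff_card.mp (Cfsg.Agent.Lib.Helper1.pCore_isPGroup (p : ℕ) (G := G))
      show (Nat.card (pCore (p : ℕ) G)).Coprime r
      rw [hn]
      apply Nat.Coprime.pow_left
      exact (Nat.coprime_primes p.2 (Fact.out : r.Prime)).2 hpr
  have hdvd : r ∣ Nat.card (fittingSubgroup G) := by
    rw [← hξ]
    exact Subgroup.orderOf_dvd_natCard _ hξF
  have : r = 1 := Nat.eq_one_of_dvd_coprimes hcop hdvd (dvd_refl r)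
  exact (Fact.out : r.Prime).one_lt.ne' this

end Cfsg.Agent.Lib.Helper66.HupA3
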