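import Mathlib
import Cfsg.Agent.Lib.Helper57.StemAbelian

/-!
# Project REEM, module [TWO] (helper66)

`E = 2³` normalised by an element `x` with `x⁷ = 1` acting fixed-point-freely: the preimage of `E` in a
central extension is abelian.
-/

set_option autoImplicit false

namespace Cfsg.Agent.Lib.Helper66.ReeM

open Cfsg.Agent.Lib.Helper57
open scoped commutatorElement

section Quot

variable {G : Type*} [Group G]

lemma h66_cj_add (s a : G) (i k : ℕ) : cj s a (i + k) = s ^ i * cj s a k * (s ^ i)⁻¹ := by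
  rw [cj, cj, pow_add]
  group

/-- a group of exponent two is abelian -/
lemma h66_comm_of_exp (E : Subgroup G) (hexp : ∀ e ∈ E, e * e = 1) {e e' : G} (he : e ∈ E)
    (he' : e' ∈ E) : e * e' = e' * e := by
  have h := hexp (e * e') (E.mul_mem he he')
  have h1 : e' * e = e * (e * e' * (e * e')) * e' := by
    have h2 : e * (e * e' * (e * e')) * e' = (e * e) * (e' * e) * (e' * e') := by group
    rw [h2, hexp e he, hexp e' he', one_mul, mul_one]
  rw [h, mul_one] at h1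
  exact h1.symm

variable (E : Subgroup G) (x : G) (hx7 : x ^ 7 = 1) (hnorm : ∀ e ∈ E, x * e * x⁻¹ ∈ E)
  (hfpf : ∀ e ∈ E, x * e * x⁻¹ = e → e = 1)

include hnorm in
lemma h66_cj_mem {a₀ : G} (ha₀ : a₀ ∈ E) (i : ℕ) : cj x a₀ i ∈ E := by
  induction i with
  | zero => rw [cj_zero]; exact ha₀
  | succ i ih => rw [cj_succ]; exact hnorm _ ih

include hx7 hfpf in
lemma h66_cj_ne {a₀ : G} (ha₀ : a₀ ∈ E) (h1 : a₀ ≠ 1) {k : ℕ} (hk : ¬ 7 ∣ k) :
    cj x a₀ k ≠ a₀ := by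
  intro h
  apply h1
  apply hfpf a₀ ha₀
  have hcomm : Commute (x ^ k) a₀ := by
    rw [cj, mul_inv_eq_iff_eq_mul] at h
    exact h
  have hcop : Nat.Coprime k 7 := by
    rw [Nat.coprime_comm, Nat.Prime.coprime_iff_not_dvd (by norm_num)]
    exact hk
  obtain ⟨l, -, hl⟩ := Nat.exists_mul_mod_eq_one_of_coprime hcop (by norm_num)
  have hx : (x ^ k) ^ l = x := by
    rw [← pow_mul, pow_eq_pow_mod (k * l) hx7, hl, pow_one]
  have hc2 : Commute x a₀ := by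
    rw [← hx]
    exact hcomm.pow_left l
  rw [hc2.eq, mul_inv_cancel_right]

include hx7 hfpf in
lemma h66_cj_inj {a₀ : G} (ha₀ : a₀ ∈ E) (h1 : a₀ ≠ 1) {i j : ℕ} (hi : i < 7) (hj : j < 7)
    (h : cj x a₀ i = cj x a₀ j) : i = j := by
  have key : ∀ i k : ℕ, i + k < 7 → cj x a₀ i = cj x a₀ (i + k) → k = 0 := by
    intro i k hik h
    by_contra hk
    have h2 : cj x a₀ k = a₀ := by
      rw [h66_cj_add, cj, mul_assoc, mul_assoc (x ^ i)] at h
      have h3 := mul_right_cancel (mul_left_cancel h)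
      exact h3.symm
    exact h66_cj_ne E x hx7 hfpf ha₀ h1 (k := k) (by omega) h2
  rcases le_total i j with hij | hij
  · obtain ⟨k, rfl⟩ := Nat.exists_eq_add_of_le hij
    have := key i k hj h
    omega
  · obtain ⟨k, rfl⟩ := Nat.exists_eq_add_of_le hij
    have := key j k hi h.symm
    omega

include hx7 hnorm hfpf in
lemma h66_elems (hE8 : Nat.card E = 8) {a₀ : G} (ha₀ : a₀ ∈ E) (h1 : a₀ ≠ 1) :
    ∀ e ∈ E, e = 1 ∨ ∃ i, i < 7 ∧ e = cj x a₀ i := by
  classical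
  have : Finite E := Nat.finite_of_card_ne_zero (by rw [hE8]; norm_num)
  let f : Fin 7 → E := fun i => ⟨cj x a₀ i, h66_cj_mem E x hnorm ha₀ i⟩
  have hf : Function.Injective f := by
    intro i j hij
    have h2 : cj x a₀ i = cj x a₀ j := congrArg Subtype.val hij
    exact Fin.ext (h66_cj_inj E x hx7 hfpf ha₀ h1 i.2 j.2 h2)
  have hsub : Set.range f ⊆ (Set.univ \ {1} : Set E) := by
    rintro _ ⟨i, rfl⟩
    refine ⟨Set.mem_univ _, ?_⟩
    intro h
    rw [Set.mem_singleton_iff] at h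
    have h2 : cj x a₀ i = 1 := congrArg Subtype.val h
    apply h1
    rw [cj] at h2
    have h3 : a₀ = (x ^ (i : ℕ))⁻¹ * 1 * (x ^ (i : ℕ)) := by
      rw [← h2]
      group
    rw [h3]
    group
  have hc1 : (Set.range f).ncard = 7 := by
    rw [← Set.image_univ, Set.ncard_image_of_injective _ hf, Set.ncard_univ]
    simp
  have hc2 : (Set.univ \ {1} : Set E).ncard = 7 := by
    rw [Set.ncard_sdiff_singleton_of_mem (Set.mem_univ _), Set.ncard_univ, hE8]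
  have heq := Set.eq_of_subset_of_ncard_le hsub (by rw [hc1, hc2]) (Set.toFinite _)
  intro e he
  by_cases he1 : e = 1
  · exact Or.inl he1
  · right
    have h2 : (⟨e, he⟩ : E) ∈ (Set.univ \ {1} : Set E) :=
      ⟨Set.mem_univ _, fun h => he1 (congrArg Subtype.val h)⟩
    rw [← heq] at h2
    obtain ⟨i, hi⟩ := h2
    exact ⟨i, i.2, (congrArg Subtype.val hi).symm⟩

lemma h66_cj_ne_one {a₀ : G} (h1 : a₀ ≠ 1) (i : ℕ) : cj x a₀ i ≠ 1 := by
  intro h2
  apply h1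
  rw [cj] at h2
  have h3 : a₀ = (x ^ i)⁻¹ * 1 * (x ^ i) := by
    rw [← h2]
    group
  rw [h3]
  group

lemma h66_shift {a₀ : G} {i j k : ℕ} (h : cj x a₀ i * cj x a₀ j = cj x a₀ k) (n : ℕ) :
    cj x a₀ (n + i) * cj x a₀ (n + j) = cj x a₀ (n + k) := by
  rw [h66_cj_add, h66_cj_add, h66_cj_add, ← h]
  group

include hx7 in
lemma h66_period (a₀ : G) (i : ℕ) : cj x a₀ (i + 7) = cj x a₀ i :=
  cj_add_of_central x a₀ 7 (by rw [hx7]; exact one_mem _) i

include hx7 in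
lemma h66_cj_inv (a₀ : G) (i : ℕ) : cj x⁻¹ a₀ i = cj x a₀ (6 * i) := by
  have h6 : x⁻¹ = x ^ 6 := by
    symm
    apply eq_inv_of_mul_eq_one_left
    rw [← pow_succ]
    exact hx7
  rw [cj, cj, h6, ← pow_mul]

include hx7 hnorm hfpf in
/-- the relation `b₀ b₁ = b₃` or `b₀ b₁ = b₅` -/
lemma h66_rel (hE8 : Nat.card E = 8) (hexp : ∀ e ∈ E, e * e = 1) {a₀ : G} (ha₀ : a₀ ∈ E)
    (h1 : a₀ ≠ 1) :
    cj x a₀ 0 * cj x a₀ 1 = cj x a₀ 3 ∨ cj x a₀ 0 * cj x a₀ 1 = cj x a₀ 5 := by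
  have hb : ∀ i, cj x a₀ i ∈ E := h66_cj_mem E x hnorm ha₀
  have c : ∀ {e e' : G}, e ∈ E → e' ∈ E → e * e' = e' * e :=
    fun he he' => h66_comm_of_exp E hexp he he'
  have inj : ∀ {i j : ℕ}, i < 7 → j < 7 → cj x a₀ i = cj x a₀ j → i = j :=
    fun hi hj h => h66_cj_inj E x hx7 hfpf ha₀ h1 hi hj h
  have inv_eq : ∀ e ∈ E, e⁻¹ = e := by
    intro e he
    exact inv_eq_of_mul_eq_one_left (hexp e he)
  rcases h66_elems E x hx7 hnorm hfpf hE8 ha₀ h1 _ (E.mul_mem (hb 0) (hb 1)) with hP | ⟨k, hk, hP⟩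
  · exfalso
    have h2 : cj x a₀ 0 = (cj x a₀ 1)⁻¹ := eq_inv_of_mul_eq_one_left hP
    rw [inv_eq _ (hb 1)] at h2
    have := inj (by norm_num) (by norm_num) h2
    omega
  · interval_cases k
    · exfalso
      have h2 : cj x a₀ 1 = 1 := by
        have h3 : cj x a₀ 0 * cj x a₀ 1 = cj x a₀ 0 * 1 := by rw [hP, mul_one]
        exact mul_left_cancel h3
      exact h66_cj_ne_one x h1 1 h2
    · exfalso
      have h2 : cj x a₀ 0 = 1 := by
        have h3 : cj x a₀ 0 * cj x a₀ 1 = 1 * cj x a₀ 1 := by rw [hP, one_mul]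
        exact mul_right_cancel h3
      exact h66_cj_ne_one x h1 0 h2
    · exfalso
      have e2 : cj x a₀ 1 * cj x a₀ 2 = cj x a₀ 3 := h66_shift x hP 1
      have h3 : cj x a₀ 3 = cj x a₀ 0 := by
        calc cj x a₀ 3 = cj x a₀ 1 * cj x a₀ 2 := e2.symm
          _ = cj x a₀ 1 * (cj x a₀ 0 * cj x a₀ 1) := by rw [hP]
          _ = cj x a₀ 1 * (cj x a₀ 1 * cj x a₀ 0) := by rw [c (hb 0) (hb 1)]
          _ = (cj x a₀ 1 * cj x a₀ 1) * cj x a₀ 0 := by rw [mul_assoc]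
          _ = cj x a₀ 0 := by rw [hexp _ (hb 1), one_mul]
      have := inj (by norm_num) (by norm_num) h3
      omega
    · exact Or.inl hP
    · exfalso
      have e2 : cj x a₀ 3 * cj x a₀ 4 = cj x a₀ 0 := by
        have := h66_shift x hP 3
        rw [show 3 + 0 = 3 from rfl, show 3 + 1 = 4 from rfl, show 3 + 4 = 0 + 7 from rfl,
          h66_period x hx7] at this
        exact this
      have h3 : cj x a₀ 3 = cj x a₀ 1 := by
        calc cj x a₀ 3 = cj x a₀ 3 * ((cj x a₀ 0 * cj x a₀ 1) * (cj x a₀ 0 * cj x a₀ 1)) := by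
              rw [hexp _ (E.mul_mem (hb 0) (hb 1)), mul_one]
          _ = (cj x a₀ 3 * cj x a₀ 4) * (cj x a₀ 0 * cj x a₀ 1) := by rw [hP, mul_assoc]
          _ = cj x a₀ 0 * (cj x a₀ 0 * cj x a₀ 1) := by rw [e2]
          _ = cj x a₀ 1 := by rw [← mul_assoc, hexp _ (hb 0), one_mul]
      have := inj (by norm_num) (by norm_num) h3
      omega
    · exact Or.inr hP
    · exfalso
      have e2 : cj x a₀ 6 * cj x a₀ 0 = cj x a₀ 5 := by
        have := h66_shift x hP 6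
        rw [show 6 + 0 = 6 from rfl, show 6 + 1 = 0 + 7 from rfl, show 6 + 6 = 5 + 7 from rfl,
          h66_period x hx7, h66_period x hx7] at this
        exact this
      have h3 : cj x a₀ 5 = cj x a₀ 1 := by
        calc cj x a₀ 5 = (cj x a₀ 0 * cj x a₀ 1) * cj x a₀ 0 := by rw [hP, e2]
          _ = (cj x a₀ 1 * cj x a₀ 0) * cj x a₀ 0 := by rw [c (hb 0) (hb 1)]
          _ = cj x a₀ 1 * (cj x a₀ 0 * cj x a₀ 0) := by rw [mul_assoc]
          _ = cj x a₀ 1 := by rw [hexp _ (hb 0), mul_one]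
      have := inj (by norm_num) (by norm_num) h3
      omega

end Quot

/-- the core: with the relation `b₀ b₁ = b₃` the preimage of `E` is abelian -/
theorem h66_core {Γ G : Type*} [Group Γ] [Group G] (σ : Γ →* G)
    (hsurj : Function.Surjective σ) (hcen : σ.ker ≤ Subgroup.center Γ)
    (E : Subgroup G) (hE8 : Nat.card E = 8) (hexp : ∀ e ∈ E, e * e = 1)
    (x : G) (hx7 : x ^ 7 = 1) (hnorm : ∀ e ∈ E, x * e * x⁻¹ ∈ E)
    (hfpf : ∀ e ∈ E, x * e * x⁻¹ = e → e = 1) (a₀ : G) (ha₀ : a₀ ∈ E) (h1 : a₀ ≠ 1)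
    (hrel : cj x a₀ 0 * cj x a₀ 1 = cj x a₀ 3) :
    ∀ a b : E.comap σ, a * b = b * a := by
  intro q1 q2
  obtain ⟨s', hs'⟩ := hsurj x
  obtain ⟨a', ha'⟩ := hsurj a₀
  have hmap : ∀ i, σ (cj s' a' i) = cj x a₀ i := fun i => by rw [map_cj, hs', ha']
  have hb : ∀ i, cj x a₀ i ∈ E := h66_cj_mem E x hnorm ha₀
  have h7 : s' ^ 7 ∈ Subgroup.center Γ :=
    hcen (by rw [MonoidHom.mem_ker, map_pow, hs', hx7])
  have hc : ∀ i j, ⁅cj s' a' i, cj s' a' j⁆ ∈ Subgroup.center Γ := by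
    intro i j
    apply hcen
    rw [MonoidHom.mem_ker, map_commutatorElement, hmap, hmap]
    exact commutatorElement_eq_one_iff_mul_comm.2 (h66_comm_of_exp E hexp (hb i) (hb j))
  have hr : ∃ z ∈ Subgroup.center Γ, cj s' a' 0 * cj s' a' 1 = cj s' a' 3 * z := by
    refine ⟨(cj s' a' 3)⁻¹ * (cj s' a' 0 * cj s' a' 1), hcen ?_, by group⟩
    rw [MonoidHom.mem_ker, map_mul, map_inv, map_mul, hmap, hmap, hmap, hrel, inv_mul_cancel]
  have hbb := comm_of_singer s' a' h7 hc hr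
  have hdec : ∀ q : Γ, σ q ∈ E → ∃ w z : Γ, q = w * z ∧ z ∈ Subgroup.center Γ ∧
      (w = 1 ∨ ∃ i, w = cj s' a' i) := by
    intro q hq
    rcases h66_elems E x hx7 hnorm hfpf hE8 ha₀ h1 _ hq with h2 | ⟨i, -, hi⟩
    · exact ⟨1, q, (one_mul q).symm, hcen (MonoidHom.mem_ker.2 h2), Or.inl rfl⟩
    · refine ⟨cj s' a' i, (cj s' a' i)⁻¹ * q, by group, hcen ?_, Or.inr ⟨i, rfl⟩⟩
      rw [MonoidHom.mem_ker, map_mul, map_inv, hmap, hi, inv_mul_cancel]
  obtain ⟨w1, z1, e1, hz1, hw1⟩ := hdec q1 q1.2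
  obtain ⟨w2, z2, e2, hz2, hw2⟩ := hdec q2 q2.2
  have hww : Commute w1 w2 := by
    rcases hw1 with rfl | ⟨i, rfl⟩ <;> rcases hw2 with rfl | ⟨j, rfl⟩
    · exact Commute.refl 1
    · exact Commute.one_left _
    · exact Commute.one_right _
    · exact hbb i j
  rw [Subgroup.mem_center_iff] at hz1 hz2
  have c1 : ∀ g, Commute z1 g := fun g => (hz1 g).symm
  have c2 : ∀ g, Commute g z2 := fun g => hz2 g
  apply Subtype.ext
  change (q1 : Γ) * q2 = q2 * q1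
  rw [e1, e2]
  exact ((hww.mul_right (c2 w1)).mul_left (c1 _)).eq

/-- [TWO] -/
theorem comm_comap_of_singer8 {Γ G : Type*} [Group Γ] [Group G] (σ : Γ →* G)
    (hsurj : Function.Surjective σ) (hcen : σ.ker ≤ Subgroup.center Γ)
    (E : Subgroup G) (hE8 : Nat.card E = 8) (hexp : ∀ e ∈ E, e * e = 1)
    (x : G) (hx7 : x ^ 7 = 1) (hnorm : ∀ e ∈ E, x * e * x⁻¹ ∈ E)
    (hfpf : ∀ e ∈ E, x * e * x⁻¹ = e → e = 1) :
    ∀ a b : E.comap σ, a * b = b * a := by
  -- a non-identity element of `E`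
  have hnt : ∃ a₀ ∈ E, a₀ ≠ 1 := by
    by_contra hcon
    push Not at hcon
    have h1 : E = ⊥ := by
      rw [Subgroup.eq_bot_iff_forall]
      exact hcon
    rw [h1, Subgroup.card_bot] at hE8
    omega
  obtain ⟨a₀, ha₀, h1⟩ := hnt
  rcases h66_rel E x hx7 hnorm hfpf hE8 hexp ha₀ h1 with hrel | hrel
  · exact h66_core σ hsurj hcen E hE8 hexp x hx7 hnorm hfpf a₀ ha₀ h1 hrel
  · -- use `x⁻¹`
    have hb : ∀ i, cj x a₀ i ∈ E := h66_cj_mem E x hnorm ha₀
    have hx7' : x⁻¹ ^ 7 = 1 := by rw [inv_pow, hx7, inv_one]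
    have hnorm' : ∀ e ∈ E, x⁻¹ * e * x⁻¹⁻¹ ∈ E := by
      intro e he
      have h2 := h66_cj_mem E x hnorm he 6
      have h3 := h66_cj_inv x hx7 e 1
      rw [mul_one] at h3
      rw [← h3, cj, pow_one] at h2
      exact h2
    have hfpf' : ∀ e ∈ E, x⁻¹ * e * x⁻¹⁻¹ = e → e = 1 := by
      intro e he h2
      apply hfpf e he
      rw [inv_inv] at h2
      calc x * e * x⁻¹ = x * (x⁻¹ * e * x) * x⁻¹ := by rw [h2]
        _ = e := by group
    have hrel' : cj x⁻¹ a₀ 0 * cj x⁻¹ a₀ 1 = cj x⁻¹ a₀ 3 := by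
      rw [h66_cj_inv x hx7, h66_cj_inv x hx7, h66_cj_inv x hx7]
      have e2 : cj x a₀ 6 * cj x a₀ 0 = cj x a₀ 4 := by
        have := h66_shift x hrel 6
        rw [show 6 + 0 = 6 from rfl, show 6 + 1 = 0 + 7 from rfl, show 6 + 5 = 4 + 7 from rfl,
          h66_period x hx7, h66_period x hx7] at this
        exact this
      rw [show 6 * 0 = 0 from rfl, show 6 * 1 = 6 from rfl, show 6 * 3 = 4 + 7 + 7 from rfl,
        h66_period x hx7, h66_period x hx7, h66_comm_of_exp E hexp (hb 0) (hb 6)]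
      exact e2
    exact h66_core σ hsurj hcen E hE8 hexp x⁻¹ hx7' hnorm' hfpf' a₀ ha₀ h1 hrel'

end Cfsg.Agent.Lib.Helper66.ReeM
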