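import Mathlib
import Cfsg.Prelude.Def_GeometricClasses
import Cfsg.Agent.Lib.Helper99.AschDefs
import Cfsg.Agent.Lib.Helper23.AschSpDefs
import Cfsg.Agent.S0144

/-!
# ASCHSP-[GL23] (helper66): `GL_2(3)` has no nontrivial perfect subgroup

`|GL_2(3)| = 48 = 2^4 * 3`, so every subgroup is solvable by Burnside's `p^a q^b` theorem (S0144).
-/

set_option autoImplicit false

namespace Cfsg.Agent.Lib.Helper23.AschSp

open Cfsg Cfsg.Geo Cfsg.Agent.Lib.Helper99.Asch
open scoped MatrixGroups Matrix Kronecker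

variable {n m : ℕ} {F : Type*} [Field F] [Fintype F] {f : (Fin n → F) → (Fin n → F) → F}

theorem eq_bot_of_perfect_GL2F3 (hF : Fintype.card F = 3) (Q : Subgroup (GL (Fin 2) F)) (hperf : ⁅Q, Q⁆ = Q) :
    Q = ⊥ := by
  classical
  have hcard : Nat.card (GL (Fin 2) F) = 48 := by
    rw [Matrix.card_GL_field, hF]
    simp [Fin.prod_univ_two]
  have hfin : Finite (GL (Fin 2) F) := Nat.finite_of_card_ne_zero (by rw [hcard]; norm_num)
  have hdvd : Nat.card Q ∣ 2 ^ 4 * 3 ^ 1 := by
    have := Subgroup.card_subgroup_dvd_card Q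
    rw [hcard] at this
    exact this
  have hsolv : Group.IsSolvable Q := by
    obtain ⟨k1, k2, h1, h2, he⟩ := (Nat.dvd_mul).1 hdvd
    obtain ⟨a', _, rfl⟩ := (Nat.dvd_prime_pow Nat.prime_two).1 h1
    obtain ⟨b', _, rfl⟩ := (Nat.dvd_prime_pow Nat.prime_three).1 h2
    exact Cfsg.Agent.S0144.result 2 3 a' b' Nat.prime_two Nat.prime_three he.symm
  have hcomm : commutator ↥Q = ⊤ := by
    have h1 : (commutator ↥Q).map Q.subtype = ⁅Q, Q⁆ := Subgroup.map_subtype_commutator Q
    have h2 : (⊤ : Subgroup ↥Q).map Q.subtype = Q := by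
      rw [← MonoidHom.range_eq_map, Subgroup.range_subtype]
    exact Subgroup.map_injective Q.subtype_injective (h1.trans (hperf.trans h2.symm))
  by_contra hne
  have hnt : Nontrivial ↥Q := (Subgroup.nontrivial_iff_ne_bot Q).mpr hne
  have := Group.IsSolvable.commutator_lt_top_of_nontrivial ↥Q
  rw [hcomm] at this
  exact lt_irrefl _ this

end Cfsg.Agent.Lib.Helper23.AschSp
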