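import Mathlib
import Cfsg.Prelude.Def_GeometricClasses
import Cfsg.Agent.Lib.Helper99.AschDefs
import Cfsg.Agent.Lib.Helper23.AschSpDefs
import Cfsg.Agent.Lib.Helper39.AschC3
import Cfsg.Agent.Lib.Helper69.AschSpAdj

/-!
# ASCHSP-[C3-SUB] (hedge by helper66): a prime-degree subfield on which the adjoint is trivial,
or the quadratic field with non-trivial adjoint
-/

set_option autoImplicit false

namespace Cfsg.Agent.Lib.Helper66.AschSpC3Sub

open Module

/-- An `F`-automorphism `θ` of order `≤ 2` of a finite field `L ≠ F`: there is a prime `r ∣ [L:F]`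
such that `θ` is trivial on the fixed field of `x ↦ x^(q^r)`, or `r = 2`. -/
theorem frob_cases {F L : Type*} [Field F] [Fintype F] [Field L] [Algebra F L] [FiniteDimensional F L]
    (θ : L ≃ₐ[F] L) (hθ : ∀ x, θ (θ x) = x) (hs : finrank F L ≠ 1) :
    ∃ r : ℕ, r.Prime ∧ r ∣ finrank F L ∧
      ((∀ x : L, x ^ (Fintype.card F ^ r) = x → θ x = x) ∨ r = 2) := by
  classical
  have : Finite L := Module.finite_of_finite F
  have hs0 : 0 < finrank F L := finrank_pos
  let φ : L ≃ₐ[F] L := FiniteField.frobeniusAlgEquivOfAlgebraic F L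
  have hφ : orderOf φ = finrank F L := FiniteField.orderOf_frobeniusAlgEquivOfAlgebraic F L
  have hφpow : ∀ (k : ℕ) (x : L), (φ ^ k) x = x ^ (Fintype.card F ^ k) := by
    intro k x
    have h1 : ⇑(φ ^ k) = (⇑φ)^[k] := AlgEquiv.coe_pow φ k
    have h2 := FiniteField.coe_frobeniusAlgEquivOfAlgebraic_iterate F L k
    rw [h1, h2]
  obtain ⟨⟨j, hj⟩, hjθ⟩ := (FiniteField.bijective_frobeniusAlgEquivOfAlgebraic_pow F L).2 θ
  have hjθ' : φ ^ j = θ := hjθ
  by_cases hj0 : j = 0
  · obtain ⟨r, hrp, hrs⟩ := Nat.exists_prime_and_dvd hs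
    refine ⟨r, hrp, hrs, Or.inl ?_⟩
    intro x _
    rw [← hjθ', hj0, pow_zero, AlgEquiv.one_apply]
  · have h2 : φ ^ (2 * j) = 1 := by
      rw [mul_comm, pow_mul, hjθ']
      ext x
      rw [pow_two, AlgEquiv.mul_apply, hθ, AlgEquiv.one_apply]
    have hdvd : finrank F L ∣ 2 * j := by
      rw [← hφ]; exact orderOf_dvd_of_pow_eq_one h2
    have hsj : finrank F L = 2 * j := by
      obtain ⟨c, hc⟩ := hdvd
      have hc1 : c = 1 := by
        have hcpos : 0 < c := by
          rcases Nat.eq_zero_or_pos c with h0 | h0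
          · rw [h0, mul_zero] at hc; omega
          · exact h0
        have hclt : c < 2 := by
          by_contra hge
          have : 2 ≤ c := by omega
          have : finrank F L * 2 ≤ finrank F L * c := Nat.mul_le_mul_left _ this
          omega
        omega
      rw [hc1, mul_one] at hc
      exact hc.symm
    by_cases hj1 : j = 1
    · exact ⟨2, Nat.prime_two, ⟨j, hsj⟩, Or.inr rfl⟩
    · obtain ⟨r, hrp, hrj⟩ := Nat.exists_prime_and_dvd hj1
      refine ⟨r, hrp, ?_, Or.inl ?_⟩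
      · rw [hsj]; exact Dvd.dvd.mul_left hrj 2
      · intro x hx
        obtain ⟨m, hm⟩ := hrj
        have hfix : (φ ^ r) x = x := by rw [hφpow, hx]
        have hiter : ∀ t : ℕ, ((φ ^ r) ^ t) x = x := by
          intro t
          induction t with
          | zero => simp
          | succ t ih => rw [pow_succ, AlgEquiv.mul_apply, hfix, ih]
        rw [← hjθ', hm, pow_mul]
        exact hiter m

/-- The same for a ring that is a field and a map `θ` given by its properties. -/
theorem frob_cases_of_isField {F L : Type*} [Field F] [Fintype F] [Ring L] [Algebra F L]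
    (hL : IsField L) [Module.Finite F L] (θ : L → L)
    (hmul : ∀ x y, θ (x * y) = θ x * θ y) (hadd : ∀ x y, θ (x + y) = θ x + θ y)
    (halg : ∀ c : F, θ (algebraMap F L c) = algebraMap F L c) (hθθ : ∀ x, θ (θ x) = x)
    (hs : finrank F L ≠ 1) :
    ∃ r : ℕ, r.Prime ∧ r ∣ finrank F L ∧
      ((∀ x : L, x ^ (Fintype.card F ^ r) = x → θ x = x) ∨ r = 2) := by
  let _i : Field L := hL.toField
  let θ' : L ≃ₐ[F] L :=
    { toFun := θ
      invFun := θ
      left_inv := hθθ
      right_inv := hθθ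
      map_mul' := hmul
      map_add' := hadd
      commutes' := halg }
  exact frob_cases θ' hθθ hs

end Cfsg.Agent.Lib.Helper66.AschSpC3Sub

namespace Cfsg.Agent.Lib.Helper23.AschSp

open Cfsg Cfsg.Geo Cfsg.Agent.Lib.Helper99.Asch Module
open scoped MatrixGroups Matrix Kronecker

variable {n m : ℕ} {F : Type*} [Field F] [Fintype F] {f : (Fin n → F) → (Fin n → F) → F}

theorem exists_prime_subfield_adj (hf : IsSymplecticForm f) (H : Subgroup (GL (Fin n) F))
    (K : Subalgebra F (Matrix (Fin n) (Fin n) F))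
    (hcomm : ∀ x ∈ K, ∀ y ∈ K, x * y = y * x)
    (hinv : ∀ x ∈ K, x ≠ 0 → ∃ y ∈ K, x * y = 1)
    (hbig : ∃ x ∈ K, ∀ c : F, x ≠ c • (1 : Matrix (Fin n) (Fin n) F))
    (hnorm : ∀ h ∈ H, ∀ k ∈ K,
      (h : Matrix (Fin n) (Fin n) F) * k * ((h⁻¹ : GL (Fin n) F) : Matrix (Fin n) (Fin n) F) ∈ K)
    (hadj : ∀ k ∈ K, adjMat f k ∈ K) :
    ∃ (r : ℕ) (K' : Subalgebra F (Matrix (Fin n) (Fin n) F)), r.Prime ∧ IsFieldSubalgebra r K' ∧
      (∀ h ∈ H, ∀ k ∈ K',
        (h : Matrix (Fin n) (Fin n) F) * k * ((h⁻¹ : GL (Fin n) F) : Matrix (Fin n) (Fin n) F) ∈ K') ∧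
      ((∀ k ∈ K', adjMat f k = k) ∨
        (r = 2 ∧ (∀ k ∈ K', adjMat f k ∈ K') ∧ ∃ k ∈ K', adjMat f k ≠ k)) := by
  classical
  -- the matrix ring is nontrivial
  have hnt : Nontrivial (Matrix (Fin n) (Fin n) F) := by
    by_contra hnt
    rw [not_nontrivial_iff_subsingleton] at hnt
    obtain ⟨x, -, hx⟩ := hbig
    exact hx 0 (Subsingleton.elim _ _)
  -- `K` is a field
  have hKfield : IsField K := by
    refine ⟨⟨0, 1, ?_⟩, ?_, ?_⟩
    · intro h01
      have := congrArg (Subtype.val) h01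
      exact zero_ne_one this
    · intro x y
      exact Subtype.ext (hcomm x x.2 y y.2)
    · intro a ha
      have ha' : (a : Matrix (Fin n) (Fin n) F) ≠ 0 := fun h0 => ha (Subtype.ext h0)
      obtain ⟨y, hyK, hy⟩ := hinv a a.2 ha'
      exact ⟨⟨y, hyK⟩, Subtype.ext hy⟩
  -- the degree
  have hs1 : finrank F K ≠ 1 := by
    intro h1
    rw [Subalgebra.finrank_eq_one_iff] at h1
    obtain ⟨x, hxK, hx⟩ := hbig
    rw [h1, Algebra.mem_bot] at hxK
    obtain ⟨c, rfl⟩ := hxK
    exact hx c (by rw [Algebra.algebraMap_eq_smul_one])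
  -- the adjoint as a map of `K`
  let θ : K → K := fun x => ⟨adjMat f (x : Matrix (Fin n) (Fin n) F), hadj x x.2⟩
  have hθmul : ∀ x y : K, θ (x * y) = θ x * θ y := by
    intro x y
    apply Subtype.ext
    show adjMat f ((x : Matrix (Fin n) (Fin n) F) * (y : Matrix (Fin n) (Fin n) F)) =
      adjMat f (x : Matrix (Fin n) (Fin n) F) * adjMat f (y : Matrix (Fin n) (Fin n) F)
    rw [adj_mul hf]
    exact hcomm _ (hadj y y.2) _ (hadj x x.2)
  have hθadd : ∀ x y : K, θ (x + y) = θ x + θ y := by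
    intro x y
    apply Subtype.ext
    show adjMat f ((x : Matrix (Fin n) (Fin n) F) + (y : Matrix (Fin n) (Fin n) F)) =
      adjMat f (x : Matrix (Fin n) (Fin n) F) + adjMat f (y : Matrix (Fin n) (Fin n) F)
    exact adj_add _ _
  have hθalg : ∀ c : F, θ (algebraMap F K c) = algebraMap F K c := by
    intro c
    apply Subtype.ext
    show adjMat f ((algebraMap F K c : K) : Matrix (Fin n) (Fin n) F) =
      ((algebraMap F K c : K) : Matrix (Fin n) (Fin n) F)
    have : ((algebraMap F K c : K) : Matrix (Fin n) (Fin n) F) = c • (1 : Matrix (Fin n) (Fin n) F) := by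
      rw [Subalgebra.coe_algebraMap, Algebra.algebraMap_eq_smul_one]
    rw [this, adj_smul, adj_one hf]
  have hθθ : ∀ x : K, θ (θ x) = x := by
    intro x
    apply Subtype.ext
    show adjMat f (adjMat f (x : Matrix (Fin n) (Fin n) F)) = (x : Matrix (Fin n) (Fin n) F)
    exact adj_adj hf _
  obtain ⟨r, hrp, hrs, hcase⟩ :=
    Cfsg.Agent.Lib.Helper66.AschSpC3Sub.frob_cases_of_isField hKfield θ hθmul hθadd hθalg hθθ hs1
  obtain ⟨E, hEmem, hEr⟩ := Cfsg.Agent.Lib.Helper39.AschC3.exists_fixed_subalgebra_of_isField hKfield r hrs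
  set N : ℕ := Fintype.card F ^ r with hN
  set Kr : Subalgebra F (Matrix (Fin n) (Fin n) F) := E.map K.val with hKr
  have hKrmem : ∀ y, y ∈ Kr ↔ y ∈ K ∧ y ^ N = y := by
    intro y
    rw [hKr, Subalgebra.mem_map]
    constructor
    · rintro ⟨x, hxE, rfl⟩
      refine ⟨x.2, ?_⟩
      have := (hEmem x).mp hxE
      have h2 := congrArg (Subtype.val) this
      simpa using h2
    · rintro ⟨hyK, hy⟩
      refine ⟨⟨y, hyK⟩, ?_, rfl⟩
      rw [hEmem]
      exact Subtype.ext (by simpa using hy)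
  have hfield : IsFieldSubalgebra r Kr := by
    refine ⟨?_, ?_, ?_⟩
    · intro x hx y hy
      exact hcomm x ((hKrmem x).mp hx).1 y ((hKrmem y).mp hy).1
    · intro x hx hx0
      obtain ⟨hxK, hxN⟩ := (hKrmem x).mp hx
      obtain ⟨y, hyK, hxy⟩ := hinv x hxK hx0
      refine ⟨y, (hKrmem y).mpr ⟨hyK, ?_⟩, hxy⟩
      have hc : Commute x y := hcomm x hxK y hyK
      have h1 : x * y ^ N = 1 := by
        have := hc.mul_pow N
        rw [hxy, one_pow, hxN] at this
        exact this.symm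
      have hyx : y * x = 1 := by rw [← hc.eq]; exact hxy
      calc y ^ N = (y * x) * y ^ N := by rw [hyx, one_mul]
        _ = y * (x * y ^ N) := by rw [mul_assoc]
        _ = y := by rw [h1, mul_one]
    · have e : E ≃ₐ[F] Kr := E.equivMapOfInjective K.val Subtype.val_injective
      rw [← hEr]
      exact (e.toLinearEquiv.finrank_eq).symm
  have hKrnorm : ∀ h ∈ H, ∀ k ∈ Kr,
      (h : Matrix (Fin n) (Fin n) F) * k * ((h⁻¹ : GL (Fin n) F) : Matrix (Fin n) (Fin n) F) ∈ Kr := by
    intro h hh k hk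
    obtain ⟨hkK, hkN⟩ := (hKrmem k).mp hk
    refine (hKrmem _).mpr ⟨hnorm h hh k hkK, ?_⟩
    rw [Cfsg.Agent.Lib.Helper39.AschC3.conj_pow_matrix, hkN]
  -- the adjoint commutes with powers on `K`
  have hadjpow : ∀ k ∈ K, ∀ t : ℕ, adjMat f (k ^ t) = (adjMat f k) ^ t := by
    intro k hk t
    induction t with
    | zero => rw [pow_zero, pow_zero, adj_one hf]
    | succ t ih => rw [pow_succ, adj_mul hf, ih, pow_succ']
  have hKradj : ∀ k ∈ Kr, adjMat f k ∈ Kr := by
    intro k hk
    obtain ⟨hkK, hkN⟩ := (hKrmem k).mp hk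
    refine (hKrmem _).mpr ⟨hadj k hkK, ?_⟩
    rw [← hadjpow k hkK, hkN]
  refine ⟨r, Kr, hrp, hfield, hKrnorm, ?_⟩
  rcases hcase with hfix | hr2
  · left
    intro k hk
    obtain ⟨hkK, hkN⟩ := (hKrmem k).mp hk
    have := hfix ⟨k, hkK⟩ (Subtype.ext (by simpa using hkN))
    exact congrArg Subtype.val this
  · by_cases hall : ∀ k ∈ Kr, adjMat f k = k
    · exact Or.inl hall
    · right
      push Not at hall
      exact ⟨hr2, hKradj, hall⟩

end Cfsg.Agent.Lib.Helper23.AschSp
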