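import Mathlib
import Cfsg.Prelude.Def_GeometricClasses
import Cfsg.Agent.Lib.Helper99.AschDefs
import Cfsg.Agent.Lib.Helper23.AschSpDefs
import Cfsg.Agent.Lib.Helper37.Asch.FormKit

/-!
# ASCHSP-[PERP] (helper66): Gram matrix and orthogonal complements for a bilinear / symplectic form
-/

set_option autoImplicit false

namespace Cfsg.Agent.Lib.Helper23.AschSp

open Cfsg Cfsg.Geo Cfsg.Agent.Lib.Helper99.Asch
open scoped MatrixGroups Matrix Kronecker

variable {n m : ℕ} {F : Type*} [Field F] [Fintype F] {f : (Fin n → F) → (Fin n → F) → F}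

theorem form_eq_gram (hf : IsBilinearForm f) (u v : Fin n → F) :
    f u v = u ⬝ᵥ (gramMatrix f *ᵥ v) := by
  have h := (Cfsg.Agent.Lib.Helper37.Asch.isSesq_of_bilinear hf).eq_gram u v
  exact h

theorem mem_perp_iff (hf : IsBilinearForm f) (W : Submodule F (Fin n → F)) (v : Fin n → F) :
    v ∈ perp f W ↔ ∀ w ∈ W, f w v = 0 := by
  constructor
  · intro h w hw
    rw [form_eq_gram hf]
    exact h w hw
  · intro h w hw
    rw [← form_eq_gram hf]
    exact h w hw

theorem gram_det_ne_zero (hf : IsBilinearForm f) (hnd : IsNondegenerateForm f) :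
    (gramMatrix f).det ≠ 0 := by
  have h := (Cfsg.Agent.Lib.Helper37.Asch.isSesq_of_bilinear hf).isUnit_gram hnd
  have h2 : IsUnit (gramMatrix f) := h
  rw [Matrix.isUnit_iff_isUnit_det] at h2
  exact h2.ne_zero

theorem perp_eq_orthogonal (W : Submodule F (Fin n → F)) :
    perp f W = (Matrix.toBilin' (gramMatrix f)).orthogonal W := by
  ext v
  rw [LinearMap.BilinForm.mem_orthogonal_iff]
  constructor
  · intro h w hw
    rw [Matrix.toBilin'_apply']
    exact h w hw
  · intro h w hw
    have := h w hw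
    rw [Matrix.toBilin'_apply'] at this
    exact this

theorem finrank_perp (hf : IsBilinearForm f) (hnd : IsNondegenerateForm f) (W : Submodule F (Fin n → F)) :
    Module.finrank F W + Module.finrank F (perp f W) = n := by
  have hdet := gram_det_ne_zero hf hnd
  have hB : (Matrix.toBilin' (gramMatrix f)).Nondegenerate :=
    (Matrix.nondegenerate_of_det_ne_zero hdet).toBilin'
  rw [perp_eq_orthogonal, LinearMap.BilinForm.finrank_orthogonal hB, Module.finrank_fin_fun]
  have hle : Module.finrank F W ≤ n := by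
    have := Submodule.finrank_le W
    rwa [Module.finrank_fin_fun] at this
  omega

theorem perp_perp (hf : IsSymplecticForm f) (W : Submodule F (Fin n → F)) :
    perp f (perp f W) = W := by
  have hle : W ≤ perp f (perp f W) := by
    intro w hw
    rw [mem_perp_iff hf.bilinear]
    intro v hv
    rw [mem_perp_iff hf.bilinear] at hv
    rw [hf.skew, hv w hw, neg_zero]
  have h1 := finrank_perp hf.bilinear hf.nondegenerate W
  have h2 := finrank_perp hf.bilinear hf.nondegenerate (perp f W)
  exact (Submodule.eq_of_le_of_finrank_eq hle (by omega)).symm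

theorem perp_map_of_mem_isoGL (hf : IsBilinearForm f) (g : GL (Fin n) F) (hg : g ∈ isoGL f)
    (W : Submodule F (Fin n → F)) :
    (perp f W).map (Matrix.toLin' (g : Matrix (Fin n) (Fin n) F)) =
      perp f (W.map (Matrix.toLin' (g : Matrix (Fin n) (Fin n) F))) := by
  rw [mem_isoGL] at hg
  ext x
  constructor
  · rintro ⟨v, hv, rfl⟩
    rw [mem_perp_iff hf]
    rintro _ ⟨w, hw, rfl⟩
    rw [Matrix.toLin'_apply, Matrix.toLin'_apply, hg]
    exact (mem_perp_iff hf W v).mp hv w hw
  · intro hx
    rw [mem_perp_iff hf] at hx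
    refine ⟨((g⁻¹ : GL (Fin n) F) : Matrix (Fin n) (Fin n) F) *ᵥ x, ?_, ?_⟩
    · rw [SetLike.mem_coe, mem_perp_iff hf]
      intro w hw
      have h1 := hx _ (Submodule.mem_map_of_mem (f := Matrix.toLin' (g : Matrix (Fin n) (Fin n) F)) hw)
      rw [Matrix.toLin'_apply] at h1
      rw [← hg w, Matrix.mulVec_mulVec, ← Matrix.GeneralLinearGroup.coe_mul, mul_inv_cancel]
      simpa using h1
    · rw [Matrix.toLin'_apply, Matrix.mulVec_mulVec, ← Matrix.GeneralLinearGroup.coe_mul,
        mul_inv_cancel]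
      simp

theorem isNondegenerateOn_iff (hf : IsSymplecticForm f) (W : Submodule F (Fin n → F)) :
    IsNondegenerateOn f W ↔ W ⊓ perp f W = ⊥ := by
  constructor
  · intro h
    rw [eq_bot_iff]
    rintro w ⟨hw, hw'⟩
    rw [Submodule.mem_bot]
    by_contra hne
    obtain ⟨⟨x, hx, hxw⟩, -⟩ := h w hw hne
    exact hxw ((mem_perp_iff hf.bilinear W w).mp hw' x hx)
  · intro h w hw hne
    have hnot : w ∉ perp f W := by
      intro hw'
      have : w ∈ W ⊓ perp f W := ⟨hw, hw'⟩
      rw [h, Submodule.mem_bot] at this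
      exact hne this
    rw [mem_perp_iff hf.bilinear] at hnot
    push Not at hnot
    obtain ⟨x, hx, hxw⟩ := hnot
    refine ⟨⟨x, hx, hxw⟩, ⟨x, hx, ?_⟩⟩
    rw [hf.skew]
    exact neg_ne_zero.mpr hxw

end Cfsg.Agent.Lib.Helper23.AschSp
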