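import Mathlib
import Cfsg.Prelude.Def_KGroupFacts

set_option autoImplicit false

namespace Cfsg.Agent.Lib.Helper66

universe u v

/-- The identity is a stem extension. -/
theorem isStemExtension_id (G : Type u) [Group G] : Cfsg.IsStemExtension (MonoidHom.id G) := by
  refine ⟨Function.surjective_id, ?_, ?_⟩ <;>
  · intro x hx
    rw [MonoidHom.mem_ker] at hx
    have : x = 1 := hx
    subst this
    exact Subgroup.one_mem _

/-- Criterion for a trivial Schur multiplier: `G` finite and every finite stem extension has trivial kernel. -/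
theorem hasCyclicSchurMultiplier_one_of (G : Type u) [Group G] [Finite G]
    (h : ∀ (Γ : Type u) [Group Γ] [Finite Γ] (σ : Γ →* G), Cfsg.IsStemExtension σ → σ.ker = ⊥) :
    Cfsg.HasCyclicSchurMultiplier G 1 := by
  refine ⟨⟨G, inferInstance, inferInstance, MonoidHom.id G, isStemExtension_id G, ?_⟩, ?_⟩
  · have hk : (MonoidHom.id G).ker = ⊥ := by
      ext x; simp
    have : Subsingleton (MonoidHom.id G).ker := by
      rw [hk]; infer_instance
    letI : Unique (MonoidHom.id G).ker := uniqueOfSubsingleton 1
    exact ⟨MulEquiv.ofUnique⟩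
  · intro Γ _ _ σ hσ
    refine ⟨1, ?_⟩
    intro x
    have := h Γ σ hσ
    refine ⟨1, ?_⟩
    apply Subtype.ext
    have hx : (x : Γ) = 1 := (Subgroup.eq_bot_iff_forall _).1 this x x.2
    simp [hx]

/-- Converse: trivial Schur multiplier means every finite stem extension has trivial kernel. -/
theorem ker_eq_bot_of_hasCyclicSchurMultiplier_one {G : Type u} [Group G]
    (h : Cfsg.HasCyclicSchurMultiplier G 1)
    (Γ : Type u) [Group Γ] [Finite Γ] (σ : Γ →* G) (hσ : Cfsg.IsStemExtension σ) : σ.ker = ⊥ := by
  obtain ⟨π, hπ⟩ := h.2 Γ σ hσ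
  rw [Subgroup.eq_bot_iff_forall]
  intro x hx
  obtain ⟨a, ha⟩ := hπ ⟨x, hx⟩
  have : a = 1 := Subsingleton.elim _ _
  subst this
  rw [map_one] at ha
  exact (congrArg Subtype.val ha).symm

/-- A group with a Schur multiplier in the sense of `HasSchurMultiplier` with finite `A` is finite.-/
theorem finite_of_hasSchurMultiplier {G : Type u} [Group G] {A : Type v} [CommGroup A]
    (h : Cfsg.HasSchurMultiplier G A) : Finite G := by
  obtain ⟨⟨Γ, _, _, σ, hσ, _⟩, _⟩ := h
  exact Finite.of_surjective σ hσ.1

end Cfsg.Agent.Lib.Helper66
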