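import Mathlib
import Cfsg.Prelude.Def_KGroupFacts

set_option autoImplicit false

namespace Cfsg.Agent.Lib.Helper66

open scoped commutatorElement

universe u v w

section central

variable {X : Type u} [Group X]

/-- Commutators do not see central factors. -/
theorem commutatorElement_eq_of_central {a a' b b' : X} (ha : a⁻¹ * a' ∈ Subgroup.center X)
    (hb : b⁻¹ * b' ∈ Subgroup.center X) : ⁅a', b'⁆ = ⁅a, b⁆ := by
  have ha' : a' = a * (a⁻¹ * a') := by group
  have hb' : b' = b * (b⁻¹ * b') := by group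
  set z₁ := a⁻¹ * a' with hz₁
  set z₂ := b⁻¹ * b' with hz₂
  rw [ha', hb', commutatorElement_def, commutatorElement_def]
  have c1 : ∀ g, g * z₁ = z₁ * g := Subgroup.mem_center_iff.1 ha
  have c2 : ∀ g, g * z₂ = z₂ * g := Subgroup.mem_center_iff.1 hb
  calc a * z₁ * (b * z₂) * (a * z₁)⁻¹ * (b * z₂)⁻¹
      = a * (z₁ * b) * z₂ * (z₁⁻¹ * a⁻¹) * (z₂⁻¹ * b⁻¹) := by group
    _ = a * (b * z₁) * z₂ * (z₁⁻¹ * a⁻¹) * (z₂⁻¹ * b⁻¹) := by rw [c1 b]
    _ = a * b * z₁ * (z₂ * z₁⁻¹) * a⁻¹ * (z₂⁻¹ * b⁻¹) := by group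
    _ = a * b * z₁ * (z₁⁻¹ * z₂) * a⁻¹ * (z₂⁻¹ * b⁻¹) := by rw [c2 z₁⁻¹]
    _ = a * b * (z₂ * a⁻¹) * (z₂⁻¹ * b⁻¹) := by group
    _ = a * b * (a⁻¹ * z₂) * (z₂⁻¹ * b⁻¹) := by rw [c2 a⁻¹]
    _ = a * b * a⁻¹ * b⁻¹ := by group

/-- Two homomorphisms from a perfect group that agree modulo the center are equal. -/
theorem hom_eq_of_perfect {G : Type v} [Group G] [hG : Group.IsPerfect G] (η₁ η₂ : G →* X)
    (h : ∀ g, (η₂ g)⁻¹ * η₁ g ∈ Subgroup.center X) : η₁ = η₂ := by
  have htop : η₁.eqLocus η₂ = ⊤ := by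
    rw [eq_top_iff, ← hG.commutator_eq_top, commutator_def, Subgroup.commutator_le]
    intro a _ b _
    show η₁ ⁅a, b⁆ = η₂ ⁅a, b⁆
    rw [map_commutatorElement, map_commutatorElement]
    exact commutatorElement_eq_of_central (h a) (h b)
  ext g
  have : g ∈ η₁.eqLocus η₂ := by rw [htop]; exact Subgroup.mem_top g
  exact this

/-- In a perfect group, "central modulo a central subgroup" is central (Grün's lemma),
in the form used for composites of central extensions. -/
theorem ker_comp_le_center_of_perfect {Γ : Type u} {G : Type v} {Q : Type w} [Group Γ] [Group G]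
    [Group Q] [Group.IsPerfect Γ] (σ : Γ →* G) (hσ : σ.ker ≤ Subgroup.center Γ) (π : G →* Q)
    (hπ : π.ker ≤ Subgroup.center G) : (π.comp σ).ker ≤ Subgroup.center Γ := by
  intro x hx
  have hσx : σ x ∈ Subgroup.center G := hπ (by
    rw [MonoidHom.mem_ker] at hx ⊢
    exact hx)
  have key : (MulAut.conj x).toMonoidHom = MonoidHom.id Γ := by
    apply hom_eq_of_perfect
    intro g
    apply hσ
    rw [MonoidHom.mem_ker]
    show σ (g⁻¹ * (x * g * x⁻¹)) = 1
    have := Subgroup.mem_center_iff.1 hσx (σ g)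
    rw [map_mul, map_inv, map_mul, map_mul, map_inv, ← this]
    group
  rw [Subgroup.mem_center_iff]
  intro g
  have h1 : x * g * x⁻¹ = g := by
    have := congrArg (fun f : Γ →* Γ => f g) key
    exact this
  calc g * x = (x * g * x⁻¹) * x := by rw [h1]
    _ = x * g := by group

end central

section perfect

variable {E : Type u} {Q : Type v} [Group E] [Group Q]

/-- A surjection onto a perfect group is already surjective on the commutator subgroup. -/
theorem exists_mem_commutator_map_eq [hQ : Group.IsPerfect Q] (f : E →* Q)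
    (hf : Function.Surjective f) (q : Q) : ∃ a ∈ commutator E, f a = q := by
  have h : (commutator E).map f = ⊤ := by
    rw [commutator_def, Subgroup.map_commutator, ← MonoidHom.range_eq_map,
      MonoidHom.range_eq_top.2 hf]
    exact hQ.commutator_eq_top
  have : q ∈ (commutator E).map f := by rw [h]; exact Subgroup.mem_top q
  exact this

/-- A central extension of a finite group has finitely many commutators. -/
theorem finite_commutatorSet_of_central [Finite Q] (f : E →* Q)
    (hker : f.ker ≤ Subgroup.center E) : Finite (commutatorSet E) := by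
  classical
  let h : Q × Q → E := fun p =>
    if hp : (∃ a, f a = p.1) ∧ (∃ b, f b = p.2) then ⁅hp.1.choose, hp.2.choose⁆ else 1
  apply Set.Finite.subset (Set.finite_range h)
  rintro _ ⟨a, b, rfl⟩
  refine ⟨(f a, f b), ?_⟩
  have hp : (∃ a', f a' = f a) ∧ (∃ b', f b' = f b) := ⟨⟨a, rfl⟩, ⟨b, rfl⟩⟩
  show (if hp : (∃ a', f a' = f a) ∧ (∃ b', f b' = f b) then ⁅hp.1.choose, hp.2.choose⁆ else 1)
    = ⁅a, b⁆
  rw [dif_pos hp]
  apply (commutatorElement_eq_of_central _ _).symm
  · apply hker
    rw [MonoidHom.mem_ker, map_mul, map_inv, hp.1.choose_spec, inv_mul_cancel]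
  · apply hker
    rw [MonoidHom.mem_ker, map_mul, map_inv, hp.2.choose_spec, inv_mul_cancel]

/-- The commutator subgroup of a central extension of a finite group is finite (Schur). -/
theorem finite_commutator_of_central [Finite Q] (f : E →* Q)
    (hker : f.ker ≤ Subgroup.center E) : Finite ↥(commutator E) := by
  haveI := finite_commutatorSet_of_central f hker
  infer_instance

/-- The commutator subgroup of a central extension of a perfect group is perfect. -/
theorem isPerfect_commutator_of_central [Group.IsPerfect Q] (f : E →* Q)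
    (hf : Function.Surjective f) (hker : f.ker ≤ Subgroup.center E) :
    Group.IsPerfect ↥(commutator E) := by
  rw [Subgroup.isPerfect_iff]
  apply le_antisymm (Subgroup.commutator_le_left _ _)
  conv_lhs => rw [commutator_def]
  rw [Subgroup.commutator_le]
  intro a _ b _
  obtain ⟨a', ha', haa⟩ := exists_mem_commutator_map_eq f hf (f a)
  obtain ⟨b', hb', hbb⟩ := exists_mem_commutator_map_eq f hf (f b)
  have e : ⁅a, b⁆ = ⁅a', b'⁆ := by
    apply commutatorElement_eq_of_central
    · apply hker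
      rw [MonoidHom.mem_ker, map_mul, map_inv, haa, inv_mul_cancel]
    · apply hker
      rw [MonoidHom.mem_ker, map_mul, map_inv, hbb, inv_mul_cancel]
  rw [e]
  exact Subgroup.commutator_mem_commutator ha' hb'

theorem commutator_restrict_surjective [Group.IsPerfect Q] (f : E →* Q)
    (hf : Function.Surjective f) : Function.Surjective (f.comp (commutator E).subtype) := by
  intro q
  obtain ⟨a, ha, haq⟩ := exists_mem_commutator_map_eq f hf q
  exact ⟨⟨a, ha⟩, haq⟩

theorem commutator_restrict_ker_le_center (f : E →* Q) (hker : f.ker ≤ Subgroup.center E) :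
    (f.comp (commutator E).subtype).ker ≤ Subgroup.center ↥(commutator E) := by
  intro x hx
  have hx' : (x : E) ∈ f.ker := by
    rw [MonoidHom.mem_ker] at hx ⊢
    exact hx
  have hc := Subgroup.mem_center_iff.1 (hker hx')
  rw [Subgroup.mem_center_iff]
  intro g
  apply Subtype.ext
  exact hc g

/-- A stem extension of a perfect group is perfect. -/
theorem isPerfect_of_isStemExtension [Group.IsPerfect Q] (σ : E →* Q)
    (hσ : Cfsg.IsStemExtension σ) : Group.IsPerfect E := by
  obtain ⟨hsurj, _, hcomm⟩ := hσ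
  refine ⟨?_⟩
  rw [eq_top_iff]
  intro x _
  obtain ⟨a, ha, hax⟩ := exists_mem_commutator_map_eq σ hsurj (σ x)
  have h1 : a⁻¹ * x ∈ commutator E := by
    apply hcomm
    rw [MonoidHom.mem_ker, map_mul, map_inv, hax, inv_mul_cancel]
  have : x = a * (a⁻¹ * x) := by group
  rw [this]
  exact Subgroup.mul_mem _ ha h1

end perfect

section construction

variable {F : Type u} {Q : Type v} [Group F] [Group Q] (ρ : F →* Q)

/-- The subgroup `[F, R]` for `R = ker ρ`. -/
def uceK : Subgroup F := ⁅(⊤ : Subgroup F), ρ.ker⁆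

instance uceK_normal : (uceK ρ).Normal := by
  unfold uceK; infer_instance

theorem uceK_le_ker : uceK ρ ≤ ρ.ker := Subgroup.commutator_le_right _ _

/-- The induced map `F / [F, R] → Q`. -/
def uceMap : F ⧸ uceK ρ →* Q := QuotientGroup.lift (uceK ρ) ρ (uceK_le_ker ρ)

theorem uceMap_mk (x : F) : uceMap ρ (QuotientGroup.mk x) = ρ x := rfl

theorem uceMap_surjective (hρ : Function.Surjective ρ) : Function.Surjective (uceMap ρ) := by
  intro q
  obtain ⟨x, hx⟩ := hρ q
  exact ⟨QuotientGroup.mk x, hx⟩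

theorem uceMap_ker_le_center : (uceMap ρ).ker ≤ Subgroup.center (F ⧸ uceK ρ) := by
  intro x hx
  obtain ⟨r, rfl⟩ := QuotientGroup.mk_surjective x
  rw [MonoidHom.mem_ker, uceMap_mk] at hx
  rw [Subgroup.mem_center_iff]
  intro y
  obtain ⟨g, rfl⟩ := QuotientGroup.mk_surjective y
  rw [← QuotientGroup.mk_mul, ← QuotientGroup.mk_mul, QuotientGroup.eq]
  have h1 : ⁅g, r⁆ ∈ uceK ρ :=
    Subgroup.commutator_mem_commutator (Subgroup.mem_top g) (MonoidHom.mem_ker.2 hx)
  have h2 : (g * r)⁻¹ * (r * g) = (⁅g⁻¹, r⁻¹⁆)⁻¹ := by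
    rw [commutatorElement_def]; group
  rw [h2]
  apply Subgroup.inv_mem
  exact Subgroup.commutator_mem_commutator (Subgroup.mem_top _)
    (Subgroup.inv_mem _ (MonoidHom.mem_ker.2 hx))

/-- Lifting: a lift of `ρ` through a central extension `ξ` descends to `F / [F, R]`. -/
theorem uceLift {X : Type w} [Group X] (ξ : X →* Q) (hξ : ξ.ker ≤ Subgroup.center X) (φ : F →* X)
    (h : ξ.comp φ = ρ) : ∃ φ' : F ⧸ uceK ρ →* X, ξ.comp φ' = uceMap ρ := by
  have hK : uceK ρ ≤ φ.ker := by
    unfold uceK
    rw [Subgroup.commutator_le]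
    intro a _ r hr
    rw [MonoidHom.mem_ker, map_commutatorElement, commutatorElement_eq_one_iff_mul_comm]
    have hφr : φ r ∈ Subgroup.center X := by
      apply hξ
      rw [MonoidHom.mem_ker]
      have : ξ (φ r) = ρ r := by rw [← h]; rfl
      rw [this]; exact MonoidHom.mem_ker.1 hr
    exact Subgroup.mem_center_iff.1 hφr (φ a)
  refine ⟨QuotientGroup.lift (uceK ρ) φ hK, ?_⟩
  apply QuotientGroup.monoidHom_ext
  ext x
  show ξ (φ x) = ρ x
  rw [← h]; rfl

end construction

end Cfsg.Agent.Lib.Helper66
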