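import Mathlib
import Cfsg.Prelude.Def_KGroupFacts
import Cfsg.Agent.Lib.Helper66.UCE

set_option autoImplicit false

namespace Cfsg.Agent.Lib.Helper66

open scoped commutatorElement

universe u v w

/-- splitting lemma: module form -/
theorem exists_compl_of_linearMap {V W : Type*} [AddCommGroup V] [AddCommGroup W]
    [Module.Finite ℤ W] [Module.IsTorsionFree ℤ W]
    (φ : V →ₗ[ℤ] W) (N : Submodule ℤ V) :
    ∃ S : Submodule ℤ V, S ≤ N ∧ S ⊓ LinearMap.ker φ = ⊥ ∧ N ≤ S ⊔ (N ⊓ LinearMap.ker φ) := by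
  let L : Submodule ℤ W := N.map φ
  let f : N →ₗ[ℤ] L := (φ.domRestrict N).codRestrict L (fun x => ⟨x, x.2, rfl⟩)
  have hf : Function.Surjective f := by
    rintro ⟨_, x, hx, rfl⟩
    exact ⟨⟨x, hx⟩, rfl⟩
  obtain ⟨h, hh⟩ := Module.projective_lifting_property f LinearMap.id hf
  refine ⟨LinearMap.range (N.subtype ∘ₗ h), ?_, ?_, ?_⟩
  · rintro _ ⟨y, rfl⟩
    exact (h y).2
  · rw [eq_bot_iff]
    rintro _ ⟨⟨y, rfl⟩, hy⟩
    have h1 : φ ((h y : N) : V) = 0 := hy
    have h2 : f (h y) = y := congrArg (fun g : L →ₗ[ℤ] L => g y) hh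
    have h3 : ((f (h y) : L) : W) = φ ((h y : N) : V) := rfl
    have h4 : (y : W) = 0 := by rw [← h2, h3, h1]
    have h5 : y = 0 := Subtype.ext h4
    rw [h5]; simp
  · intro x hx
    let y : L := f ⟨x, hx⟩
    have h2 : f (h y) = y := congrArg (fun g : L →ₗ[ℤ] L => g y) hh
    have hx' : x = ((h y : N) : V) + (x - ((h y : N) : V)) := by abel
    rw [hx']
    apply Submodule.add_mem_sup
    · exact ⟨y, rfl⟩
    · refine ⟨N.sub_mem hx (h y).2, ?_⟩
      show φ (x - ((h y : N) : V)) = 0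
      rw [map_sub]
      have h3 : ((f (h y) : L) : W) = φ ((h y : N) : V) := rfl
      have h4 : ((y : L) : W) = φ x := rfl
      rw [← h3, h2, h4, sub_self]

/-- splitting lemma: multiplicative form, stated elementwise -/
theorem exists_compl_of_hom {A : Type*} [CommGroup A] {W : Type*} [AddCommGroup W]
    [Module.Finite ℤ W] [Module.IsTorsionFree ℤ W] (φ : Additive A →+ W) (N : Subgroup A) :
    ∃ S : Subgroup A, S ≤ N ∧ (∀ x ∈ S, φ (Additive.ofMul x) = 0 → x = 1) ∧
      ∀ x ∈ N, ∃ s ∈ S, ∃ m ∈ N, φ (Additive.ofMul m) = 0 ∧ x = s * m := by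
  obtain ⟨S, hSN, hS0, hNS⟩ := exists_compl_of_linearMap φ.toIntLinearMap
    (AddSubgroup.toIntSubmodule (Subgroup.toAddSubgroup N))
  refine ⟨Subgroup.toAddSubgroup.symm (AddSubgroup.toIntSubmodule.symm S), ?_, ?_, ?_⟩
  · intro x hx
    exact hSN hx
  · intro x hx hφ
    have : Additive.ofMul x ∈ S ⊓ LinearMap.ker φ.toIntLinearMap := ⟨hx, hφ⟩
    rw [hS0] at this
    exact this
  · intro x hx
    have hx' : Additive.ofMul x ∈ AddSubgroup.toIntSubmodule (Subgroup.toAddSubgroup N) := hx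
    obtain ⟨s, hs, m, hm, hsm⟩ := Submodule.mem_sup.1 (hNS hx')
    refine ⟨Additive.toMul s, hs, Additive.toMul m, hm.1, hm.2, ?_⟩
    have := congrArg Additive.toMul hsm
    exact this.symm

/-- a subgroup of the center is normal -/
theorem normal_of_le_center {G : Type*} [Group G] (S : Subgroup G) (h : S ≤ Subgroup.center G) :
    S.Normal := by
  refine ⟨fun n hn g => ?_⟩
  have := Subgroup.mem_center_iff.1 (h hn) g
  rw [this, mul_inv_cancel_right]
  exact hn

section hopf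

variable {α : Type u} {Q : Type v} [Group Q] (ρ : FreeGroup α →* Q)

/-- The Hopf-formula group `(F' ∩ R) / [F, R]`, as a subgroup of `F / [F, R]`. -/
def hopfM : Subgroup (FreeGroup α ⧸ uceK ρ) :=
  commutator (FreeGroup α ⧸ uceK ρ) ⊓ (uceMap ρ).ker

theorem hopfM_le_ker : hopfM ρ ≤ (uceMap ρ).ker := inf_le_right

theorem hopfM_le_commutator : hopfM ρ ≤ commutator (FreeGroup α ⧸ uceK ρ) := inf_le_left

theorem hopfM_le_center : hopfM ρ ≤ Subgroup.center (FreeGroup α ⧸ uceK ρ) :=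
  (hopfM_le_ker ρ).trans (uceMap_ker_le_center ρ)

theorem uceK_le_commutator : uceK ρ ≤ commutator (FreeGroup α) := by
  unfold uceK
  rw [commutator_def]
  exact Subgroup.commutator_mono le_rfl le_top

/-- The map `F / [F, R] → F / F'`. -/
def hopfAb : (FreeGroup α ⧸ uceK ρ) →* Abelianization (FreeGroup α) :=
  QuotientGroup.lift (uceK ρ) Abelianization.of (by
    rw [Abelianization.ker_of]; exact uceK_le_commutator ρ)

theorem hopfAb_mk (x : FreeGroup α) : hopfAb ρ (QuotientGroup.mk x) = Abelianization.of x := rfl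

theorem hopfAb_ker : (hopfAb ρ).ker = commutator (FreeGroup α ⧸ uceK ρ) := by
  apply le_antisymm
  · intro x hx
    obtain ⟨f, rfl⟩ := QuotientGroup.mk_surjective x
    rw [MonoidHom.mem_ker, hopfAb_mk] at hx
    have hf : f ∈ commutator (FreeGroup α) := by
      rw [← Abelianization.ker_of]; exact hx
    have : (QuotientGroup.mk' (uceK ρ)) f ∈ (commutator (FreeGroup α)).map
        (QuotientGroup.mk' (uceK ρ)) := ⟨f, hf, rfl⟩
    rw [commutator_def, Subgroup.map_commutator] at this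
    exact Subgroup.commutator_mono le_top le_top this
  · exact Abelianization.commutator_subset_ker _

/-- **Lifting through central extensions** and the image of the Hopf group. -/
theorem exists_lift_central (hρ : Function.Surjective ρ) {P : Type w} [Group P] (ξ : P →* Q)
    (hξ : Function.Surjective ξ) (hξc : ξ.ker ≤ Subgroup.center P) :
    ∃ β : (FreeGroup α ⧸ uceK ρ) →* P, ξ.comp β = uceMap ρ ∧
      (hopfM ρ).map β = commutator P ⊓ ξ.ker := by
  let φ : FreeGroup α →* P := FreeGroup.lift (fun a => Function.surjInv hξ (ρ (FreeGroup.of a)))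
  have hφ : ξ.comp φ = ρ := by
    ext a
    simp [φ, Function.surjInv_eq hξ]
  obtain ⟨β, hβ⟩ := uceLift ρ ξ hξc φ hφ
  have hβ' : ∀ e, ξ (β e) = uceMap ρ e := fun e =>
    congrArg (fun f : (FreeGroup α ⧸ uceK ρ) →* Q => f e) hβ
  refine ⟨β, hβ, ?_⟩
  -- commutator P is in the image of commutator E
  have hcomm : commutator P ≤ (commutator (FreeGroup α ⧸ uceK ρ)).map β := by
    rw [commutator_def, Subgroup.commutator_le]
    intro a _ b _
    obtain ⟨ea, hea⟩ := uceMap_surjective ρ hρ (ξ a)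
    obtain ⟨eb, heb⟩ := uceMap_surjective ρ hρ (ξ b)
    have e1 : ⁅β ea, β eb⁆ = ⁅a, b⁆ := by
      apply commutatorElement_eq_of_central
      · apply hξc
        rw [MonoidHom.mem_ker, map_mul, map_inv, hβ', hea, inv_mul_cancel]
      · apply hξc
        rw [MonoidHom.mem_ker, map_mul, map_inv, hβ', heb, inv_mul_cancel]
    rw [← e1, ← map_commutatorElement]
    exact ⟨⁅ea, eb⁆, Subgroup.commutator_mem_commutator (Subgroup.mem_top _) (Subgroup.mem_top _),
      rfl⟩
  apply le_antisymm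
  · rintro _ ⟨x, hx, rfl⟩
    refine ⟨?_, ?_⟩
    · have : β x ∈ (commutator (FreeGroup α ⧸ uceK ρ)).map β := ⟨x, hopfM_le_commutator ρ hx, rfl⟩
      rw [commutator_def, Subgroup.map_commutator] at this
      exact Subgroup.commutator_mono le_top le_top this
    · show β x ∈ ξ.ker
      rw [MonoidHom.mem_ker, hβ']
      exact MonoidHom.mem_ker.1 (hopfM_le_ker ρ hx)
  · rintro k ⟨hk1, hk2⟩
    obtain ⟨e, he, rfl⟩ := hcomm hk1
    refine ⟨e, ⟨he, ?_⟩, rfl⟩
    show e ∈ (uceMap ρ).ker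
    rw [MonoidHom.mem_ker, ← hβ']
    exact MonoidHom.mem_ker.1 hk2

/-- the identity, from the additive abelianization of the free group to the free abelian group -/
noncomputable def toFAG (α : Type u) : Additive (Abelianization (FreeGroup α)) ≃+ FreeAbelianGroup α :=
  AddEquiv.refl _

open scoped IsMulCommutative in
/-- complement of the Hopf group inside a subgroup `N` of the kernel -/
theorem exists_hopf_complement [Finite α] (N : Subgroup (FreeGroup α ⧸ uceK ρ))
    (hN : N ≤ (uceMap ρ).ker) :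
    ∃ S : Subgroup (FreeGroup α ⧸ uceK ρ), S ≤ N ∧ S ⊓ hopfM ρ = ⊥ ∧
      ∀ x ∈ N, ∃ s ∈ S, ∃ m ∈ N ⊓ hopfM ρ, x = s * m := by
  let φ0 : ↥(Subgroup.center (FreeGroup α ⧸ uceK ρ)) →* Abelianization (FreeGroup α) :=
    (hopfAb ρ).comp (Subgroup.center (FreeGroup α ⧸ uceK ρ)).subtype
  let φ : Additive ↥(Subgroup.center (FreeGroup α ⧸ uceK ρ)) →+ (α →₀ ℤ) :=
    ((toFAG α).trans (FreeAbelianGroup.equivFinsupp α)).toAddMonoidHom.comp
      (MonoidHom.toAdditive φ0)
  have hφ : ∀ z : ↥(Subgroup.center (FreeGroup α ⧸ uceK ρ)),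
      φ (Additive.ofMul z) = 0 ↔ (z : FreeGroup α ⧸ uceK ρ) ∈ commutator (FreeGroup α ⧸ uceK ρ) := by
    intro z
    rw [← hopfAb_ker]
    show ((toFAG α).trans (FreeAbelianGroup.equivFinsupp α)) (Additive.ofMul (hopfAb ρ z)) = 0 ↔ _
    rw [AddEquiv.map_eq_zero_iff, MonoidHom.mem_ker]
    rfl
  obtain ⟨S', hS'N, hS'0, hS'N2⟩ := exists_compl_of_hom
    (A := ↥(Subgroup.center (FreeGroup α ⧸ uceK ρ))) φ
    (N.subgroupOf (Subgroup.center (FreeGroup α ⧸ uceK ρ)))
  refine ⟨S'.map (Subgroup.center (FreeGroup α ⧸ uceK ρ)).subtype, ?_, ?_, ?_⟩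
  · rintro _ ⟨s, hs, rfl⟩
    exact hS'N hs
  · rw [eq_bot_iff]
    rintro _ ⟨⟨s, hs, rfl⟩, hm⟩
    have h1 : φ (Additive.ofMul s) = 0 := (hφ s).2 (hopfM_le_commutator ρ hm)
    have h2 := hS'0 s hs h1
    rw [h2]
    exact Subgroup.one_mem _
  · intro x hx
    have hxZ : x ∈ Subgroup.center (FreeGroup α ⧸ uceK ρ) := uceMap_ker_le_center ρ (hN hx)
    obtain ⟨s, hs, m, hm, hm0, hxsm⟩ := hS'N2 ⟨x, hxZ⟩ hx
    refine ⟨s, ⟨s, hs, rfl⟩, m, ⟨hm, (hφ m).1 hm0, hN hm⟩, ?_⟩
    exact congrArg Subtype.val hxsm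

/-- The quotient of `F / [F, R]` by a complement `S` of the Hopf group in the kernel is a finite
stem extension of `Q` with kernel isomorphic to the Hopf group. -/
theorem cover_of_complement [Finite Q] (hρ : Function.Surjective ρ)
    (S : Subgroup (FreeGroup α ⧸ uceK ρ)) [S.Normal] (hS : S ≤ (uceMap ρ).ker)
    (hSM : S ⊓ hopfM ρ = ⊥)
    (hA : ∀ x ∈ (uceMap ρ).ker, ∃ s ∈ S, ∃ m ∈ hopfM ρ, x = s * m) :
    Cfsg.IsStemExtension (QuotientGroup.lift S (uceMap ρ) hS) ∧
      Nonempty ((QuotientGroup.lift S (uceMap ρ) hS).ker ≃* hopfM ρ) ∧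
      Finite ((FreeGroup α ⧸ uceK ρ) ⧸ S) := by
  have hker : ∀ e : FreeGroup α ⧸ uceK ρ,
      (QuotientGroup.mk e : (FreeGroup α ⧸ uceK ρ) ⧸ S) ∈ (QuotientGroup.lift S (uceMap ρ) hS).ker ↔
        e ∈ (uceMap ρ).ker := by
    intro e
    rw [MonoidHom.mem_ker, MonoidHom.mem_ker]
    rfl
  -- every kernel element is the class of an element of the Hopf group
  have hrep : ∀ x ∈ (QuotientGroup.lift S (uceMap ρ) hS).ker, ∃ m ∈ hopfM ρ,
      x = (QuotientGroup.mk m : (FreeGroup α ⧸ uceK ρ) ⧸ S) := by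
    intro x hx
    obtain ⟨e, rfl⟩ := QuotientGroup.mk_surjective x
    obtain ⟨s, hs, m, hm, rfl⟩ := hA e ((hker e).1 hx)
    refine ⟨m, hm, ?_⟩
    rw [QuotientGroup.mk_mul, (QuotientGroup.eq_one_iff s).2 hs, one_mul]
  have hstem : Cfsg.IsStemExtension (QuotientGroup.lift S (uceMap ρ) hS) := by
    refine ⟨?_, ?_, ?_⟩
    · intro q
      obtain ⟨e, he⟩ := uceMap_surjective ρ hρ q
      exact ⟨QuotientGroup.mk e, he⟩
    · intro x hx
      obtain ⟨m, hm, rfl⟩ := hrep x hx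
      have hc := Subgroup.mem_center_iff.1 (hopfM_le_center ρ hm)
      rw [Subgroup.mem_center_iff]
      intro y
      obtain ⟨g, rfl⟩ := QuotientGroup.mk_surjective y
      rw [← QuotientGroup.mk_mul, ← QuotientGroup.mk_mul, hc g]
    · intro x hx
      obtain ⟨m, hm, rfl⟩ := hrep x hx
      have : (QuotientGroup.mk' S) m ∈ (commutator (FreeGroup α ⧸ uceK ρ)).map (QuotientGroup.mk' S) :=
        ⟨m, hopfM_le_commutator ρ hm, rfl⟩
      rw [commutator_def, Subgroup.map_commutator] at this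
      exact Subgroup.commutator_mono le_top le_top this
  -- the isomorphism of the kernel with the Hopf group
  let θ : ↥(hopfM ρ) →* ↥(QuotientGroup.lift S (uceMap ρ) hS).ker :=
    { toFun := fun m => ⟨QuotientGroup.mk (m : FreeGroup α ⧸ uceK ρ),
        (hker _).2 (hopfM_le_ker ρ m.2)⟩
      map_one' := rfl
      map_mul' := fun a b => rfl }
  have hθinj : Function.Injective θ := by
    rw [injective_iff_map_eq_one]
    intro m hm
    have h1 : (QuotientGroup.mk (m : FreeGroup α ⧸ uceK ρ) : (FreeGroup α ⧸ uceK ρ) ⧸ S) = 1 :=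
      congrArg Subtype.val hm
    have h2 : (m : FreeGroup α ⧸ uceK ρ) ∈ S := (QuotientGroup.eq_one_iff _).1 h1
    have h3 : (m : FreeGroup α ⧸ uceK ρ) ∈ S ⊓ hopfM ρ := ⟨h2, m.2⟩
    rw [hSM, Subgroup.mem_bot] at h3
    exact Subtype.ext h3
  have hθsurj : Function.Surjective θ := by
    rintro ⟨x, hx⟩
    obtain ⟨m, hm, rfl⟩ := hrep x hx
    exact ⟨⟨m, hm⟩, rfl⟩
  have hMfin : Finite ↥(hopfM ρ) := by
    haveI := finite_commutator_of_central (uceMap ρ) (uceMap_ker_le_center ρ)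
    exact Finite.of_injective (Subgroup.inclusion (hopfM_le_commutator ρ))
      (Subgroup.inclusion_injective _)
  refine ⟨hstem, ⟨(MulEquiv.ofBijective θ ⟨hθinj, hθsurj⟩).symm⟩, ?_⟩
  haveI : Finite ↥(QuotientGroup.lift S (uceMap ρ) hS).ker := Finite.of_surjective θ hθsurj
  haveI : Fintype ↥(QuotientGroup.lift S (uceMap ρ) hS).ker := Fintype.ofFinite _
  haveI : Fintype Q := Fintype.ofFinite _
  exact (Group.fintypeOfKerOfCodom (QuotientGroup.lift S (uceMap ρ) hS)).finite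

end hopf

section char

variable {α : Type u} {Q : Type u} [Group Q] [Finite Q] [Finite α] (ρ : FreeGroup α →* Q)

/-- existence of a Schur cover attached to a free presentation -/
theorem exists_cover (hρ : Function.Surjective ρ) :
    ∃ (Γ : Type u) (_ : Group Γ) (_ : Finite Γ) (σ : Γ →* Q),
      Cfsg.IsStemExtension σ ∧ Nonempty (σ.ker ≃* hopfM ρ) := by
  obtain ⟨S, hSN, hSM, hS2⟩ := exists_hopf_complement ρ (uceMap ρ).ker le_rfl
  haveI : S.Normal := normal_of_le_center S (hSN.trans (uceMap_ker_le_center ρ))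
  obtain ⟨h1, h2, h3⟩ := cover_of_complement ρ hρ S hSN hSM (fun x hx => by
    obtain ⟨s, hs, m, hm, hxsm⟩ := hS2 x hx
    exact ⟨s, hs, m, hm.2, hxsm⟩)
  exact ⟨(FreeGroup α ⧸ uceK ρ) ⧸ S, inferInstance, h3, _, h1, h2⟩

omit [Finite Q] [Finite α] in
/-- the Hopf group maps onto `P' ∩ ker ξ` for every central extension `ξ : P → Q` -/
theorem hopfM_surj_of_central (hρ : Function.Surjective ρ) {P : Type w} [Group P] (ξ : P →* Q)
    (hξ : Function.Surjective ξ) (hξc : ξ.ker ≤ Subgroup.center P) :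
    ∃ π : ↥(hopfM ρ) →* P, π.range = commutator P ⊓ ξ.ker := by
  obtain ⟨β, _, hβ2⟩ := exists_lift_central ρ hρ ξ hξ hξc
  refine ⟨β.comp (hopfM ρ).subtype, ?_⟩
  rw [← hβ2, MonoidHom.range_comp, Subgroup.range_subtype]

omit [Finite Q] [Finite α] in
/-- the Hopf group maps onto the kernel of every stem extension -/
theorem hopfM_surj_ker_of_stem (hρ : Function.Surjective ρ) {Δ : Type w} [Group Δ] (τ : Δ →* Q)
    (hτ : Cfsg.IsStemExtension τ) : ∃ π : ↥(hopfM ρ) →* ↥τ.ker, Function.Surjective π := by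
  obtain ⟨π, hπ⟩ := hopfM_surj_of_central ρ hρ τ hτ.1 hτ.2.1
  have hπ' : π.range = τ.ker := by rw [hπ]; exact inf_eq_right.2 hτ.2.2
  refine ⟨π.codRestrict τ.ker (fun x => by rw [← hπ']; exact ⟨x, rfl⟩), ?_⟩
  rintro ⟨k, hk⟩
  rw [← hπ'] at hk
  obtain ⟨x, rfl⟩ := hk
  exact ⟨x, rfl⟩

omit [Finite α] in
theorem finite_hopfM : Finite ↥(hopfM ρ) := by
  haveI := finite_commutator_of_central (uceMap ρ) (uceMap_ker_le_center ρ)
  exact Finite.of_injective (Subgroup.inclusion (hopfM_le_commutator ρ))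
    (Subgroup.inclusion_injective _)

/-- **Hopf formula**, in the language of `HasSchurMultiplier`. -/
theorem hasSchurMultiplier_iff (hρ : Function.Surjective ρ) (A : Type v) [CommGroup A] :
    Cfsg.HasSchurMultiplier Q A ↔ Nonempty (A ≃* ↥(hopfM ρ)) := by
  constructor
  · rintro ⟨⟨Γ, _, _, σ, hσ, ⟨eA⟩⟩, h2⟩
    obtain ⟨p1, hp1⟩ := hopfM_surj_ker_of_stem ρ hρ σ hσ
    obtain ⟨Γ', _, _, σ', hσ', ⟨eM⟩⟩ := exists_cover ρ hρ
    obtain ⟨p2, hp2⟩ := h2 Γ' σ' hσ'
    haveI := finite_hopfM ρ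
    haveI : Finite A := Finite.of_surjective (eA.toMonoidHom.comp p1) (eA.surjective.comp hp1)
    have hcard : Nat.card A ≤ Nat.card ↥(hopfM ρ) :=
      Nat.card_le_card_of_surjective _ (eA.surjective.comp hp1)
    have hsurj : Function.Surjective (eM.toMonoidHom.comp p2) := eM.surjective.comp hp2
    have hbij := hsurj.bijective_of_nat_card_le hcard
    exact ⟨MulEquiv.ofBijective (eM.toMonoidHom.comp p2) hbij⟩
  · rintro ⟨e⟩
    refine ⟨?_, ?_⟩
    · obtain ⟨Γ', _, _, σ', hσ', ⟨eM⟩⟩ := exists_cover ρ hρ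
      exact ⟨Γ', inferInstance, inferInstance, σ', hσ', ⟨eM.trans e.symm⟩⟩
    · intro Γ _ _ σ hσ
      obtain ⟨p1, hp1⟩ := hopfM_surj_ker_of_stem ρ hρ σ hσ
      exact ⟨p1.comp e.toMonoidHom, hp1.comp e.surjective⟩

end char

section applications

variable {Q : Type u} [Group Q]

/-- the standard presentation -/
def stdPres (Q : Type u) [Group Q] : FreeGroup Q →* Q := FreeGroup.lift id

theorem stdPres_surjective : Function.Surjective (stdPres Q) :=
  fun q => ⟨FreeGroup.of q, by simp [stdPres]⟩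

/-- If `A` is the Schur multiplier of `Q`, then `A` maps onto `P' ∩ ker ξ` for every central
extension `ξ : P → Q` (in any universe). -/
theorem exists_hom_range_eq_of_hasSchurMultiplier {A : Type v} [CommGroup A]
    (hA : Cfsg.HasSchurMultiplier Q A) {P : Type w} [Group P] (ξ : P →* Q)
    (hξ : Function.Surjective ξ) (hξc : ξ.ker ≤ Subgroup.center P) :
    ∃ π : A →* P, π.range = commutator P ⊓ ξ.ker := by
  haveI : Finite Q := by
    obtain ⟨⟨Γ, _, _, σ, hσ, _⟩, _⟩ := hA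
    exact Finite.of_surjective σ hσ.1
  obtain ⟨e⟩ := (hasSchurMultiplier_iff (stdPres Q) stdPres_surjective A).1 hA
  obtain ⟨π, hπ⟩ := hopfM_surj_of_central (stdPres Q) stdPres_surjective ξ hξ hξc
  refine ⟨π.comp e.toMonoidHom, ?_⟩
  rw [← hπ, MonoidHom.range_comp, MonoidHom.range_eq_top.2 e.surjective, ← MonoidHom.range_eq_map]

/-- Trivial multiplier: every central extension meets its commutator subgroup trivially. -/
theorem commutator_inf_ker_eq_bot_of_trivial_multiplier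
    (hA : Cfsg.HasCyclicSchurMultiplier Q 1) {P : Type w} [Group P] (ξ : P →* Q)
    (hξ : Function.Surjective ξ) (hξc : ξ.ker ≤ Subgroup.center P) :
    commutator P ⊓ ξ.ker = ⊥ := by
  obtain ⟨π, hπ⟩ := exists_hom_range_eq_of_hasSchurMultiplier hA ξ hξ hξc
  rw [← hπ, eq_bot_iff]
  rintro _ ⟨a, rfl⟩
  have : a = 1 := Subsingleton.elim _ _
  rw [this, map_one]
  exact Subgroup.one_mem _

end applications

end Cfsg.Agent.Lib.Helper66
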