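import Mathlib
import Cfsg.Agent.Lib.Helper30.BSW.CharDefs

/-!
# S3282 module [L3]: `latI_num` (numerical output in shape I of the Brauer-Suzuki-Wall lattice)
-/

set_option autoImplicit false
set_option linter.unusedSectionVars false

namespace Cfsg.Agent.Lib.Helper66.BSW

open Cfsg.Agent.Lib.Helper30.BSW

/-- The purely arithmetic core of `latI_num`. -/
theorem num_core (δ e₂ e₃ x y₂ y₃ t k N : ℤ) (hδ : δ = 1 ∨ δ = -1) (he₂ : e₂ = 1 ∨ e₂ = -1)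
    (he₃ : e₃ = 1 ∨ e₃ = -1) (hx : 0 < x) (hy₂ : 0 < y₂) (hy₃ : 0 < y₃) (ht : 0 < t)
    (hk : 4 ≤ k)
    (hΘ : 1 + δ * x - δ * t = 0)
    (hν : 1 + δ * x + e₂ * y₂ + e₃ * y₃ = 0)
    (hB1 : (N : ℚ) * (1 + (δ : ℚ) / x - δ * 4 / t) = 4 * (k : ℚ) ^ 3)
    (hB2 : (N : ℚ) * (1 + (δ : ℚ) / x + (e₂ : ℚ) / y₂ + (e₃ : ℚ) / y₃) = 4 * (k : ℚ) ^ 3)
    (hcX : k ∣ x + δ * (k - 1)) (hcY₂ : k ∣ y₂ + e₂) (hN : 2 * k ∣ N) (hNpos : 0 < N) :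
    e₂ = -δ ∧ e₃ = -δ ∧ x = 2 * k + δ ∧ t = 2 * k + 2 * δ ∧ y₂ = k + δ ∧ y₃ = k + δ ∧
      N = 2 * k * (2 * k + δ) * (k + δ) := by
  have hδ2 : δ * δ = 1 := by rcases hδ with h | h <;> subst h <;> norm_num
  have he₂2 : e₂ * e₂ = 1 := by rcases he₂ with h | h <;> subst h <;> norm_num
  have he₃2 : e₃ * e₃ = 1 := by rcases he₃ with h | h <;> subst h <;> norm_num
  have htx : t = x + δ := by linear_combination (-δ) * hΘ + (x - t) * hδ2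
  -- integer forms of hB1, hB2
  have hxq : (x : ℚ) ≠ 0 := by exact_mod_cast hx.ne'
  have htq : (t : ℚ) ≠ 0 := by exact_mod_cast ht.ne'
  have hy₂q : (y₂ : ℚ) ≠ 0 := by exact_mod_cast hy₂.ne'
  have hy₃q : (y₃ : ℚ) ≠ 0 := by exact_mod_cast hy₃.ne'
  have hNq : (N : ℚ) ≠ 0 := by exact_mod_cast hNpos.ne'
  have hB1' : N * (x * t + δ * t - 4 * δ * x) = 4 * k ^ 3 * (x * t) := by
    have : ((N * (x * t + δ * t - 4 * δ * x) : ℤ) : ℚ) = ((4 * k ^ 3 * (x * t) : ℤ) : ℚ) := by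
      push_cast
      rw [← hB1]
      field_simp
    exact_mod_cast this
  have hB12 : -(4 * δ) * (y₂ * y₃) = t * (e₂ * y₃ + e₃ * y₂) := by
    have h : (1 + (δ : ℚ) / x - δ * 4 / t) = (1 + (δ : ℚ) / x + (e₂ : ℚ) / y₂ + (e₃ : ℚ) / y₃) :=
      mul_left_cancel₀ hNq (hB1.trans hB2.symm)
    have : ((-(4 * δ) * (y₂ * y₃) : ℤ) : ℚ) = ((t * (e₂ * y₃ + e₃ * y₂) : ℤ) : ℚ) := by
      push_cast
      have h' : -((δ : ℚ) * 4 / t) = (e₂ : ℚ) / y₂ + (e₃ : ℚ) / y₃ := by linarith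
      field_simp at h'
      linarith
    exact_mod_cast this
  -- a := e₂ * y₂, b := e₃ * y₃
  have hab : e₂ * y₂ + e₃ * y₃ = -(δ * t) := by linear_combination hν - hΘ
  have h4ab : 4 * ((e₂ * y₂) * (e₃ * y₃)) = (e₂ * y₂ + e₃ * y₃) ^ 2 := by
    -- multiply hB12 by e₂ * e₃ * δ
    have h1 : -(4 * δ) * ((e₂ * y₂) * (e₃ * y₃)) = t * (e₂ * y₂ + e₃ * y₃) := by
      linear_combination (e₂ * e₃) * hB12 + (t * e₃ * y₃) * he₂2 + (t * e₂ * y₂) * he₃2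
    rw [hab] at h1 ⊢
    linear_combination (-δ) * h1 - (4 * (e₂ * y₂ * (e₃ * y₃))) * hδ2
  have haeqb : e₂ * y₂ = e₃ * y₃ := by
    have : (e₂ * y₂ - e₃ * y₃) ^ 2 = 0 := by linear_combination -h4ab
    have := pow_eq_zero_iff (two_ne_zero) |>.1 this
    linarith
  have h2a : 2 * (e₂ * y₂) = -(δ * t) := by linear_combination hab + haeqb
  -- the main equation
  have hmain : N * (x - δ) ^ 2 = 4 * k ^ 3 * (x * (x + δ)) := by
    rw [htx] at hB1'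
    linear_combination hB1'
  -- congruences
  have hk0 : k ≠ 0 := by omega
  obtain ⟨u, hu⟩ : k ∣ x - δ := by
    have : x - δ = (x + δ * (k - 1)) - k * δ := by ring
    rw [this]
    exact dvd_sub hcX (dvd_mul_right k δ)
  obtain ⟨w, hw⟩ : k ∣ e₂ * y₂ + 1 := by
    have : e₂ * y₂ + 1 = e₂ * (y₂ + e₂) + (1 - e₂ * e₂) := by ring
    rw [this, he₂2, sub_self, add_zero]
    exact dvd_mul_of_dvd_right hcY₂ e₂
  -- x - δ = 2 * k * s with s = -δ * w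
  have hxs : x - δ = 2 * k * (-δ * w) := by
    have h3 : 2 * (e₂ * y₂ + 1) = -δ * (x - δ) := by
      rw [htx] at h2a
      linear_combination h2a - 2 * hδ2
    rw [hw] at h3
    linear_combination δ * h3 - (x - δ) * hδ2
  set s : ℤ := -δ * w with hs
  obtain ⟨n, hn⟩ := hN
  have hns : n * s ^ 2 = (δ + 2 * k * s) * (δ + k * s) := by
    have hxe : x = δ + 2 * k * s := by linarith
    have h5 : (4 * k ^ 2) * (2 * k * (n * s ^ 2)) =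
        (4 * k ^ 2) * (2 * k * ((δ + 2 * k * s) * (δ + k * s))) := by
      rw [hn, hxs] at hmain
      rw [hxe] at hmain
      linear_combination hmain
    have h4k : (4 * k ^ 2) ≠ 0 := by positivity
    have h2k : (2 * k) ≠ 0 := by omega
    exact mul_left_cancel₀ h2k (mul_left_cancel₀ h4k h5)
  have hsunit : IsUnit s := by
    have hc1 : IsCoprime s (δ + 2 * k * s) := ⟨-(2 * k * δ), δ, by linear_combination hδ2⟩
    have hc2 : IsCoprime s (δ + k * s) := ⟨-(k * δ), δ, by linear_combination hδ2⟩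
    have hc : IsCoprime s ((δ + 2 * k * s) * (δ + k * s)) := hc1.mul_right hc2
    have hdvd : s ∣ (δ + 2 * k * s) * (δ + k * s) := ⟨n * s, by rw [← hns]; ring⟩
    exact hc.isUnit_of_dvd' (dvd_refl s) hdvd
  have hs1 : s = 1 := by
    rcases Int.isUnit_iff.1 hsunit with h | h
    · exact h
    · exfalso
      have hxe : x = δ + 2 * k * s := by linarith
      rw [h] at hxe
      rcases hδ with hd | hd <;> subst hd <;> omega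
  have hxe : x = 2 * k + δ := by
    have : x = δ + 2 * k * s := by linarith
    rw [this, hs1]; ring
  have hte : t = 2 * k + 2 * δ := by rw [htx, hxe]; ring
  have hae : e₂ * y₂ = -δ * (k + δ) := by
    have : 2 * (e₂ * y₂) = 2 * (-δ * (k + δ)) := by
      rw [h2a, hte]; ring
    linarith
  have hkδ : 0 < k + δ := by rcases hδ with hd | hd <;> subst hd <;> omega
  have key : ∀ e y : ℤ, (e = 1 ∨ e = -1) → 0 < y → e * y = -δ * (k + δ) → e = -δ ∧ y = k + δ := by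
    intro e y he hy hey
    rcases he with h | h <;> rcases hδ with hd | hd <;> subst h <;> subst hd <;>
      constructor <;> omega
  obtain ⟨h21, h22⟩ := key e₂ y₂ he₂ hy₂ hae
  obtain ⟨h31, h32⟩ := key e₃ y₃ he₃ hy₃ (haeqb ▸ hae)
  refine ⟨h21, h31, hxe, hte, h22, h32, ?_⟩
  rw [hn]
  have : n = (2 * k + δ) * (k + δ) := by
    have := hns
    rw [hs1] at this
    linear_combination this
  rw [this]; ring

section Main

variable {I Ψ : Type*} [Fintype I] [Fintype Ψ] [DecidableEq I] [DecidableEq Ψ] {i₀ : I}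
  {deg : I → ℤ} {o : Ψ} {ι : Ψ → Ψ} {ν : Ψ} {g : Ψ → I → ℤ}

theorem sum_mul_ev (F : I → ℤ) (a : I) : ∑ i, F i * ev a i = F a := by
  simp [ev]

theorem sum_mul_ev_rat (F : I → ℚ) (a : I) : ∑ i, F i * ((ev a i : ℤ) : ℚ) = F a := by
  simp [ev]

theorem ev_self (a : I) : ev a a = 1 := by simp [ev]

theorem ev_ne {a i : I} (h : i ≠ a) : ev a i = 0 := by simp [ev, h]

theorem sum_ite_ne_mul (o : Ψ) (c : ℤ) (f : Ψ → ℤ) :
    ∑ ψ, (if ψ = o then 0 else c) * f ψ = c * (∑ ψ, f ψ) - c * f o := by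
  have : ∀ ψ, (if ψ = o then 0 else c) * f ψ = c * f ψ - (if ψ = o then c * f ψ else 0) := by
    intro ψ
    split_ifs <;> ring
  rw [Finset.sum_congr rfl (fun ψ _ => this ψ), Finset.sum_sub_distrib, ← Finset.mul_sum,
    Finset.sum_ite_eq' Finset.univ o, if_pos (Finset.mem_univ o)]

theorem sum_ite_eq_mul (o : Ψ) (c : ℤ) (f : Ψ → ℤ) :
    ∑ ψ, (if ψ = o then c else 0) * f ψ = c * f o := by
  have : ∀ ψ, (if ψ = o then c else 0) * f ψ = (if ψ = o then c * f ψ else 0) := by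
    intro ψ
    split_ifs <;> ring
  rw [Finset.sum_congr rfl (fun ψ _ => this ψ),
    Finset.sum_ite_eq' Finset.univ o, if_pos (Finset.mem_univ o)]

/-- the values `g ψ i₀`. -/
theorem g_at_i₀ (hL : LatHyp i₀ deg o ι ν g) (ψ : Ψ) : g ψ i₀ = if ψ = o then 0 else 1 := by
  split_ifs with h
  · subst h
    exact hL.g_o _
  · exact hL.g_i₀ ψ h

variable {δ : ℤ} {X : I} {Θ : Ψ → I} {e₂ e₃ : ℤ} {Y₂ Y₃ : I}

theorem g_at_X (hL : LatHyp i₀ deg o ι ν g) (h1 : LatI i₀ o ι ν g δ X Θ e₂ e₃ Y₂ Y₃) (ψ : Ψ) :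
    g ψ X = if ψ = o then 0 else δ := by
  split_ifs with h
  · subst h
    exact hL.g_o _
  · by_cases hν : ψ = ν
    · subst hν
      rw [h1.g_ν, ev_ne h1.X_ne, ev_self, ev_ne h1.Y₂_ne.2.symm, ev_ne h1.Y₃_ne.2.1.symm]
      ring
    · rw [h1.g_gen ψ h hν, ev_ne h1.X_ne, ev_self, ev_ne (h1.Θ_ne ψ h hν).2.1.symm]
      ring

theorem ι_ne_self (hL : LatHyp i₀ deg o ι ν g) {ψ : Ψ} (ho : ψ ≠ o) (hν : ψ ≠ ν) : ι ψ ≠ ψ := by
  intro h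
  rcases (hL.ι_fix ψ).1 h with h | h
  · exact ho h
  · exact hν h

theorem ι_o (hL : LatHyp i₀ deg o ι ν g) : ι o = o := (hL.ι_fix o).2 (Or.inl rfl)

theorem ι_ν (hL : LatHyp i₀ deg o ι ν g) : ι ν = ν := (hL.ι_fix ν).2 (Or.inr rfl)

theorem ι_ne_o (hL : LatHyp i₀ deg o ι ν g) {ψ : Ψ} (ho : ψ ≠ o) : ι ψ ≠ o := by
  intro h
  apply ho
  have := congrArg ι h
  rw [hL.ι_ι, ι_o hL] at this
  exact this

theorem ι_ne_ν (hL : LatHyp i₀ deg o ι ν g) {ψ : Ψ} (hν : ψ ≠ ν) : ι ψ ≠ ν := by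
  intro h
  apply hν
  have := congrArg ι h
  rw [hL.ι_ι, ι_ν hL] at this
  exact this

theorem g_at_Θ (hL : LatHyp i₀ deg o ι ν g) (h1 : LatI i₀ o ι ν g δ X Θ e₂ e₃ Y₂ Y₃)
    {ψ₀ : Ψ} (ho : ψ₀ ≠ o) (hν : ψ₀ ≠ ν) (ψ : Ψ) :
    g ψ (Θ ψ₀) = (if ψ = ψ₀ then -δ else 0) + (if ψ = ι ψ₀ then -δ else 0) := by
  obtain ⟨n1, n2, n3, n4⟩ := h1.Θ_ne ψ₀ ho hν
  by_cases h : ψ = o
  · subst h
    rw [hL.g_o, if_neg (Ne.symm ho), if_neg (Ne.symm (ι_ne_o hL ho)), add_zero]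
  · by_cases h' : ψ = ν
    · subst h'
      rw [h1.g_ν, ev_ne n1, ev_ne n2, ev_ne n3, ev_ne n4, if_neg (Ne.symm hν),
        if_neg (Ne.symm (ι_ne_ν hL hν))]
      ring
    · rw [h1.g_gen ψ h h', ev_ne n1, ev_ne n2]
      have hiff := h1.Θ_eq ψ₀ ψ ho hν h h'
      by_cases e1 : ψ = ψ₀
      · have e2 : ψ ≠ ι ψ₀ := by
          rw [e1]
          exact (ι_ne_self hL ho hν).symm
        have : Θ ψ₀ = Θ ψ := hiff.2 (Or.inl e1)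
        rw [if_pos e1, if_neg e2, this, ev_self]
        ring
      · by_cases e2 : ψ = ι ψ₀
        · have : Θ ψ₀ = Θ ψ := hiff.2 (Or.inr e2)
          rw [if_neg e1, if_pos e2, this, ev_self]
          ring
        · have : Θ ψ₀ ≠ Θ ψ := fun hh => by
            rcases hiff.1 hh with hh | hh
            · exact e1 hh
            · exact e2 hh
          rw [if_neg e1, if_neg e2, ev_ne this]
          ring

theorem g_at_Y₂ (hL : LatHyp i₀ deg o ι ν g) (h1 : LatI i₀ o ι ν g δ X Θ e₂ e₃ Y₂ Y₃) (ψ : Ψ) :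
    g ψ Y₂ = if ψ = ν then e₂ else 0 := by
  by_cases h : ψ = o
  · subst h
    rw [hL.g_o, if_neg (Ne.symm hL.ν_ne)]
  · by_cases h' : ψ = ν
    · subst h'
      rw [h1.g_ν, ev_ne h1.Y₂_ne.1, ev_ne h1.Y₂_ne.2, ev_self, ev_ne h1.Y₃_ne.2.2.symm, if_pos rfl]
      ring
    · rw [h1.g_gen ψ h h', ev_ne h1.Y₂_ne.1, ev_ne h1.Y₂_ne.2,
        ev_ne (h1.Θ_ne ψ h h').2.2.1.symm, if_neg h']
      ring

theorem g_at_Y₃ (hL : LatHyp i₀ deg o ι ν g) (h1 : LatI i₀ o ι ν g δ X Θ e₂ e₃ Y₂ Y₃) (ψ : Ψ) :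
    g ψ Y₃ = if ψ = ν then e₃ else 0 := by
  by_cases h : ψ = o
  · subst h
    rw [hL.g_o, if_neg (Ne.symm hL.ν_ne)]
  · by_cases h' : ψ = ν
    · subst h'
      rw [h1.g_ν, ev_ne h1.Y₃_ne.1, ev_ne h1.Y₃_ne.2.1, ev_ne h1.Y₃_ne.2.2, ev_self, if_pos rfl]
      ring
    · rw [h1.g_gen ψ h h', ev_ne h1.Y₃_ne.1, ev_ne h1.Y₃_ne.2.1,
        ev_ne (h1.Θ_ne ψ h h').2.2.2.symm, if_neg h']
      ring

theorem tau_i₀ (hL : LatHyp i₀ deg o ι ν g) (ε : Ψ → ℤ) (hεo : ε o = 1) (hεs : ∑ ψ, ε ψ = 0) :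
    tau g ε i₀ = -1 := by
  unfold tau
  rw [Finset.sum_congr rfl (fun ψ _ => by rw [g_at_i₀ hL ψ]), sum_ite_ne_mul, hεs, hεo]
  ring

theorem tau_X (hL : LatHyp i₀ deg o ι ν g) (h1 : LatI i₀ o ι ν g δ X Θ e₂ e₃ Y₂ Y₃)
    (ε : Ψ → ℤ) (hεo : ε o = 1) (hεs : ∑ ψ, ε ψ = 0) :
    tau g ε X = -δ := by
  unfold tau
  rw [Finset.sum_congr rfl (fun ψ _ => by rw [g_at_X hL h1 ψ]), sum_ite_ne_mul, hεs, hεo]
  ring

theorem tau_Θ (hL : LatHyp i₀ deg o ι ν g) (h1 : LatI i₀ o ι ν g δ X Θ e₂ e₃ Y₂ Y₃)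
    (ε : Ψ → ℤ) (hει : ∀ ψ, ε (ι ψ) = ε ψ) {ψ₀ : Ψ} (ho : ψ₀ ≠ o) (hν : ψ₀ ≠ ν) :
    tau g ε (Θ ψ₀) = -2 * δ * ε ψ₀ := by
  unfold tau
  rw [Finset.sum_congr rfl (fun ψ _ => by rw [g_at_Θ hL h1 ho hν ψ, add_mul]),
    Finset.sum_add_distrib, sum_ite_eq_mul, sum_ite_eq_mul, hει]
  ring

theorem tau_Y₂ (hL : LatHyp i₀ deg o ι ν g) (h1 : LatI i₀ o ι ν g δ X Θ e₂ e₃ Y₂ Y₃)
    (ε : Ψ → ℤ) : tau g ε Y₂ = e₂ * ε ν := by
  unfold tau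
  rw [Finset.sum_congr rfl (fun ψ _ => by rw [g_at_Y₂ hL h1 ψ]), sum_ite_eq_mul]

theorem tau_Y₃ (hL : LatHyp i₀ deg o ι ν g) (h1 : LatI i₀ o ι ν g δ X Θ e₂ e₃ Y₂ Y₃)
    (ε : Ψ → ℤ) : tau g ε Y₃ = e₃ * ε ν := by
  unfold tau
  rw [Finset.sum_congr rfl (fun ψ _ => by rw [g_at_Y₃ hL h1 ψ]), sum_ite_eq_mul]

theorem sum_g_X (hL : LatHyp i₀ deg o ι ν g) (h1 : LatI i₀ o ι ν g δ X Θ e₂ e₃ Y₂ Y₃) :
    ∑ ψ, g ψ X = δ * ((Fintype.card Ψ : ℤ) - 1) := by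
  have := sum_ite_ne_mul o δ (fun _ : Ψ => (1 : ℤ))
  simp only [mul_one, Finset.sum_const, Finset.card_univ, nsmul_eq_mul] at this
  rw [Finset.sum_congr rfl (fun ψ _ => by rw [g_at_X hL h1 ψ]), this]
  ring

theorem sum_g_Y₂ (hL : LatHyp i₀ deg o ι ν g) (h1 : LatI i₀ o ι ν g δ X Θ e₂ e₃ Y₂ Y₃) :
    ∑ ψ, g ψ Y₂ = e₂ := by
  have := sum_ite_eq_mul ν e₂ (fun _ : Ψ => (1 : ℤ))
  simp only [mul_one] at this
  rw [Finset.sum_congr rfl (fun ψ _ => by rw [g_at_Y₂ hL h1 ψ]), this]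

theorem exists_gen (hL : LatHyp i₀ deg o ι ν g) : ∃ ψ : Ψ, ψ ≠ o ∧ ψ ≠ ν := by
  by_contra hcon
  push Not at hcon
  have hsub : (Finset.univ : Finset Ψ) ⊆ {o, ν} := by
    intro ψ _
    by_cases h : ψ = o
    · simp [h]
    · simp [hcon ψ h]
  have h2 : (Finset.univ : Finset Ψ).card ≤ 2 :=
    (Finset.card_le_card hsub).trans Finset.card_le_two
  have := hL.card_Ψ
  rw [Finset.card_univ] at h2
  omega

/-- **S3282-[L3]**. -/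
theorem latI_num (hL : LatHyp i₀ deg o ι ν g) {δ : ℤ} {X : I} {Θ : Ψ → I} {e₂ e₃ : ℤ} {Y₂ Y₃ : I}
    (h1 : LatI i₀ o ι ν g δ X Θ e₂ e₃ Y₂ Y₃) (ε : Ψ → ℤ) (hε : ∀ ψ, ε ψ = 1 ∨ ε ψ = -1)
    (hει : ∀ ψ, ε (ι ψ) = ε ψ) (hεo : ε o = 1) (hεs : ∑ ψ, ε ψ = 0) (k N : ℤ)
    (hk : (Fintype.card Ψ : ℤ) = k)
    (hB : ∀ ψ, ψ ≠ o → (N : ℚ) * ∑ i, ((tau g ε i : ℤ) : ℚ) ^ 2 * (g ψ i : ℚ) / (deg i : ℚ) =
      4 * (k : ℚ) ^ 3)
    (hcong : ∀ i, k ∣ deg i + ∑ ψ, g ψ i) (hN : 2 * k ∣ N) (hNpos : 0 < N) :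
    LatNum deg o ν δ X Θ e₂ e₃ Y₂ Y₃ k N := by
  obtain ⟨ψ₀, hψ₀o, hψ₀ν⟩ := exists_gen hL
  have hδ2 : δ * δ = 1 := by rcases h1.hδ with h | h <;> subst h <;> norm_num
  have he₂2 : e₂ * e₂ = 1 := by rcases h1.he₂ with h | h <;> subst h <;> norm_num
  have he₃2 : e₃ * e₃ = 1 := by rcases h1.he₃ with h | h <;> subst h <;> norm_num
  have hε2 : ∀ ψ, ε ψ * ε ψ = 1 := by
    intro ψ
    rcases hε ψ with h | h <;> rw [h] <;> norm_num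
  -- degree relations
  have hdegΘ : ∀ ψ, ψ ≠ o → ψ ≠ ν → 1 + δ * deg X - δ * deg (Θ ψ) = 0 := by
    intro ψ ho hν
    have := hL.gdeg ψ
    rw [Finset.sum_congr rfl (fun i _ => by
      rw [h1.g_gen ψ ho hν i, sub_mul, add_mul, mul_comm (ev i₀ i), mul_assoc, mul_assoc,
        mul_comm (ev X i), mul_comm (ev (Θ ψ) i)]),
      Finset.sum_sub_distrib, Finset.sum_add_distrib, ← Finset.mul_sum, ← Finset.mul_sum,
      sum_mul_ev, sum_mul_ev, sum_mul_ev, hL.deg_i₀] at this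
    exact this
  have hdegν : 1 + δ * deg X + e₂ * deg Y₂ + e₃ * deg Y₃ = 0 := by
    have := hL.gdeg ν
    rw [Finset.sum_congr rfl (fun i _ => by
      rw [h1.g_ν i, add_mul, add_mul, add_mul, mul_comm (ev i₀ i), mul_assoc, mul_assoc,
        mul_assoc, mul_comm (ev X i), mul_comm (ev Y₂ i), mul_comm (ev Y₃ i)]),
      Finset.sum_add_distrib, Finset.sum_add_distrib, Finset.sum_add_distrib, ← Finset.mul_sum,
      ← Finset.mul_sum, ← Finset.mul_sum,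
      sum_mul_ev, sum_mul_ev, sum_mul_ev, sum_mul_ev, hL.deg_i₀] at this
    exact this
  -- the B-sums
  set F : I → ℚ := fun i => ((tau g ε i : ℤ) : ℚ) ^ 2 / (deg i : ℚ) with hF
  have hFi₀ : F i₀ = 1 := by
    simp only [hF, tau_i₀ hL ε hεo hεs, hL.deg_i₀]
    norm_num
  have hFX : F X = 1 / (deg X : ℚ) := by
    simp only [hF, tau_X hL h1 ε hεo hεs]
    have : ((-δ : ℤ) : ℚ) ^ 2 = 1 := by
      have : (-δ) ^ 2 = 1 := by linear_combination hδ2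
      exact_mod_cast this
    rw [this]
  have hFΘ : F (Θ ψ₀) = 4 / (deg (Θ ψ₀) : ℚ) := by
    simp only [hF, tau_Θ hL h1 ε hει hψ₀o hψ₀ν]
    have : ((-2 * δ * ε ψ₀ : ℤ) : ℚ) ^ 2 = 4 := by
      have : (-2 * δ * ε ψ₀) ^ 2 = 4 := by
        linear_combination (4 * ε ψ₀ * ε ψ₀) * hδ2 + 4 * hε2 ψ₀
      exact_mod_cast this
    rw [this]
  have hFY₂ : F Y₂ = 1 / (deg Y₂ : ℚ) := by
    simp only [hF, tau_Y₂ hL h1 ε]
    have : ((e₂ * ε ν : ℤ) : ℚ) ^ 2 = 1 := by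
      have : (e₂ * ε ν) ^ 2 = 1 := by
        linear_combination (ε ν * ε ν) * he₂2 + hε2 ν
      exact_mod_cast this
    rw [this]
  have hFY₃ : F Y₃ = 1 / (deg Y₃ : ℚ) := by
    simp only [hF, tau_Y₃ hL h1 ε]
    have : ((e₃ * ε ν : ℤ) : ℚ) ^ 2 = 1 := by
      have : (e₃ * ε ν) ^ 2 = 1 := by
        linear_combination (ε ν * ε ν) * he₃2 + hε2 ν
      exact_mod_cast this
    rw [this]
  have hB1 : (N : ℚ) * (1 + (δ : ℚ) / (deg X : ℚ) - δ * 4 / (deg (Θ ψ₀) : ℚ)) =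
      4 * (k : ℚ) ^ 3 := by
    rw [← hB ψ₀ hψ₀o]
    congr 1
    have hterm : ∀ i, ((tau g ε i : ℤ) : ℚ) ^ 2 * (g ψ₀ i : ℚ) / (deg i : ℚ) =
        F i * ((ev i₀ i : ℤ) : ℚ) + (δ : ℚ) * (F i * ((ev X i : ℤ) : ℚ)) -
          (δ : ℚ) * (F i * ((ev (Θ ψ₀) i : ℤ) : ℚ)) := by
      intro i
      rw [h1.g_gen ψ₀ hψ₀o hψ₀ν i]
      simp only [hF]
      push_cast
      ring
    rw [Finset.sum_congr rfl (fun i _ => hterm i), Finset.sum_sub_distrib,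
      Finset.sum_add_distrib, ← Finset.mul_sum, ← Finset.mul_sum, sum_mul_ev_rat,
      sum_mul_ev_rat, sum_mul_ev_rat, hFi₀, hFX, hFΘ]
    ring
  have hB2 : (N : ℚ) * (1 + (δ : ℚ) / (deg X : ℚ) + (e₂ : ℚ) / (deg Y₂ : ℚ) +
      (e₃ : ℚ) / (deg Y₃ : ℚ)) = 4 * (k : ℚ) ^ 3 := by
    rw [← hB ν hL.ν_ne]
    congr 1
    have hterm : ∀ i, ((tau g ε i : ℤ) : ℚ) ^ 2 * (g ν i : ℚ) / (deg i : ℚ) =
        F i * ((ev i₀ i : ℤ) : ℚ) + (δ : ℚ) * (F i * ((ev X i : ℤ) : ℚ)) +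
          (e₂ : ℚ) * (F i * ((ev Y₂ i : ℤ) : ℚ)) + (e₃ : ℚ) * (F i * ((ev Y₃ i : ℤ) : ℚ)) := by
      intro i
      rw [h1.g_ν i]
      simp only [hF]
      push_cast
      ring
    rw [Finset.sum_congr rfl (fun i _ => hterm i), Finset.sum_add_distrib,
      Finset.sum_add_distrib, Finset.sum_add_distrib, ← Finset.mul_sum, ← Finset.mul_sum,
      ← Finset.mul_sum, sum_mul_ev_rat,
      sum_mul_ev_rat, sum_mul_ev_rat, sum_mul_ev_rat, hFi₀, hFX, hFY₂, hFY₃]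
    ring
  -- congruences
  have hcX : k ∣ deg X + δ * (k - 1) := by
    have := hcong X
    rw [sum_g_X hL h1, hk] at this
    exact this
  have hcY₂ : k ∣ deg Y₂ + e₂ := by
    have := hcong Y₂
    rw [sum_g_Y₂ hL h1] at this
    exact this
  have hk4 : 4 ≤ k := by
    rw [← hk]
    exact_mod_cast hL.card_Ψ
  obtain ⟨r1, r2, r3, r4, r5, r6, r7⟩ := num_core δ e₂ e₃ (deg X) (deg Y₂) (deg Y₃) (deg (Θ ψ₀)) k N
    h1.hδ h1.he₂ h1.he₃ (hL.deg_pos X) (hL.deg_pos Y₂) (hL.deg_pos Y₃) (hL.deg_pos (Θ ψ₀)) hk4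
    (hdegΘ ψ₀ hψ₀o hψ₀ν) hdegν hB1 hB2 hcX hcY₂ hN hNpos
  refine ⟨r1, r2, r3, ?_, r5, r6, r7⟩
  intro ψ ho hν
  have := hdegΘ ψ ho hν
  rw [r3] at this
  linear_combination (-δ) * this + (δ - deg (Θ ψ) + 2 * k) * hδ2

end Main

end Cfsg.Agent.Lib.Helper66.BSW
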