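import Mathlib

set_option autoImplicit false

namespace Cfsg.Agent.Lib.Helper66

universe u v

/-- For a central extension `σ : Γ →* G` whose kernel lies in `Γ'`, and a subgroup `U` of finite
index, the `|G : U|`-th power of a kernel element lies in the commutator subgroup of the preimage
of `U` (transfer). -/
theorem pow_index_mem_commutator_comap {Γ : Type u} {G : Type v} [Group Γ] [Group G] (σ : Γ →* G)
    (hsurj : Function.Surjective σ) (hcen : σ.ker ≤ Subgroup.center Γ)
    (hcomm : σ.ker ≤ commutator Γ) (U : Subgroup G) [U.FiniteIndex] (a : Γ) (ha : a ∈ σ.ker) :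
    ∃ h : a ^ U.index ∈ U.comap σ,
      (⟨a ^ U.index, h⟩ : ↥(U.comap σ)) ∈ commutator ↥(U.comap σ) := by
  have hindex : (U.comap σ).index = U.index := Subgroup.index_comap_of_surjective U hsurj
  haveI : (U.comap σ).FiniteIndex := ⟨by rw [hindex]; exact Subgroup.FiniteIndex.index_ne_zero⟩
  have hmemU : a ^ U.index ∈ U.comap σ := by
    rw [Subgroup.mem_comap, map_pow, MonoidHom.mem_ker.1 ha, one_pow]
    exact Subgroup.one_mem _
  refine ⟨hmemU, ?_⟩
  have key : ∀ (k : ℕ) (g₀ : Γ), g₀⁻¹ * a ^ k * g₀ ∈ U.comap σ →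
      g₀⁻¹ * a ^ k * g₀ = a ^ k := by
    intro k g₀ _
    have hk := Subgroup.mem_center_iff.1 (Subgroup.pow_mem _ (hcen ha) k) g₀
    rw [mul_assoc, ← hk, inv_mul_cancel_left]
  have h1 := MonoidHom.transfer_eq_pow (Abelianization.of (G := ↥(U.comap σ))) a key
  have h2 : MonoidHom.transfer (Abelianization.of (G := ↥(U.comap σ))) a = 1 := by
    have : a ∈ (MonoidHom.transfer (Abelianization.of (G := ↥(U.comap σ)))).ker :=
      Abelianization.commutator_subset_ker _ (hcomm ha)
    exact this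
  rw [h2] at h1
  have h3 : (⟨a ^ (U.comap σ).index, MonoidHom.transfer_eq_pow_aux a key⟩ : ↥(U.comap σ)) ∈
      commutator ↥(U.comap σ) := by
    rw [← Abelianization.ker_of, MonoidHom.mem_ker]
    exact h1.symm
  have h4 : (⟨a ^ U.index, hmemU⟩ : ↥(U.comap σ)) =
      ⟨a ^ (U.comap σ).index, MonoidHom.transfer_eq_pow_aux a key⟩ := by
    apply Subtype.ext
    show a ^ U.index = a ^ (U.comap σ).index
    rw [hindex]
  rw [h4]; exact h3

end Cfsg.Agent.Lib.Helper66
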