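import Mathlib
import Cfsg.Prelude.Def_KGroupFacts

set_option autoImplicit false

namespace Cfsg.Agent.Lib.Helper66

open scoped commutatorElement

/-- reduction `ZMod (2n) → ZMod n` -/
noncomputable def redHom (n : ℕ) : ZMod (2 * n) →+* ZMod n :=
  ZMod.castHom (dvd_mul_left n 2) (ZMod n)

theorem redHom_natCast (n : ℕ) (k : ℕ) : redHom n (k : ZMod (2 * n)) = (k : ZMod n) := by
  simp [redHom]

/-- The natural surjection from the dicyclic group of order `4n` onto the dihedral group of order `2n`. -/
noncomputable def quatToDihedral (n : ℕ) : QuaternionGroup n →* DihedralGroup n where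
  toFun
    | QuaternionGroup.a i => DihedralGroup.r (redHom n i)
    | QuaternionGroup.xa i => DihedralGroup.sr (redHom n i)
  map_one' := by
    show DihedralGroup.r (redHom n 0) = 1
    simp
  map_mul' := by
    rintro (i | i) (j | j)
    · simp
    · simp
    · simp
    · simp only [QuaternionGroup.xa_mul_xa, DihedralGroup.sr_mul_sr, map_sub, map_add]
      congr 1
      have : redHom n (n : ZMod (2 * n)) = 0 := by
        rw [redHom_natCast]; simp
      rw [this, zero_add]

@[simp] theorem quatToDihedral_a (n : ℕ) (i : ZMod (2 * n)) :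
    quatToDihedral n (QuaternionGroup.a i) = DihedralGroup.r (redHom n i) := rfl

@[simp] theorem quatToDihedral_xa (n : ℕ) (i : ZMod (2 * n)) :
    quatToDihedral n (QuaternionGroup.xa i) = DihedralGroup.sr (redHom n i) := rfl

theorem redHom_surjective (n : ℕ) : Function.Surjective (redHom n) :=
  ZMod.castHom_surjective _

theorem quatToDihedral_surjective (n : ℕ) : Function.Surjective (quatToDihedral n) := by
  rintro (i | i)
  · obtain ⟨j, rfl⟩ := redHom_surjective n i
    exact ⟨QuaternionGroup.a j, rfl⟩
  · obtain ⟨j, rfl⟩ := redHom_surjective n i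
    exact ⟨QuaternionGroup.xa j, rfl⟩

theorem redHom_eq_zero_iff (n : ℕ) [NeZero n] (i : ZMod (2 * n)) :
    redHom n i = 0 ↔ i = 0 ∨ i = (n : ZMod (2 * n)) := by
  constructor
  · intro h
    have hi : i = ((i.val : ℕ) : ZMod (2 * n)) := (ZMod.natCast_zmod_val i).symm
    rw [hi, redHom_natCast, ZMod.natCast_eq_zero_iff] at h
    obtain ⟨k, hk⟩ := h
    have hlt : i.val < 2 * n := ZMod.val_lt i
    have hn : 0 < n := NeZero.pos n
    have hk2 : k < 2 := by
      by_contra hcon
      push Not at hcon
      have : n * 2 ≤ n * k := Nat.mul_le_mul_left n hcon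
      omega
    interval_cases k
    · left
      rw [hi, hk]; simp
    · right
      rw [hi, hk]; simp
  · rintro (rfl | rfl)
    · simp
    · rw [redHom_natCast]; simp

theorem mem_ker_quatToDihedral (n : ℕ) [NeZero n] (g : QuaternionGroup n) :
    g ∈ (quatToDihedral n).ker ↔ g = 1 ∨ g = QuaternionGroup.a (n : ZMod (2 * n)) := by
  rw [MonoidHom.mem_ker]
  rcases g with i | i
  · rw [quatToDihedral_a, DihedralGroup.one_def, QuaternionGroup.one_def]
    constructor
    · intro h
      have : redHom n i = 0 := by injection h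
      rcases (redHom_eq_zero_iff n i).1 this with h | h
      · left; rw [h]
      · right; rw [h]
    · rintro (h | h)
      · have : i = 0 := by injection h
        rw [this]; simp
      · have : i = n := by injection h
        rw [this, redHom_natCast]; simp
  · rw [quatToDihedral_xa, DihedralGroup.one_def, QuaternionGroup.one_def]
    constructor
    · intro h; cases h
    · rintro (h | h) <;> cases h

theorem a_n_ne_one (n : ℕ) [NeZero n] : QuaternionGroup.a (n : ZMod (2 * n)) ≠ (1 : QuaternionGroup n) := by
  rw [QuaternionGroup.one_def]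
  intro h
  have h' : (n : ZMod (2 * n)) = 0 := by injection h
  rw [ZMod.natCast_eq_zero_iff] at h'
  have hn : 0 < n := NeZero.pos n
  have := Nat.le_of_dvd hn h'
  omega

theorem card_ker_quatToDihedral (n : ℕ) [NeZero n] : Nat.card (quatToDihedral n).ker = 2 := by
  classical
  have : ((quatToDihedral n).ker : Set (QuaternionGroup n)) = {1, QuaternionGroup.a (n : ZMod (2 * n))} := by
    ext g
    simp only [SetLike.mem_coe, Set.mem_insert_iff, Set.mem_singleton_iff]
    exact mem_ker_quatToDihedral n g
  rw [← SetLike.coe_sort_coe, this]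
  rw [Nat.card_coe_set_eq, Set.ncard_pair (a_n_ne_one n).symm]

theorem a_n_mem_center (n : ℕ) : QuaternionGroup.a (n : ZMod (2 * n)) ∈ Subgroup.center (QuaternionGroup n) := by
  rw [Subgroup.mem_center_iff]
  have h2 : ((n : ZMod (2 * n)) + n) = 0 := by
    have : ((2 * n : ℕ) : ZMod (2 * n)) = 0 := ZMod.natCast_self _
    rw [← this]; push_cast; ring
  rintro (j | j)
  · simp [add_comm]
  · simp only [QuaternionGroup.xa_mul_a, QuaternionGroup.a_mul_xa]
    congr 1
    have : (n : ZMod (2 * n)) = -n := by
      rw [eq_neg_iff_add_eq_zero]; exact h2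
    rw [sub_eq_add_neg, ← this]

theorem a_two_mem_commutator (n : ℕ) : QuaternionGroup.a (2 : ZMod (2 * n)) ∈ commutator (QuaternionGroup n) := by
  have h : ⁅(QuaternionGroup.a (1 : ZMod (2 * n)) : QuaternionGroup n), (QuaternionGroup.xa 0 : QuaternionGroup n)⁆ = QuaternionGroup.a 2 := by
    rw [commutatorElement_def]
    have h1 : (QuaternionGroup.a (1 : ZMod (2 * n)))⁻¹ = QuaternionGroup.a (-1) := rfl
    have h2 : (QuaternionGroup.xa (0 : ZMod (2 * n)))⁻¹ = QuaternionGroup.xa (n + 0) := rfl
    rw [h1, h2]
    simp only [QuaternionGroup.a_mul_xa, QuaternionGroup.xa_mul_a, QuaternionGroup.xa_mul_xa]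
    congr 1
    have : ((n : ZMod (2 * n)) + n) = 0 := by
      have : ((2 * n : ℕ) : ZMod (2 * n)) = 0 := ZMod.natCast_self _
      rw [← this]; push_cast; ring
    ring_nf
    ring_nf at this
    rw [this]; ring
  rw [← h]
  exact Subgroup.commutator_mem_commutator (Subgroup.mem_top _) (Subgroup.mem_top _)

theorem a_n_mem_commutator (n : ℕ) (hn : Even n) :
    QuaternionGroup.a (n : ZMod (2 * n)) ∈ commutator (QuaternionGroup n) := by
  obtain ⟨m, hm⟩ := hn
  have : QuaternionGroup.a (n : ZMod (2 * n)) = (QuaternionGroup.a (2 : ZMod (2 * n))) ^ m := by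
    have h1 : ∀ k : ℕ, (QuaternionGroup.a (2 : ZMod (2 * n))) ^ k = QuaternionGroup.a ((2 * k : ℕ) : ZMod (2 * n)) := by
      intro k
      induction k with
      | zero => simp
      | succ k ih =>
        rw [pow_succ, ih, QuaternionGroup.a_mul_a]
        congr 1
        push_cast; ring
    rw [h1]
    congr 2
    omega
  rw [this]
  exact Subgroup.pow_mem _ (a_two_mem_commutator n) m

theorem quatToDihedral_isStem (n : ℕ) [NeZero n] (hn : Even n) :
    Cfsg.IsStemExtension (quatToDihedral n) := by
  refine ⟨quatToDihedral_surjective n, ?_, ?_⟩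
  · intro g hg
    rcases (mem_ker_quatToDihedral n g).1 hg with rfl | rfl
    · exact Subgroup.one_mem _
    · exact a_n_mem_center n
  · intro g hg
    rcases (mem_ker_quatToDihedral n g).1 hg with rfl | rfl
    · exact Subgroup.one_mem _
    · exact a_n_mem_commutator n hn

end Cfsg.Agent.Lib.Helper66
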