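import Mathlib
import Cfsg.Prelude.Def_KGroupFacts
import Cfsg.Agent.Lib.Helper66.StemDihedral

set_option autoImplicit false

namespace Cfsg.Agent.Lib.Helper66

open scoped commutatorElement

/-- A cyclic group all of whose elements are killed by `n` is a homomorphic image of `ZMod n`. -/
theorem exists_surjective_zmod_of_isCyclic {H : Type*} [Group H] [IsCyclic H] (n : ℕ)
    (hn : ∀ h : H, h ^ n = 1) : ∃ π : Multiplicative (ZMod n) →* H, Function.Surjective π := by
  obtain ⟨g, hg⟩ := IsCyclic.exists_generator (α := H)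
  -- additive hom ℤ → Additive H, k ↦ k • g
  let f0 : ℤ →+ Additive H := zmultiplesHom (Additive H) (Additive.ofMul g)
  have hf0 : f0 n = 0 := by
    show (n : ℤ) • Additive.ofMul g = 0
    rw [natCast_zsmul]
    show Additive.ofMul (g ^ n) = 0
    rw [hn g]; rfl
  let f : ZMod n →+ Additive H := ZMod.lift n ⟨f0, hf0⟩
  refine ⟨AddMonoidHom.toMultiplicativeLeft f, ?_⟩
  intro h
  obtain ⟨k, hk⟩ := hg h
  refine ⟨Multiplicative.ofAdd (k : ZMod n), ?_⟩
  show Additive.toMul (f (k : ZMod n)) = h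
  have : f (k : ZMod n) = f0 k := ZMod.lift_coe n _ k
  rw [this]
  show Additive.toMul (k • Additive.ofMul g) = h
  rw [← hk]
  rfl

section

variable {Γ G : Type*} [Group Γ] [Group G]

/-- Main computation for stem extensions of groups generated by `a`, `x` with `x a x⁻¹ = a⁻¹`
and `a ^ n` a power of `x`. -/
theorem stem_dihedralLike (σ : Γ →* G) (hσ : Cfsg.IsStemExtension σ) (a x : G)
    (hgen : Subgroup.closure ({a, x} : Set G) = ⊤) (hrel : x * a * x⁻¹ = a⁻¹) (n : ℕ)
    (hn : a ^ n ∈ Subgroup.zpowers x) :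
    ∃ c : Γ, c ^ n = 1 ∧ ∀ w ∈ σ.ker, ∃ k : ℤ, w = c ^ k ∧ c ^ (2 * k) = 1 ∧ a ^ (2 * k) = 1 := by
  obtain ⟨hsurj, hcen, hcomm⟩ := hσ
  obtain ⟨A, rfl⟩ := hsurj a
  obtain ⟨X, rfl⟩ := hsurj x
  have hzker : X * A * X⁻¹ * A ∈ σ.ker := by
    rw [MonoidHom.mem_ker]
    simp only [map_mul, map_inv]
    rw [hrel]; group
  have hz : X * A * X⁻¹ * A ∈ Subgroup.center Γ := hcen hzker
  -- generation
  have hgen' : Subgroup.closure ({A, X} ∪ (σ.ker : Set Γ)) = ⊤ := by
    rw [eq_top_iff]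
    intro g _
    have hg : σ g ∈ Subgroup.map σ (Subgroup.closure ({A, X} : Set Γ)) := by
      rw [MonoidHom.map_closure]
      have : (σ '' ({A, X} : Set Γ)) = {σ A, σ X} := by
        rw [Set.image_pair]
      rw [this, hgen]; trivial
    obtain ⟨h, hh, hhg⟩ := hg
    have hk : g * h⁻¹ ∈ σ.ker := by
      rw [MonoidHom.mem_ker, map_mul, map_inv, hhg]; group
    have : g = (g * h⁻¹) * h := by group
    rw [this]
    apply Subgroup.mul_mem
    · exact Subgroup.subset_closure (Or.inr hk)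
    · exact Subgroup.closure_mono Set.subset_union_left hh
  set c := X * A * X⁻¹ * A⁻¹ with hc
  have hcomm_le : commutator Γ ≤ Subgroup.zpowers c :=
    dl_commutator_le A X σ.ker hcen hgen' hz
  -- X commutes with A^n
  have hXAn : X * A ^ n * X⁻¹ = A ^ n := by
    obtain ⟨j, hj⟩ := hn
    have hj' : (σ X) ^ j = (σ A) ^ n := hj
    have hu : A ^ n * (X ^ j)⁻¹ ∈ σ.ker := by
      rw [MonoidHom.mem_ker, map_mul, map_inv, map_pow, map_zpow, hj']; group
    have hu' := hcen hu
    rw [Subgroup.mem_center_iff] at hu'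
    set u := A ^ n * (X ^ j)⁻¹ with hudef
    have hAn : A ^ n = u * X ^ j := by rw [hudef]; group
    rw [hAn]
    have h1 : X * u = u * X := hu' X
    calc X * (u * X ^ j) * X⁻¹ = (X * u) * X ^ j * X⁻¹ := by group
      _ = (u * X) * X ^ j * X⁻¹ := by rw [h1]
      _ = u * (X * X ^ j * X⁻¹) := by group
      _ = u * X ^ j := by
          congr 1
          have : X * X ^ j * X⁻¹ = X ^ (1 + j + (-1)) := by
            rw [zpow_add, zpow_add, zpow_one, zpow_neg_one]
          rw [this]; congr 1; ring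
  refine ⟨c, dl_c_pow_eq_one A X hz n hXAn, ?_⟩
  intro w hw
  obtain ⟨k, hk⟩ := hcomm_le (hcomm hw)
  have hk : c ^ k = w := hk
  refine ⟨k, hk.symm, ?_, ?_⟩
  · -- w central, X inverts c
    have hwc := hcen hw
    rw [Subgroup.mem_center_iff] at hwc
    have h1 : X * w * X⁻¹ = w := by rw [hwc X]; group
    rw [← hk, dl_conj_zpow, dl_X_c A X hz] at h1
    -- (c⁻¹)^k = c^k
    have h2 : (c ^ k)⁻¹ = c ^ k := by rw [← inv_zpow]; exact h1
    have : c ^ (2 * k) = c ^ k * c ^ k := by rw [two_mul, zpow_add]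
    rw [this]
    nth_rewrite 1 [← h2]
    group
  · -- image in G
    have h1 : σ w = 1 := hw
    rw [← hk, map_zpow] at h1
    have h2 : σ c = (σ A)⁻¹ * (σ A)⁻¹ := by
      rw [hc]
      simp only [map_mul, map_inv]
      rw [hrel]
    rw [h2] at h1
    have h3 : ((σ A)⁻¹ * (σ A)⁻¹) ^ k = ((σ A) ^ (2 * k))⁻¹ := by
      have : (σ A)⁻¹ * (σ A)⁻¹ = (σ A) ^ (-2 : ℤ) := by
        rw [show (-2 : ℤ) = -1 + -1 by norm_num, zpow_add, zpow_neg_one]
      rw [this, ← zpow_mul, ← zpow_neg]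
      congr 1; ring
    rw [h3, inv_eq_one] at h1
    exact h1

end

end Cfsg.Agent.Lib.Helper66
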