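import Mathlib
import Cfsg.Prelude.Def_KGroupFacts
import Cfsg.Agent.Lib.Helper66.StemDihedral2
import Cfsg.Agent.Lib.Helper66.SchurBasic
import Cfsg.Agent.Lib.Helper66.QuatDihedral

set_option autoImplicit false

namespace Cfsg.Agent.Lib.Helper66

theorem dihedral_closure (n : ℕ) :
    Subgroup.closure ({DihedralGroup.r (1 : ZMod n), DihedralGroup.sr (0 : ZMod n)} : Set (DihedralGroup n)) = ⊤ := by
  rw [eq_top_iff]
  have hr : ∀ i : ZMod n, DihedralGroup.r i ∈
      Subgroup.closure ({DihedralGroup.r (1 : ZMod n), DihedralGroup.sr (0 : ZMod n)} : Set (DihedralGroup n)) := by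
    intro i
    have : DihedralGroup.r i = (DihedralGroup.r (1 : ZMod n)) ^ (i.cast : ℤ) := by
      rw [DihedralGroup.r_one_zpow, ZMod.intCast_zmod_cast]
    rw [this]
    exact Subgroup.zpow_mem _ (Subgroup.subset_closure (by simp)) _
  rintro (i | i) _
  · exact hr i
  · have : DihedralGroup.sr i = DihedralGroup.sr 0 * DihedralGroup.r i := by simp
    rw [this]
    exact Subgroup.mul_mem _ (Subgroup.subset_closure (by simp)) (hr i)

theorem dihedral_rel (n : ℕ) :
    DihedralGroup.sr (0 : ZMod n) * DihedralGroup.r 1 * (DihedralGroup.sr 0)⁻¹ = (DihedralGroup.r 1)⁻¹ := by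
  simp

theorem dihedral_pow_mem (n : ℕ) :
    (DihedralGroup.r (1 : ZMod n)) ^ n ∈ Subgroup.zpowers (DihedralGroup.sr (0 : ZMod n)) := by
  rw [DihedralGroup.r_one_pow_n]; exact Subgroup.one_mem _

theorem quaternion_closure (n : ℕ) :
    Subgroup.closure ({QuaternionGroup.a (1 : ZMod (2 * n)), QuaternionGroup.xa (0 : ZMod (2 * n))} : Set (QuaternionGroup n)) = ⊤ := by
  rw [eq_top_iff]
  have hr : ∀ i : ZMod (2 * n), QuaternionGroup.a i ∈
      Subgroup.closure ({QuaternionGroup.a (1 : ZMod (2 * n)), QuaternionGroup.xa (0 : ZMod (2 * n))} : Set (QuaternionGroup n)) := by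
    intro i
    have h1 : ∀ k : ℤ, (QuaternionGroup.a (1 : ZMod (2 * n))) ^ k = QuaternionGroup.a (k : ZMod (2 * n)) := by
      intro k
      induction k using Int.induction_on with
      | zero => simp
      | succ k ih =>
        rw [zpow_add_one, ih, QuaternionGroup.a_mul_a]; push_cast; rfl
      | pred k ih =>
        rw [zpow_sub_one, ih]
        have : (QuaternionGroup.a (1 : ZMod (2 * n)))⁻¹ = QuaternionGroup.a (-1) := rfl
        rw [this, QuaternionGroup.a_mul_a]; push_cast; ring_nf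
    have : QuaternionGroup.a i = (QuaternionGroup.a (1 : ZMod (2 * n))) ^ (i.cast : ℤ) := by
      rw [h1, ZMod.intCast_zmod_cast]
    rw [this]
    exact Subgroup.zpow_mem _ (Subgroup.subset_closure (by simp)) _
  rintro (i | i) _
  · exact hr i
  · have : QuaternionGroup.xa i = QuaternionGroup.xa 0 * QuaternionGroup.a i := by simp
    rw [this]
    exact Subgroup.mul_mem _ (Subgroup.subset_closure (by simp)) (hr i)

theorem quaternion_rel (n : ℕ) :
    QuaternionGroup.xa (0 : ZMod (2 * n)) * QuaternionGroup.a 1 * (QuaternionGroup.xa 0)⁻¹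
      = (QuaternionGroup.a (1 : ZMod (2 * n)) : QuaternionGroup n)⁻¹ := by
  have h1 : (QuaternionGroup.a (1 : ZMod (2 * n)) : QuaternionGroup n)⁻¹ = QuaternionGroup.a (-1) := rfl
  have h2 : (QuaternionGroup.xa (0 : ZMod (2 * n)) : QuaternionGroup n)⁻¹ = QuaternionGroup.xa (n + 0) := rfl
  rw [h1, h2]
  simp only [QuaternionGroup.xa_mul_a, QuaternionGroup.xa_mul_xa]
  congr 1
  have : ((n : ZMod (2 * n)) + n) = 0 := by
    have : ((2 * n : ℕ) : ZMod (2 * n)) = 0 := ZMod.natCast_self _
    rw [← this]; push_cast; ring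
  ring_nf
  ring_nf at this
  rw [this]; ring

theorem quaternion_pow_mem (n : ℕ) :
    (QuaternionGroup.a (1 : ZMod (2 * n)) : QuaternionGroup n) ^ n ∈ Subgroup.zpowers (QuaternionGroup.xa (0 : ZMod (2 * n))) := by
  refine ⟨2, ?_⟩
  show QuaternionGroup.xa (0 : ZMod (2 * n)) ^ (2 : ℤ) = _
  rw [QuaternionGroup.a_one_pow]
  have := QuaternionGroup.xa_sq (n := n) 0
  rw [← this]
  norm_cast

end Cfsg.Agent.Lib.Helper66
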