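/-
helper66: project B2ISO (helper37, S1083), module B2ISO-[G-NORMAL]: the Siegel group is normal in `O₅(F)`,
`E0 ≤ ES` (adapted from helper98's D4IsoGNormal).  The two facts needed from [G-MEM]/[G-ROOT]
(`mem_OG_iff`, `Bf_eV_eV`) are proved here under local names.
-/
import Mathlib
import Cfsg.Agent.Lib.Helper37.B2Iso.Defs
import Cfsg.Agent.Lib.Helper66.B2IsoGSiegel

set_option autoImplicit false

namespace Cfsg.Agent.Lib.Helper66.B2Iso

open Matrix Cfsg.Lie Cfsg.Agent.Lib.Helper37.B2Iso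

variable {F : Type*} [Field F]

theorem h66_Qr_eq_quadFormOdd (v : I5 → F) : Qr v = Cfsg.quadFormOdd 2 F v := rfl

theorem h66_mem_OG_iff (g : GL I5 F) :
    g ∈ OG F ↔ ∀ x : I5 → F, Qr ((g : Matrix I5 I5 F) *ᵥ x) = Qr x := by
  constructor
  · intro h x
    exact h x x
  · intro h x _
    exact h x

theorem h66_Bf_OG (g : ↥(OG F)) (x y : I5 → F) :
    Bf (((g : GL I5 F) : Matrix I5 I5 F) *ᵥ x) (((g : GL I5 F) : Matrix I5 I5 F) *ᵥ y) = Bf x y :=
  Bf_of_Qr _ ((h66_mem_OG_iff (g : GL I5 F)).1 g.2) x y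

theorem h66_Bf_eV_eV {R : Type*} [CommRing R] (a b : I5) (h : Valid a b) :
    Bf (eV a : I5 → R) (eV b) = 0 := by
  obtain ⟨ha, hba, hbo⟩ := h
  by_cases hb : b = zI
  · subst hb
    rw [Bf_eV_zI, eV_apply, if_neg (fun h => ha h.symm), mul_zero]
  · rw [Bf_eV_right _ b hb, eV_apply, if_neg]
    intro h
    apply hbo
    rw [← h, opp_opp]

/-- the generating set of `ES` is closed under conjugation -/
theorem h66_siegel_conj (h g : ↥(OG F)) (u w : I5 → F) (hu : Qr u = 0) (huw : Bf u w = 0)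
    (hg : ((g : GL I5 F) : Matrix I5 I5 F) = TM u w) :
    ∃ u' w' : I5 → F, Qr u' = 0 ∧ Bf u' w' = 0 ∧
      (((h * g * h⁻¹ : ↥(OG F)) : GL I5 F) : Matrix I5 I5 F) = TM u' w' := by
  have hh := (h66_mem_OG_iff (h : GL I5 F)).1 h.2
  refine ⟨((h : GL I5 F) : Matrix I5 I5 F) *ᵥ u, ((h : GL I5 F) : Matrix I5 I5 F) *ᵥ w, ?_, ?_, ?_⟩
  · rw [hh, hu]
  · rw [h66_Bf_OG, huw]
  · have h1 : ((h : GL I5 F) : Matrix I5 I5 F) * (((h⁻¹ : ↥(OG F)) : GL I5 F) : Matrix I5 I5 F) = 1 := by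
      have : (h * h⁻¹ : ↥(OG F)) = 1 := mul_inv_cancel h
      exact congrArg (fun z : ↥(OG F) => ((z : GL I5 F) : Matrix I5 I5 F)) this
    have h2 : (((h * g * h⁻¹ : ↥(OG F)) : GL I5 F) : Matrix I5 I5 F) =
        ((h : GL I5 F) : Matrix I5 I5 F) * ((g : GL I5 F) : Matrix I5 I5 F) *
          (((h⁻¹ : ↥(OG F)) : GL I5 F) : Matrix I5 I5 F) := rfl
    rw [h2, hg]
    exact TM_conj _ _ hh h1 u w

/-- **[G-NORMAL]** -/
theorem ES_normal : (ES F).Normal := by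
  constructor
  intro n hn h
  unfold ES at hn ⊢
  induction hn using Subgroup.closure_induction with
  | mem x hx =>
    obtain ⟨u, w, hu, huw, hx⟩ := hx
    exact Subgroup.subset_closure (h66_siegel_conj h x u w hu huw hx)
  | one =>
    rw [mul_one, mul_inv_cancel]
    exact Subgroup.one_mem _
  | mul x y _ _ hx hy =>
    have : h * (x * y) * h⁻¹ = (h * x * h⁻¹) * (h * y * h⁻¹) := by group
    rw [this]
    exact Subgroup.mul_mem _ hx hy
  | inv x _ hx =>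
    have : h * x⁻¹ * h⁻¹ = (h * x * h⁻¹)⁻¹ := by group
    rw [this]
    exact Subgroup.inv_mem _ hx

theorem E0_le_ES : E0 F ≤ ES F := by
  unfold E0 ES
  rw [Subgroup.closure_le]
  rintro g ⟨a, b, hab, t, hg⟩
  apply Subgroup.subset_closure
  refine ⟨eV a, t • eV b, Qr_eV a hab.1, ?_, hg⟩
  rw [Bf_smul_right, h66_Bf_eV_eV a b hab, mul_zero]

end Cfsg.Agent.Lib.Helper66.B2Iso
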