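/-
helper66: project B2ISO (helper37, S1083), modules B2ISO-[G-MOVE], [G-TRANS], hypothesis-free.
Contains a local proof `h66_TM_eV_mem` of the statement of [G-SIEGEL-MEM] (hedge; adapted from helper38's
D4IsoGSiegelMem), so that this file depends only on my landed G-SIEGEL / G-NORMAL / GMoveOf files.
-/
import Mathlib
import Cfsg.Agent.Lib.Helper37.B2Iso.Defs
import Cfsg.Agent.Lib.Helper66.B2IsoGSiegel
import Cfsg.Agent.Lib.Helper66.B2IsoGNormal
import Cfsg.Agent.Lib.Helper66.B2IsoGMoveOf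

set_option autoImplicit false

namespace Cfsg.Agent.Lib.Helper66.B2Iso

open Matrix Cfsg.Lie Cfsg.Agent.Lib.Helper37.B2Iso

variable {F : Type*} [Field F]

theorem h66_OG_ext (g h : ↥(OG F))
    (e : ((g : GL I5 F) : Matrix I5 I5 F) = ((h : GL I5 F) : Matrix I5 I5 F)) : g = h :=
  Subtype.ext (Units.ext e)

/-- the partial sums `Σ_{d ∈ T} w_d e_d` -/
def h66_part (w : I5 → F) (T : Finset I5) : I5 → F := ∑ d ∈ T, w d • (eV d : I5 → F)

theorem h66_part_univ (w : I5 → F) : h66_part w Finset.univ = w := by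
  unfold h66_part
  ext b
  rw [Finset.sum_apply, Finset.sum_eq_single b]
  · rw [Pi.smul_apply, eV_apply, if_pos rfl, smul_eq_mul, mul_one]
  · intro d _ hd
    rw [Pi.smul_apply, eV_apply, if_neg (fun e => hd e.symm), smul_zero]
  · intro h
    exact absurd (Finset.mem_univ _) h

/-- `B(e_a, e_d) = 0` unless `d = opp a` (`a` hyperbolic). -/
theorem h66_Bf_eV_smul (a d : I5) (ha : IsHyp a) (c : F) (hc : d = opp a → c = 0) :
    Bf (eV a : I5 → F) (c • eV d) = 0 := by
  rw [Bf_smul_right]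
  by_cases h : d = opp a
  · rw [hc h, zero_mul]
  · by_cases hd : d = zI
    · subst hd
      rw [Bf_eV_zI, eV_ne a zI (fun e => ha e.symm), mul_zero, mul_zero]
    · rw [Bf_eV_right _ d hd, eV_ne a (opp d), mul_zero]
      intro e
      apply h
      rw [← e, opp_opp]

theorem h66_Bf_eV_part (a : I5) (ha : IsHyp a) (w : I5 → F) (hw : w (opp a) = 0) (T : Finset I5) :
    Bf (eV a : I5 → F) (h66_part w T) = 0 := by
  unfold h66_part
  induction T using Finset.induction_on with
  | empty =>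
    rw [Finset.sum_empty]
    exact Bf_zero_right _
  | insert d T hd ih =>
    rw [Finset.sum_insert hd, Bf_add_right, ih, add_zero]
    exact h66_Bf_eV_smul a d ha (w d) (fun e => by rw [e]; exact hw)

/-- one coordinate at a time -/
theorem h66_TM_eV_single_mem (a : I5) (ha : IsHyp a) (d : I5) (c : F)
    (hc1 : d = opp a → c = 0) (g : ↥(OG F))
    (hg : ((g : GL I5 F) : Matrix I5 I5 F) = TM (eV a) (c • eV d)) : g ∈ E0 F := by
  by_cases hc0 : c = 0
  · have : g = 1 := by
      apply h66_OG_ext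
      rw [hg, hc0, zero_smul, TM_zero]
      rfl
    rw [this]
    exact Subgroup.one_mem _
  by_cases hda : d = a
  · have : g = 1 := by
      apply h66_OG_ext
      rw [hg, hda, TM_smul_self _ (Qr_eV a ha)]
      rfl
    rw [this]
    exact Subgroup.one_mem _
  have hdo : d ≠ opp a := fun e => hc0 (hc1 e)
  apply Subgroup.subset_closure
  exact ⟨a, d, ⟨ha, hda, hdo⟩, c, hg⟩

/-- the statement of **[G-SIEGEL-MEM]** (local copy): Siegel elements at a hyperbolic basis vector lie in `E0`. -/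
theorem h66_TM_eV_mem (a : I5) (ha : IsHyp a) (w : I5 → F)
    (haw : Bf (eV a) w = 0) (g : ↥(OG F))
    (hg : ((g : GL I5 F) : Matrix I5 I5 F) = TM (eV a) w) : g ∈ E0 F := by
  have hoa : IsHyp (opp a) := isHyp_opp a ha
  have hwa : w (opp a) = 0 := by
    rw [Bf_comm, Bf_eV_right _ a ha] at haw
    exact haw
  have key : ∀ T : Finset I5, ∀ g : ↥(OG F),
      ((g : GL I5 F) : Matrix I5 I5 F) = TM (eV a) (h66_part w T) → g ∈ E0 F := by
    intro T
    induction T using Finset.induction_on with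
    | empty =>
      intro g hg
      have : g = 1 := by
        apply h66_OG_ext
        rw [hg]
        unfold h66_part
        rw [Finset.sum_empty, TM_zero]
        rfl
      rw [this]
      exact Subgroup.one_mem _
    | insert d T hd ih =>
      intro g hg
      have hsplit : h66_part w (insert d T) = w d • (eV d : I5 → F) + h66_part w T := by
        unfold h66_part
        rw [Finset.sum_insert hd]
      have hb1 : Bf (eV a : I5 → F) (w d • eV d) = 0 :=
        h66_Bf_eV_smul a d ha (w d) (fun e => by rw [e]; exact hwa)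
      have hb2 : Bf (eV a : I5 → F) (h66_part w T) = 0 := h66_Bf_eV_part a ha w hwa T
      obtain ⟨g1, hg1⟩ := h66_exists_TO (eV a : I5 → F) (w d • eV d) (Qr_eV a ha) hb1
      obtain ⟨g2, hg2⟩ := h66_exists_TO (eV a : I5 → F) (h66_part w T) (Qr_eV a ha) hb2
      have hgg : g = g1 * g2 := by
        apply h66_OG_ext
        rw [Subgroup.coe_mul, Units.val_mul, hg, hg1, hg2, hsplit, TM_mul _ _ _ (Qr_eV a ha) hb1 hb2]
      rw [hgg]
      refine Subgroup.mul_mem _ ?_ (ih g2 hg2)
      exact h66_TM_eV_single_mem a ha d (w d) (fun e => by rw [e]; exact hwa) g1 hg1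
  apply key Finset.univ g
  rw [h66_part_univ]
  exact hg

theorem siegelMem : SiegelMem F := fun a ha w haw g hg => h66_TM_eV_mem a ha w haw g hg

/-! ## [G-MOVE] -/
theorem exists_move (a : I5) (ha : IsHyp a) (u u' : I5 → F)
    (hu : Qr u = 0) (hu' : Qr u' = 0)
    (hβ : Bf u (eV a) = Bf u' (eV a)) (hβ0 : Bf u (eV a) ≠ 0) :
    ∃ g : ↥(OG F), g ∈ E0 F ∧ ((g : GL I5 F) : Matrix I5 I5 F) *ᵥ u = u' ∧
      ((g : GL I5 F) : Matrix I5 I5 F) *ᵥ eV a = eV a ∧
      ∀ x : I5 → F, Bf x (eV a) = 0 → Bf x u = Bf x u' →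
        ((g : GL I5 F) : Matrix I5 I5 F) *ᵥ x = x :=
  exists_move_of siegelMem a ha u u' hu hu' hβ hβ0

/-- one step: `β e_c` can be moved to `e_d` if `c`, `d` are hyperbolic in different pairs -/
theorem exists_step (β : F) (hβ : β ≠ 0) (c d : I5) (hc : IsHyp c)
    (hd : IsHyp d) (hdc : d ≠ c) (hdc' : d ≠ opp c) :
    ∃ g : ↥(OG F), g ∈ E0 F ∧ ((g : GL I5 F) : Matrix I5 I5 F) *ᵥ (β • eV c) = eV d :=
  exists_step_of siegelMem β hβ c d hc hd hdc hdc'

/-! ## [G-TRANS] -/
theorem exists_trans (u : I5 → F) (hu0 : u ≠ 0) (hu : Qr u = 0) :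
    ∃ g : ↥(OG F), g ∈ E0 F ∧ ((g : GL I5 F) : Matrix I5 I5 F) *ᵥ u = eV (eI 0) :=
  exists_trans_of siegelMem u hu0 hu

end Cfsg.Agent.Lib.Helper66.B2Iso
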