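/-
helper66: project B2ISO (helper37, S1083), module B2ISO-[R-NAT]: base change for the tensor model
(adapted from helper89's D4IsoRNat).
-/
import Mathlib
import Cfsg.Agent.Lib.Helper37.B2Iso.Defs

set_option autoImplicit false

namespace Cfsg.Agent.Lib.Helper66.B2Iso

open Matrix Cfsg.Lie Cfsg.Agent.Lib.Helper37.B2Iso

section ring
variable {R : Type*} [CommRing R]

variable {R' : Type*} [CommRing R'] (φ : R →+* R')

theorem single_map (a b : I5) (c : R) :
    (Matrix.single a b c : Matrix I5 I5 R).map φ = Matrix.single a b (φ c) := by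
  ext i j
  simp only [Matrix.map_apply, Matrix.single_apply]
  split_ifs <;> simp

theorem smul_map (c : R) (A : Matrix I5 I5 R) : (c • A).map φ = φ c • A.map φ := by
  ext i j
  simp [Matrix.map_apply]

theorem rA_map (a b : I5) : (rA a b : Matrix I5 I5 R).map φ = rA a b := by
  unfold rA
  rw [Matrix.map_sub φ (map_sub φ), smul_map, single_map, single_map, map_one]
  split_ifs
  · rw [map_ofNat]
  · rw [map_one]

theorem rB_map (a b : I5) : (rB a b : Matrix I5 I5 R).map φ = rB a b := by
  unfold rB
  split_ifs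
  · rw [Matrix.map_neg φ (map_neg φ), single_map, map_one]
  · exact Matrix.map_zero φ (map_zero φ)

theorem NM_map : (NM : Matrix I5 I5 R).map φ = NM := by
  ext a b
  rcases a with a | a | a <;> rcases b with b | b | b <;> simp [NM]

theorem bT_map (j : chevB2.Idx) : mapP φ (bT j) = bT j := by
  rcases j with k | r
  · simp only [bT]
    split_ifs
    · simp only [mapP]
      refine Prod.ext ?_ (map_one φ)
      simp only
      rw [smul_map, single_map, map_one, map_ofNat]
    · simp only [mapP]
      refine Prod.ext ?_ (map_zero φ)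
      simp only
      rw [Matrix.map_sub φ (map_sub φ), single_map, single_map, map_one]
  · simp only [bT, mapP]
    refine Prod.ext ?_ (map_zero φ)
    simp only
    rw [smul_map, single_map, map_one, map_intCast]

theorem coordT_map (p : Matrix I5 I5 R × R) (i : chevB2.Idx) :
    coordT (mapP φ p) i = φ (coordT p i) := by
  rcases i with k | r
  · simp only [coordT, mapP, Matrix.map_apply]
    split_ifs <;> simp
  · simp [coordT, mapP]

theorem trace_map (A : Matrix I5 I5 R) : Matrix.trace (A.map φ) = φ (Matrix.trace A) := by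
  simp [Matrix.trace]

theorem K1_map (A B : Matrix I5 I5 R) (p : Matrix I5 I5 R × R) :
    K1 (A.map φ) (B.map φ) (mapP φ p) = mapP φ (K1 A B p) := by
  unfold K1 mapP
  refine Prod.ext ?_ ?_
  · simp only [Matrix.map_add φ (map_add φ), Matrix.map_mul, Matrix.transpose_map]
  · simp only [map_neg, ← trace_map, Matrix.map_add φ (map_add φ), Matrix.map_mul,
      Matrix.transpose_map, NM_map]

theorem K2_map (A B : Matrix I5 I5 R) (p : Matrix I5 I5 R × R) :
    K2 (A.map φ) (B.map φ) (mapP φ p) = mapP φ (K2 A B p) := by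
  unfold K2 mapP
  refine Prod.ext ?_ ?_
  · simp only [Matrix.map_add φ (map_add φ), Matrix.map_mul, Matrix.transpose_map]
  · simp only [map_neg, ← trace_map, Matrix.map_add φ (map_add φ), Matrix.map_mul,
      Matrix.transpose_map, NM_map]

theorem K3_map (A B : Matrix I5 I5 R) (p : Matrix I5 I5 R × R) :
    K3 (A.map φ) (B.map φ) (mapP φ p) = mapP φ (K3 A B p) := by
  unfold K3 mapP
  refine Prod.ext ?_ ?_
  · simp only [Matrix.map_add φ (map_add φ), Matrix.map_mul, Matrix.transpose_map]
  · simp only [map_neg, ← trace_map, Matrix.map_add φ (map_add φ), Matrix.map_mul,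
      Matrix.transpose_map, NM_map]

theorem K4_map (A B : Matrix I5 I5 R) (p : Matrix I5 I5 R × R) :
    K4 (A.map φ) (B.map φ) (mapP φ p) = mapP φ (K4 A B p) := by
  unfold K4 mapP
  refine Prod.ext ?_ ?_
  · simp only [Matrix.map_mul, Matrix.transpose_map]
  · simp only [map_neg, ← trace_map, Matrix.map_mul, Matrix.transpose_map, NM_map]

/-- the coefficients of `ρ(TM (eV a) (τ • eV b))` are the integers `k1Z .. k4Z` -/
theorem coord_K1_eq (a b : I5) (i j : chevB2.Idx) :
    coordT (K1 (rA a b : Matrix I5 I5 R) (rB a b) (bT j)) i = ((k1Z a b i j : ℤ) : R) := by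
  unfold k1Z
  rw [← rA_map (Int.castRingHom R) a b, ← rB_map (Int.castRingHom R) a b,
    ← bT_map (Int.castRingHom R) j, K1_map, coordT_map]
  rfl

theorem coord_K2_eq (a b : I5) (i j : chevB2.Idx) :
    coordT (K2 (rA a b : Matrix I5 I5 R) (rB a b) (bT j)) i = ((k2Z a b i j : ℤ) : R) := by
  unfold k2Z
  rw [← rA_map (Int.castRingHom R) a b, ← rB_map (Int.castRingHom R) a b,
    ← bT_map (Int.castRingHom R) j, K2_map, coordT_map]
  rfl

theorem coord_K3_eq (a b : I5) (i j : chevB2.Idx) :
    coordT (K3 (rA a b : Matrix I5 I5 R) (rB a b) (bT j)) i = ((k3Z a b i j : ℤ) : R) := by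
  unfold k3Z
  rw [← rA_map (Int.castRingHom R) a b, ← rB_map (Int.castRingHom R) a b,
    ← bT_map (Int.castRingHom R) j, K3_map, coordT_map]
  rfl

theorem coord_K4_eq (a b : I5) (i j : chevB2.Idx) :
    coordT (K4 (rA a b : Matrix I5 I5 R) (rB a b) (bT j)) i = ((k4Z a b i j : ℤ) : R) := by
  unfold k4Z
  rw [← rA_map (Int.castRingHom R) a b, ← rB_map (Int.castRingHom R) a b,
    ← bT_map (Int.castRingHom R) j, K4_map, coordT_map]
  rfl

end ring

end Cfsg.Agent.Lib.Helper66.B2Iso
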