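import Mathlib
import Cfsg.Prelude.Def_GeometricClasses
import Cfsg.Prelude.Def_ClassicalGeometry
import Cfsg.Agent.Lib.Helper56.F4
import Cfsg.Agent.Lib.Helper37.BHRSU.Defs
import Cfsg.Agent.Lib.Helper37.BHRSU5.Defs

/-!
# BHRSU5-[A3] (helper66, hedge, for helper37's BHRSU5 sheet): transport along conjugation by `u`

`K = adjoin {ζ}`, `u Zc = ζ u`: then `K = u K0 u⁻¹`, so `N(K) = u N(K0) u⁻¹`, `K0` is a field subalgebra of degree 5 when
`K` is, and `SU` is normalised by `GU`.
-/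

set_option autoImplicit false

namespace Cfsg.Agent.Lib.Helper66.Bhrsu5A3

open Cfsg Cfsg.Geo Cfsg.Agent.Lib.Helper37.BHRSU Cfsg.Agent.Lib.Helper37.BHRSU5
open scoped MatrixGroups Matrix

variable {n : Type} [Fintype n] [DecidableEq n] {F : Type*} [Field F]

theorem gl_mul_inv (u : GL n F) : (u : Matrix n n F) * ((u⁻¹ : GL n F) : Matrix n n F) = 1 := by
  rw [← Units.val_mul, mul_inv_cancel, Units.val_one]

theorem gl_inv_mul (u : GL n F) : ((u⁻¹ : GL n F) : Matrix n n F) * (u : Matrix n n F) = 1 := by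
  rw [← Units.val_mul, inv_mul_cancel, Units.val_one]

/-- conjugation by `u` as an algebra automorphism of the matrix algebra -/
def conjAlg (u : GL n F) : Matrix n n F ≃ₐ[F] Matrix n n F where
  toFun X := (u : Matrix n n F) * X * ((u⁻¹ : GL n F) : Matrix n n F)
  invFun X := ((u⁻¹ : GL n F) : Matrix n n F) * X * (u : Matrix n n F)
  left_inv X := by
    show ((u⁻¹ : GL n F) : Matrix n n F) * ((u : Matrix n n F) * X * ((u⁻¹ : GL n F) : Matrix n n F)) *
      (u : Matrix n n F) = X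
    calc ((u⁻¹ : GL n F) : Matrix n n F) * ((u : Matrix n n F) * X * ((u⁻¹ : GL n F) : Matrix n n F)) *
        (u : Matrix n n F)
        = (((u⁻¹ : GL n F) : Matrix n n F) * (u : Matrix n n F)) * X *
          (((u⁻¹ : GL n F) : Matrix n n F) * (u : Matrix n n F)) := by simp only [mul_assoc]
      _ = X := by rw [gl_inv_mul, one_mul, mul_one]
  right_inv X := by
    show (u : Matrix n n F) * (((u⁻¹ : GL n F) : Matrix n n F) * X * (u : Matrix n n F)) *
      ((u⁻¹ : GL n F) : Matrix n n F) = X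
    calc (u : Matrix n n F) * (((u⁻¹ : GL n F) : Matrix n n F) * X * (u : Matrix n n F)) *
        ((u⁻¹ : GL n F) : Matrix n n F)
        = ((u : Matrix n n F) * ((u⁻¹ : GL n F) : Matrix n n F)) * X *
          ((u : Matrix n n F) * ((u⁻¹ : GL n F) : Matrix n n F)) := by simp only [mul_assoc]
      _ = X := by rw [gl_mul_inv, one_mul, mul_one]
  map_mul' X Y := by
    show (u : Matrix n n F) * (X * Y) * ((u⁻¹ : GL n F) : Matrix n n F) =
      (u : Matrix n n F) * X * ((u⁻¹ : GL n F) : Matrix n n F) *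
        ((u : Matrix n n F) * Y * ((u⁻¹ : GL n F) : Matrix n n F))
    calc (u : Matrix n n F) * (X * Y) * ((u⁻¹ : GL n F) : Matrix n n F)
        = (u : Matrix n n F) * X * 1 * Y * ((u⁻¹ : GL n F) : Matrix n n F) := by
          rw [mul_one]; simp only [mul_assoc]
      _ = _ := by rw [← gl_inv_mul u]; simp only [mul_assoc]
  map_add' X Y := by
    show (u : Matrix n n F) * (X + Y) * ((u⁻¹ : GL n F) : Matrix n n F) = _
    rw [mul_add, add_mul]
  commutes' r := by
    show (u : Matrix n n F) * (algebraMap F (Matrix n n F) r) * ((u⁻¹ : GL n F) : Matrix n n F) = _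
    rw [← Algebra.commutes, mul_assoc, gl_mul_inv, mul_one]

theorem conjAlg_apply (u : GL n F) (X : Matrix n n F) :
    conjAlg u X = (u : Matrix n n F) * X * ((u⁻¹ : GL n F) : Matrix n n F) := rfl

theorem conjAlg_symm_apply (u : GL n F) (X : Matrix n n F) :
    (conjAlg u).symm X = ((u⁻¹ : GL n F) : Matrix n n F) * X * (u : Matrix n n F) := rfl

/-- `adjoin {u a u⁻¹} = u (adjoin {a}) u⁻¹` -/
theorem map_adjoin_singleton (u : GL n F) (a b : Matrix n n F)
    (hab : (u : Matrix n n F) * a = b * (u : Matrix n n F)) :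
    (Algebra.adjoin F {a}).map (conjAlg u : Matrix n n F →ₐ[F] Matrix n n F) = Algebra.adjoin F {b} := by
  rw [AlgHom.map_adjoin, Set.image_singleton]
  congr 2
  show (u : Matrix n n F) * a * ((u⁻¹ : GL n F) : Matrix n n F) = b
  rw [hab, mul_assoc, gl_mul_inv, mul_one]

theorem mem_map_conjAlg (u : GL n F) (K0 : Subalgebra F (Matrix n n F)) (k : Matrix n n F) :
    k ∈ K0.map (conjAlg u : Matrix n n F →ₐ[F] Matrix n n F) ↔
      ((u⁻¹ : GL n F) : Matrix n n F) * k * (u : Matrix n n F) ∈ K0 := by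
  constructor
  · rintro ⟨k0, hk0, rfl⟩
    have : ((u⁻¹ : GL n F) : Matrix n n F) * (conjAlg u k0) * (u : Matrix n n F) = k0 :=
      (conjAlg u).left_inv k0
    show ((u⁻¹ : GL n F) : Matrix n n F) * (conjAlg u k0) * (u : Matrix n n F) ∈ K0
    rw [this]
    exact hk0
  · intro h
    refine ⟨_, h, ?_⟩
    exact (conjAlg u).right_inv k

/-- `N(u K0 u⁻¹) = u N(K0) u⁻¹` -/
theorem normalizer_map_conjAlg (u : GL n F) (K0 : Subalgebra F (Matrix n n F)) :
    subalgebraNormalizer (K0.map (conjAlg u : Matrix n n F →ₐ[F] Matrix n n F)) =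
      (subalgebraNormalizer K0).map (MulAut.conj u).toMonoidHom := by
  ext g
  rw [Subgroup.mem_map]
  have key : g ∈ subalgebraNormalizer (K0.map (conjAlg u : Matrix n n F →ₐ[F] Matrix n n F)) ↔
      u⁻¹ * g * u ∈ subalgebraNormalizer K0 := by
    show (∀ k : Matrix n n F, k ∈ K0.map (conjAlg u : Matrix n n F →ₐ[F] Matrix n n F) ↔
        (g : Matrix n n F) * k * ((g⁻¹ : GL n F) : Matrix n n F) ∈
          K0.map (conjAlg u : Matrix n n F →ₐ[F] Matrix n n F)) ↔
      (∀ k : Matrix n n F, k ∈ K0 ↔ ((u⁻¹ * g * u : GL n F) : Matrix n n F) * k *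
        (((u⁻¹ * g * u)⁻¹ : GL n F) : Matrix n n F) ∈ K0)
    have hcalc : ∀ k : Matrix n n F,
        ((u⁻¹ * g * u : GL n F) : Matrix n n F) * k * (((u⁻¹ * g * u)⁻¹ : GL n F) : Matrix n n F) =
        ((u⁻¹ : GL n F) : Matrix n n F) * ((g : Matrix n n F) *
          ((u : Matrix n n F) * k * ((u⁻¹ : GL n F) : Matrix n n F)) *
          ((g⁻¹ : GL n F) : Matrix n n F)) * (u : Matrix n n F) := by
      intro k
      have h1 : ((u⁻¹ * g * u)⁻¹ : GL n F) = u⁻¹ * g⁻¹ * u := by group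
      rw [h1]
      simp only [Units.val_mul, mul_assoc]
    constructor
    · intro h k
      rw [hcalc, ← mem_map_conjAlg, ← h, mem_map_conjAlg]
      have h2 : ((u⁻¹ : GL n F) : Matrix n n F) *
          ((u : Matrix n n F) * k * ((u⁻¹ : GL n F) : Matrix n n F)) * (u : Matrix n n F) = k :=
        (conjAlg u).left_inv k
      rw [h2]
    · intro h k
      rw [mem_map_conjAlg, mem_map_conjAlg, h, hcalc]
      have h2 : (u : Matrix n n F) *
          (((u⁻¹ : GL n F) : Matrix n n F) * k * (u : Matrix n n F)) * ((u⁻¹ : GL n F) : Matrix n n F) = k :=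
        (conjAlg u).right_inv k
      rw [h2]
  rw [key]
  constructor
  · intro h
    refine ⟨u⁻¹ * g * u, h, ?_⟩
    show u * (u⁻¹ * g * u) * u⁻¹ = g
    group
  · rintro ⟨h0, hh0, rfl⟩
    have : u⁻¹ * ((MulAut.conj u).toMonoidHom h0) * u = h0 := by
      show u⁻¹ * (u * h0 * u⁻¹) * u = h0
      group
    rw [this]
    exact hh0

/-- a conjugate of a field subalgebra is a field subalgebra: transported back -/
theorem isFieldSubalgebra_of_map (u : GL n F) (K0 : Subalgebra F (Matrix n n F)) (r : ℕ)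
    (hK : IsFieldSubalgebra r (K0.map (conjAlg u : Matrix n n F →ₐ[F] Matrix n n F))) :
    IsFieldSubalgebra r K0 := by
  have hmem : ∀ x ∈ K0, conjAlg u x ∈ K0.map (conjAlg u : Matrix n n F →ₐ[F] Matrix n n F) :=
    fun x hx => ⟨x, hx, rfl⟩
  refine ⟨?_, ?_, ?_⟩
  · intro x hx y hy
    have h := hK.comm _ (hmem x hx) _ (hmem y hy)
    rw [← map_mul, ← map_mul] at h
    exact (conjAlg u).injective h
  · intro x hx hx0
    have hne : conjAlg u x ≠ 0 := by
      intro h0
      apply hx0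
      apply (conjAlg u).injective
      rw [h0, map_zero]
    obtain ⟨y', hy', hxy'⟩ := hK.inv _ (hmem x hx) hne
    obtain ⟨y, hy, rfl⟩ := hy'
    refine ⟨y, hy, ?_⟩
    apply (conjAlg u).injective
    have : (conjAlg u) (x * y) = conjAlg u x * conjAlg u y := map_mul _ _ _
    rw [this, map_one]
    exact hxy'
  · have e : K0 ≃ₐ[F] K0.map (conjAlg u : Matrix n n F →ₐ[F] Matrix n n F) :=
      K0.equivMapOfInjective (conjAlg u : Matrix n n F →ₐ[F] Matrix n n F) (conjAlg u).injective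
    rw [e.toLinearEquiv.finrank_eq]
    exact hK.finrank_eq

/-- the determinant-one subgroup is normal, `GU` is a subgroup -/
theorem inf_specialLinear_map_conj (U : Subgroup (GL n F)) (u : GL n F) (hu : u ∈ U) :
    (U ⊓ specialLinear n F).map (MulAut.conj u).toMonoidHom = U ⊓ specialLinear n F := by
  have hSL : ∀ g : GL n F, g ∈ specialLinear n F → ∀ w : GL n F, w * g * w⁻¹ ∈ specialLinear n F := by
    intro g hg w
    unfold specialLinear at hg ⊢
    rw [MonoidHom.mem_ker] at hg ⊢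
    rw [map_mul, map_mul, hg, mul_one, map_inv, mul_inv_cancel]
  ext g
  rw [Subgroup.mem_map]
  constructor
  · rintro ⟨h0, hh0, rfl⟩
    exact ⟨U.mul_mem (U.mul_mem hu hh0.1) (U.inv_mem hu), hSL h0 hh0.2 u⟩
  · intro hg
    refine ⟨u⁻¹ * g * u, ⟨U.mul_mem (U.mul_mem (U.inv_mem hu) hg.1) hu, ?_⟩, ?_⟩
    · have := hSL g hg.2 u⁻¹
      rwa [inv_inv] at this
    · show u * (u⁻¹ * g * u) * u⁻¹ = g
      group

end Cfsg.Agent.Lib.Helper66.Bhrsu5A3

namespace Cfsg.Agent.Lib.Helper37.BHRSU5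

open Cfsg Cfsg.Geo Cfsg.Agent.Lib.Helper37.BHRSU Cfsg.Agent.Lib.Helper70.AschU
open Cfsg.Agent.Lib.Helper56.F4 (w v)
open Cfsg.Agent.Lib.Helper66.Bhrsu5A3
open scoped MatrixGroups Matrix

/-- BHRSU5-[A3]  Transport along conjugation by `u`: `K = u K0 u⁻¹`. -/
theorem normalizer_conj (K : Subalgebra F4c M5) (ζ : M5) (hgen : Algebra.adjoin F4c {ζ} = K) (u : GL (Fin 5) F4c)
    (hconj : (u : M5) * Zc = ζ * (u : M5)) :
    subalgebraNormalizer K = (subalgebraNormalizer K0).map (MulAut.conj u).toMonoidHom := by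
  rw [← normalizer_map_conjAlg, ← hgen]
  unfold K0
  rw [map_adjoin_singleton u Zc ζ hconj]

theorem isFieldSubalgebra_K0_of (K : Subalgebra F4c M5) (hK : IsFieldSubalgebra 5 K) (ζ : M5)
    (hgen : Algebra.adjoin F4c {ζ} = K) (u : GL (Fin 5) F4c) (hconj : (u : M5) * Zc = ζ * (u : M5)) :
    IsFieldSubalgebra 5 K0 := by
  apply isFieldSubalgebra_of_map u K0 5
  unfold K0
  rw [map_adjoin_singleton u Zc ζ hconj, hgen]
  exact hK

/-- `SU` is normal in `GU` -/
theorem SUg_map_conj (u : GL (Fin 5) F4c) (hu : u ∈ GU 5 F4c 2) :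
    (SUg 5 F4c 2).map (MulAut.conj u).toMonoidHom = SUg 5 F4c 2 :=
  inf_specialLinear_map_conj (GU 5 F4c 2) u hu

end Cfsg.Agent.Lib.Helper37.BHRSU5
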