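import Mathlib
import Cfsg.Prelude.Def_GeometricClasses
import Cfsg.Prelude.Def_ClassicalGeometry
import Cfsg.Agent.Lib.Helper56.F4
import Cfsg.Agent.Lib.Helper37.BHRSU.Defs
import Cfsg.Agent.Lib.Helper37.BHRSU5.Defs
import Cfsg.Agent.Lib.Helper73.Bhrsu5CFacts

/-!
# BHRSU5-[B4] (helper66, hedge), `_of` form: `N(K0) ∩ SU < stabX ∩ SU < SU`

Hypotheses = the Skel statements of [B3] (`normalizer_K0_le`), [C-X66] (four memberships) and [U-CRIT] (`mem_SUg_iff`);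
[C-FACTS] (helper73, on main) is imported.
-/

set_option autoImplicit false

namespace Cfsg.Agent.Lib.Helper66.Bhrsu5B4

open Cfsg Cfsg.Geo Cfsg.Agent.Lib.Helper37.BHRSU Cfsg.Agent.Lib.Helper70.AschU Cfsg.Agent.Lib.Helper37.BHRSU5
open scoped MatrixGroups Matrix

theorem between_K0_of (hK0 : IsFieldSubalgebra 5 K0)
    (hB3 : subalgebraNormalizer K0 ⊓ SUg 5 F4c 2 ≤ Subgroup.closure {ZG, PG})
    (hZ : ZG ∈ stabX) (hP : PG ∈ stabX) (hS : SG ∈ stabX) (hT : TG ∉ stabX)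
    (hSU : ∀ g : GL (Fin 5) F4c, g ∈ SUg 5 F4c 2 ↔ IsU (g : M5) ∧ (g : M5).det = 1) :
    subalgebraNormalizer K0 ⊓ SUg 5 F4c 2 < stabX ⊓ SUg 5 F4c 2 ∧ stabX ⊓ SUg 5 F4c 2 < SUg 5 F4c 2 := by
  have hSGU : SG ∈ SUg 5 F4c 2 := (hSU SG).2 ⟨isU_Sc, det_Sc⟩
  have hTGU : TG ∈ SUg 5 F4c 2 := (hSU TG).2 ⟨isU_Tc, det_Tc⟩
  have hcl : Subgroup.closure {ZG, PG} ≤ stabX := by
    rw [Subgroup.closure_le]
    rintro g (rfl | hg)
    · exact hZ
    · rw [Set.mem_singleton_iff] at hg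
      subst hg
      exact hP
  constructor
  · refine lt_of_le_of_ne (le_inf (hB3.trans hcl) inf_le_right) ?_
    intro heq
    have hSN : SG ∈ subalgebraNormalizer K0 ⊓ SUg 5 F4c 2 := by
      rw [heq]
      exact ⟨hS, hSGU⟩
    have hSN' : SG ∈ subalgebraNormalizer K0 := hSN.1
    have hZK : Zc ∈ K0 := Algebra.subset_adjoin (Set.mem_singleton _)
    have h1 : (SG : M5) * Zc * ((SG⁻¹ : GL (Fin 5) F4c) : M5) ∈ K0 := (hSN' Zc).1 hZK
    have h2 : (SG : M5) * Zc * ((SG⁻¹ : GL (Fin 5) F4c) : M5) = Sc * Zc * Sc := rfl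
    rw [h2] at h1
    exact Sc_conj_not_commute (hK0.comm _ h1 _ hZK)
  · refine lt_of_le_of_ne inf_le_right ?_
    intro heq
    have : TG ∈ stabX ⊓ SUg 5 F4c 2 := by
      rw [heq]
      exact hTGU
    exact hT this.1

end Cfsg.Agent.Lib.Helper66.Bhrsu5B4
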