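import Mathlib
import Cfsg.Agent.Lib.Helper40.SpMixedP

/-!
# Elements of order `2 r` and `2 p` in `PSp_{2n}(q)` (helper66, modules S2474-[PEC], S2474-[PED]
for helper40)
-/

set_option autoImplicit false
set_option linter.unusedSectionVars false
set_option linter.unusedSimpArgs false
set_option linter.unusedVariables false
set_option linter.style.haveILetI false

namespace Cfsg.Agent.Lib.Helper66.PSpTwoMul

open Matrix Cfsg.Agent.Lib.Helper40

variable {F : Type*} [Field F] [Fintype F]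

/-- block element `(x, -1)` or `(-1, x)` with `x` of odd order `t`: its image in `PSp` has order
`2 t`.  General form: `a + b = n`, `x ∈ Sp_{2a}` of odd order `t`, `-1 ∈ Sp_{2b}`, `b ≥ 1`. -/
theorem exists_psp_two_mul_of_odd (h2F : (2 : F) ≠ 0) {a b n : ℕ} (hsum : a + b = n) (hb : 1 ≤ b)
    (ha : 1 ≤ a) (x : symplecticGroup (Fin a) F) (t : ℕ) (ht : Odd t) (hx : orderOf x = t) :
    ∃ y : Cfsg.PSp n F, orderOf y = 2 * t := by
  have hn : 1 ≤ n := by omega
  set g := spBlockHom (F := F) hsum (x, spNegOne b F) with hg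
  have hcop : t.Coprime 2 := Nat.coprime_two_right.mpr ht
  have hgord : orderOf g = 2 * t := by
    rw [hg, orderOf_injective _ (spBlockHom_injective hsum), Prod.orderOf, hx,
      orderOf_spNegOne h2F hb, hcop.lcm_eq_mul, mul_comm]
  refine ⟨QuotientGroup.mk g, ?_⟩
  rw [← hgord]
  apply Nat.dvd_antisymm
  · exact (orderOf_mk_PSp hn g).1
  · set o := orderOf (QuotientGroup.mk g : Cfsg.PSp n F) with ho
    have h3 := pow_orderOf_eq_one (QuotientGroup.mk g : Cfsg.PSp n F)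
    rw [← ho, mk_pow_eq_one_iff_PSp hn] at h3
    rcases h3 with h3 | h3
    · have h4 : g ^ o = 1 := by
        apply Subtype.ext
        rw [SubmonoidClass.coe_pow, h3]
        rfl
      exact orderOf_dvd_of_pow_eq_one h4
    · exfalso
      have h4 : g ^ o = spNegOne n F := by
        apply Subtype.ext
        rw [SubmonoidClass.coe_pow, h3]
        rfl
      rw [hg, ← map_pow, Prod.pow_mk, ← spBlockHom_neg_one hsum] at h4
      have h5 := spBlockHom_injective hsum h4
      have h6 : x ^ o = spNegOne a F := (Prod.mk.inj h5).1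
      have h7 : (x ^ o) ^ t = 1 := by
        rw [← pow_mul, mul_comm, pow_mul, ← hx, pow_orderOf_eq_one, one_pow]
      rw [h6, spNegOne_pow_odd t ht] at h7
      exact spNegOne_ne_one h2F ha h7

/-- the same with the blocks in the other order -/
theorem exists_psp_two_mul_of_odd' (h2F : (2 : F) ≠ 0) {a b n : ℕ} (hsum : a + b = n)
    (ha : 1 ≤ a) (hb : 1 ≤ b) (x : symplecticGroup (Fin b) F) (t : ℕ) (ht : Odd t)
    (hx : orderOf x = t) :
    ∃ y : Cfsg.PSp n F, orderOf y = 2 * t :=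
  exists_psp_two_mul_of_odd h2F (a := b) (b := a) (by omega) ha hb x t ht hx

/-- `r ∣ q ^ n - 1` or `r ∣ q ^ n + 1` from the order of `q` modulo `r` -/
theorem dvd_pm_of_orderOf (r : ℕ) [Fact r.Prime] (q : ℕ) (hq : 1 ≤ q) (k ηk : ℕ)
    (hk : orderOf ((q : ℕ) : ZMod r) = k)
    (hηk : (Odd k ∧ ηk = k) ∨ (Even k ∧ 2 * ηk = k)) (hη1 : 1 ≤ ηk) :
    (Odd k → r ∣ q ^ ηk - 1) ∧ (Even k → r ∣ q ^ ηk + 1) := by
  have hr : r.Prime := Fact.out
  constructor
  · intro hodd
    rcases hηk with ⟨_, h⟩ | ⟨he, _⟩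
    · rw [dvd_pow_sub_one_iff hq, hk, h]
    · exact absurd he (Nat.not_even_iff_odd.mpr hodd)
  · intro heven
    rcases hηk with ⟨ho, _⟩ | ⟨_, h⟩
    · exact absurd heven (Nat.not_even_iff_odd.mpr ho)
    · have h1 : ((q : ZMod r) ^ ηk) ^ 2 = 1 := by
        rw [← pow_mul, mul_comm, h, ← hk]
        exact pow_orderOf_eq_one _
      have h2 : (q : ZMod r) ^ ηk ≠ 1 := by
        intro h3
        have h4 := orderOf_dvd_of_pow_eq_one h3
        rw [hk] at h4
        have := Nat.le_of_dvd (by omega) h4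
        omega
      rcases sq_eq_one_iff.mp h1 with h3 | h3
      · exact absurd h3 h2
      · rw [← ZMod.natCast_eq_zero_iff]
        push_cast
        rw [h3]
        ring

theorem exists_psp_two_mul_prime (p : ℕ) [Fact p.Prime] [CharP F p] (hp2 : p ≠ 2) (r : ℕ)
    (hr : r.Prime) (hr2 : r ≠ 2) (hrp : r ≠ p) {n : ℕ} (hn : 2 ≤ n)
    (k ηk : ℕ) (hk : orderOf ((Fintype.card F : ℕ) : ZMod r) = k)
    (hηk : (Odd k ∧ ηk = k) ∨ (Even k ∧ 2 * ηk = k))
    (h : ηk + 1 ≤ n ∨ (ηk = n ∧ ((Even k ∧ 4 ∣ Fintype.card F ^ n + 1) ∨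
      (Odd k ∧ 4 ∣ Fintype.card F ^ n - 1)))) :
    ∃ y : Cfsg.PSp n F, orderOf y = 2 * r := by
  haveI : Fact r.Prime := ⟨hr⟩
  have hp : p.Prime := Fact.out
  have h2F : (2 : F) ≠ 0 := two_ne_zero_of_char_ne_two (F := F) p hp2
  have hrodd : Odd r := hr.odd_of_ne_two hr2
  have hq1 : 1 ≤ Fintype.card F := Fintype.card_pos
  -- `q` is a unit modulo `r`, so `k ≥ 1`
  have hk1 : 1 ≤ k := by
    rw [← hk]
    obtain ⟨e, hep, heq⟩ := FiniteField.card F p
    have hne : ((Fintype.card F : ℕ) : ZMod r) ≠ 0 := by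
      rw [Ne, ZMod.natCast_eq_zero_iff, heq]
      intro hd
      have := (Nat.prime_dvd_prime_iff_eq hr hp).mp (hr.dvd_of_dvd_pow hd)
      exact hrp this
    have hpos := orderOf_pos (Units.mk0 ((Fintype.card F : ℕ) : ZMod r) hne)
    rw [← orderOf_units, Units.val_mk0] at hpos
    exact hpos
  have hη1 : 1 ≤ ηk := by
    rcases hηk with ⟨_, h'⟩ | ⟨he, h'⟩
    · omega
    · obtain ⟨j, hj⟩ := he
      omega
  obtain ⟨hoddk, hevenk⟩ := dvd_pm_of_orderOf r (Fintype.card F) hq1 k ηk hk hηk hη1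
  rcases h with h | ⟨hηn, h⟩
  · -- an element of order `r` in `Sp_{2 ηk}`
    obtain ⟨x, hx⟩ : ∃ x : symplecticGroup (Fin ηk) F, orderOf x = r := by
      rcases Nat.even_or_odd k with he | ho
      · exact exists_orderOf_Sp_of_dvd_pow_add_one p ηk hη1 r (hevenk he)
      · exact exists_orderOf_Sp_of_dvd_pow_sub_one p ηk hη1 r (hoddk ho)
    exact exists_psp_two_mul_of_odd h2F (a := ηk) (b := n - ηk) (by omega) (by omega) hη1 x r
      hrodd hx
  · -- the torus of order `q ^ n ± 1`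
    have hn1 : 1 ≤ n := by omega
    obtain ⟨M, hM, hrM, h4M⟩ : ∃ M : ℕ, (M = Fintype.card F ^ n - 1 ∨ M = Fintype.card F ^ n + 1) ∧
        r ∣ M ∧ 4 ∣ M := by
      rcases h with ⟨he, h4⟩ | ⟨ho, h4⟩
      · exact ⟨_, Or.inr rfl, hηn ▸ hevenk he, h4⟩
      · exact ⟨_, Or.inl rfl, hηn ▸ hoddk ho, h4⟩
    obtain ⟨y, hy1, hy2⟩ := exists_psp_torus (F := F) p hn1 M hM
    have hcop : Nat.Coprime 4 r := by
      have : Nat.Coprime 2 r := (Nat.coprime_primes Nat.prime_two hr).mpr (Ne.symm hr2)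
      exact Nat.Coprime.pow_left 2 this
    have h4r : 4 * r ∣ M := hcop.mul_dvd_of_dvd_of_dvd h4M hrM
    have h5 : 2 * r ∣ orderOf y := by
      have h6 : 2 * (2 * r) ∣ 2 * orderOf y := by
        have : 2 * (2 * r) = 4 * r := by ring
        rw [this]
        exact dvd_trans h4r hy2
      exact (Nat.mul_dvd_mul_iff_left (by norm_num)).mp h6
    have hpos : 0 < orderOf y := orderOf_pos y
    refine ⟨y ^ (orderOf y / (2 * r)), ?_⟩
    exact orderOf_pow_orderOf_div hpos.ne' h5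

theorem exists_psp_two_mul_char (p : ℕ) [Fact p.Prime] [CharP F p] (hp2 : p ≠ 2) {n : ℕ}
    (hn : 2 ≤ n) : ∃ y : Cfsg.PSp n F, orderOf y = 2 * p := by
  have hp : p.Prime := Fact.out
  have h2F : (2 : F) ≠ 0 := two_ne_zero_of_char_ne_two (F := F) p hp2
  have hpodd : Odd p := hp.odd_of_ne_two hp2
  obtain ⟨u, hu⟩ := exists_sp_regUnip (F := F) p hp2 1 le_rfl
  have hclog : Nat.clog p (2 * 1) = 1 := Nat.clog_eq_one (by norm_num) (by
    have := hp.two_le
    omega)
  rw [hclog, pow_one] at hu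
  exact exists_psp_two_mul_of_odd h2F (a := 1) (b := n - 1) (by omega) (by omega) le_rfl u p
    hpodd hu

end Cfsg.Agent.Lib.Helper66.PSpTwoMul
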