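import Mathlib
import Cfsg.Agent.Lib.Helper48.Bau.Defs
import Cfsg.Agent.Lib.Helper50.ChermakDelgado

/-!
# S2768-70 (Baumann lemmas), module [BAU-T1] (helper48, board #3812)

In the rank-one pushing-up setting `Ctx p q S M Q`: if some `A ≤ S`, `A ≰ Q`, is an offender on
the normal subgroup `V` (centralized by `Q`), then `S` itself is a best offender.
-/

set_option autoImplicit false

namespace Cfsg.Agent.Lib.Helper66.Bau

open scoped Pointwise
open Cfsg.Agent.Lib.Helper48.Bau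

variable {G : Type*} [Group G]

/-- the measure `|B| * |C_V(B)|` -/
noncomputable def phi (V B : Subgroup G) : ℕ :=
  Nat.card B * Nat.card (V ⊓ Subgroup.centralizer (B : Set G) : Subgroup G)

lemma conj_smul_centralizer (g : G) (B : Subgroup G) :
    MulAut.conj g • Subgroup.centralizer (B : Set G) =
      Subgroup.centralizer ((MulAut.conj g • B : Subgroup G) : Set G) := by
  ext x
  rw [Subgroup.mem_pointwise_smul_iff_inv_smul_mem, Subgroup.mem_centralizer_iff,
    Subgroup.mem_centralizer_iff]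
  constructor
  · intro h y hy
    rw [SetLike.mem_coe, Subgroup.mem_pointwise_smul_iff_inv_smul_mem] at hy
    have h1 := h _ hy
    simp only [MulAut.smul_def, MulAut.conj_inv_apply] at h1
    have h2 : g * (g⁻¹ * y * g * (g⁻¹ * x * g)) * g⁻¹ = g * (g⁻¹ * x * g * (g⁻¹ * y * g)) * g⁻¹ := by
      rw [h1]
    simpa [mul_assoc] using h2
  · intro h y hy
    have hy' : MulAut.conj g • y ∈ ((MulAut.conj g • B : Subgroup G) : Set G) :=
      Subgroup.smul_mem_pointwise_smul _ _ _ hy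
    have h1 := h _ hy'
    simp only [MulAut.smul_def, MulAut.conj_inv_apply, MulAut.conj_apply] at h1 ⊢
    have h2 : g⁻¹ * (g * y * g⁻¹ * x) * g = g⁻¹ * (x * (g * y * g⁻¹)) * g := by rw [h1]
    simpa [mul_assoc] using h2

lemma card_conj_smul (g : G) (B : Subgroup G) :
    Nat.card (MulAut.conj g • B : Subgroup G) = Nat.card B :=
  (Nat.card_congr (Subgroup.equivSMul (MulAut.conj g) B).toEquiv).symm

lemma phi_conj_smul (V : Subgroup G) [V.Normal] (g : G) (B : Subgroup G) :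
    phi V (MulAut.conj g • B) = phi V B := by
  unfold phi
  rw [card_conj_smul, ← conj_smul_centralizer]
  congr 1
  conv_lhs => rw [← Subgroup.Normal.conj_smul_eq_self g V, ← Subgroup.smul_inf]
  exact card_conj_smul g _

/-- sub-multiplicativity of the measure -/
lemma phi_mul_le [Finite G] (V B₁ B₂ : Subgroup G) :
    phi V B₁ * phi V B₂ ≤ phi V (B₁ ⊔ B₂) * phi V (B₁ ⊓ B₂) := by
  unfold phi
  have h1 := Cfsg.Agent.Lib.Helper50.card_mul_card_le_card_inf_mul_card_sup B₁ B₂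
  have h2 := Cfsg.Agent.Lib.Helper50.card_mul_card_le_card_inf_mul_card_sup
    (V ⊓ Subgroup.centralizer (B₁ : Set G)) (V ⊓ Subgroup.centralizer (B₂ : Set G))
  have e1 : (V ⊓ Subgroup.centralizer (B₁ : Set G)) ⊓ (V ⊓ Subgroup.centralizer (B₂ : Set G)) =
      V ⊓ Subgroup.centralizer ((B₁ ⊔ B₂ : Subgroup G) : Set G) := by
    rw [Cfsg.Agent.Lib.Helper50.centralizer_sup]
    ext x
    simp only [Subgroup.mem_inf]
    tauto
  have e2 : (V ⊓ Subgroup.centralizer (B₁ : Set G)) ⊔ (V ⊓ Subgroup.centralizer (B₂ : Set G)) ≤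
      V ⊓ Subgroup.centralizer ((B₁ ⊓ B₂ : Subgroup G) : Set G) := by
    apply sup_le
    · exact inf_le_inf_left _ (Subgroup.centralizer_le (SetLike.coe_subset_coe.mpr inf_le_left))
    · exact inf_le_inf_left _ (Subgroup.centralizer_le (SetLike.coe_subset_coe.mpr inf_le_right))
  rw [e1] at h2
  have h3 := Subgroup.card_le_of_le e2
  calc Nat.card B₁ * Nat.card (V ⊓ Subgroup.centralizer (B₁ : Set G) : Subgroup G) *
        (Nat.card B₂ * Nat.card (V ⊓ Subgroup.centralizer (B₂ : Set G) : Subgroup G))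
      = (Nat.card B₁ * Nat.card B₂) *
        (Nat.card (V ⊓ Subgroup.centralizer (B₁ : Set G) : Subgroup G) *
          Nat.card (V ⊓ Subgroup.centralizer (B₂ : Set G) : Subgroup G)) := by ring
    _ ≤ (Nat.card (B₁ ⊓ B₂ : Subgroup G) * Nat.card (B₁ ⊔ B₂ : Subgroup G)) *
        (Nat.card (V ⊓ Subgroup.centralizer ((B₁ ⊔ B₂ : Subgroup G) : Set G) : Subgroup G) *
          Nat.card (V ⊓ Subgroup.centralizer ((B₁ ⊓ B₂ : Subgroup G) : Set G) : Subgroup G)) := by
        apply Nat.mul_le_mul h1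
        exact h2.trans (Nat.mul_le_mul_left _ h3)
    _ = _ := by ring

lemma phi_pos [Finite G] (V B : Subgroup G) : 0 < phi V B :=
  Nat.mul_pos Nat.card_pos Nat.card_pos

/-- if `Q` centralizes `V` then `C_V(B ⊔ Q) = C_V(B)` -/
lemma inf_centralizer_sup_of_le (V Q B : Subgroup G)
    (hQV : Q ≤ Subgroup.centralizer (V : Set G)) :
    V ⊓ Subgroup.centralizer ((B ⊔ Q : Subgroup G) : Set G) =
      V ⊓ Subgroup.centralizer (B : Set G) := by
  rw [Cfsg.Agent.Lib.Helper50.centralizer_sup]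
  have hVQ : V ≤ Subgroup.centralizer (Q : Set G) := by
    rw [Subgroup.le_centralizer_iff]; exact hQV
  apply le_antisymm
  · exact inf_le_inf_left _ inf_le_left
  · exact le_inf inf_le_left (le_inf inf_le_right (inf_le_left.trans hVQ))

/-- the subgroups between `Q` and `S` -/
def between (Q S : Subgroup G) : Set (Subgroup G) := {B | Q ≤ B ∧ B ≤ S}

lemma mem_between {Q S B : Subgroup G} : B ∈ between Q S ↔ Q ≤ B ∧ B ≤ S := Iff.rfl

/-- a lexicographic maximum of `(phi, card)` on the range -/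
lemma exists_lex_max [Finite G] (V Q S : Subgroup G) (hQS : Q ≤ S) :
    ∃ B₀ ∈ between Q S, (∀ B ∈ between Q S, phi V B ≤ phi V B₀) ∧
      ∀ B ∈ between Q S, phi V B = phi V B₀ → Nat.card B ≤ Nat.card B₀ := by
  obtain ⟨B₀, hB₀, hmax⟩ := Set.exists_max_image (between Q S)
    (fun B => phi V B * (Nat.card G + 1) + Nat.card B)
    (Set.toFinite _) ⟨Q, le_rfl, hQS⟩
  have hcardlt : ∀ B : Subgroup G, Nat.card B < Nat.card G + 1 := fun B =>
    Nat.lt_succ_of_le (Subgroup.card_le_card_group B)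
  refine ⟨B₀, hB₀, ?_, ?_⟩
  · intro B hB
    by_contra hlt
    push Not at hlt
    have h1 : phi V B * (Nat.card G + 1) + Nat.card B ≤
        phi V B₀ * (Nat.card G + 1) + Nat.card B₀ := hmax B hB
    have h2 : (phi V B₀ + 1) * (Nat.card G + 1) ≤ phi V B * (Nat.card G + 1) :=
      Nat.mul_le_mul_right _ hlt
    have h3 := hcardlt B₀
    nlinarith
  · intro B hB he
    have h1 : phi V B * (Nat.card G + 1) + Nat.card B ≤
        phi V B₀ * (Nat.card G + 1) + Nat.card B₀ := hmax B hB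
    rw [he] at h1
    omega

lemma conj_smul_eq_of_mem_normalizer {S : Subgroup G} {g : G}
    (hg : g ∈ Subgroup.normalizer (S : Set G)) : MulAut.conj g • S = S := by
  ext x
  rw [Subgroup.mem_pointwise_smul_iff_inv_smul_mem]
  simp only [MulAut.smul_def, MulAut.conj_inv_apply]
  have h1 := (Subgroup.mem_normalizer_iff.mp (Subgroup.inv_mem _ hg)) x
  simpa using h1.symm

/-- a lexicographic maximum is invariant under `N_G(S)` -/
lemma lex_max_invariant [Finite G] (V Q S : Subgroup G) [V.Normal] [Q.Normal] {B₀ : Subgroup G}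
    (hB₀ : B₀ ∈ between Q S) (hmax1 : ∀ B ∈ between Q S, phi V B ≤ phi V B₀)
    (hmax2 : ∀ B ∈ between Q S, phi V B = phi V B₀ → Nat.card B ≤ Nat.card B₀)
    (g : G) (hg : g ∈ Subgroup.normalizer (S : Set G)) : MulAut.conj g • B₀ = B₀ := by
  have hgS : MulAut.conj g • S = S := conj_smul_eq_of_mem_normalizer hg
  have hgQ : MulAut.conj g • Q = Q := Subgroup.Normal.conj_smul_eq_self g Q
  have hB₀g : MulAut.conj g • B₀ ∈ between Q S := by
    refine ⟨?_, ?_⟩
    · rw [← hgQ]; exact Subgroup.pointwise_smul_le_pointwise_smul_iff.mpr hB₀.1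
    · rw [← hgS]; exact Subgroup.pointwise_smul_le_pointwise_smul_iff.mpr hB₀.2
  have hsup : B₀ ⊔ MulAut.conj g • B₀ ∈ between Q S :=
    ⟨hB₀.1.trans le_sup_left, sup_le hB₀.2 hB₀g.2⟩
  have hinf : B₀ ⊓ MulAut.conj g • B₀ ∈ between Q S :=
    ⟨le_inf hB₀.1 hB₀g.1, inf_le_left.trans hB₀.2⟩
  have hsub := phi_mul_le V B₀ (MulAut.conj g • B₀)
  rw [phi_conj_smul] at hsub
  have h1 := hmax1 _ hsup
  have h2 := hmax1 _ hinf
  have hpos := phi_pos V B₀
  have h3 : phi V (B₀ ⊔ MulAut.conj g • B₀) = phi V B₀ := by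
    by_contra hne
    have hlt : phi V (B₀ ⊔ MulAut.conj g • B₀) < phi V B₀ := lt_of_le_of_ne h1 hne
    have : phi V (B₀ ⊔ MulAut.conj g • B₀) * phi V (B₀ ⊓ MulAut.conj g • B₀) <
        phi V B₀ * phi V B₀ :=
      Nat.mul_lt_mul_of_lt_of_le hlt h2 hpos
    exact absurd hsub (not_le.mpr this)
  have h4 := hmax2 _ hsup h3
  have h5 : B₀ = B₀ ⊔ MulAut.conj g • B₀ :=
    Subgroup.eq_of_le_of_card_ge le_sup_left h4
  have h6 : MulAut.conj g • B₀ ≤ B₀ :=
    le_of_le_of_eq (le_sup_right : MulAut.conj g • B₀ ≤ B₀ ⊔ MulAut.conj g • B₀) h5.symm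
  exact (Subgroup.eq_of_le_of_card_ge h6 (card_conj_smul g B₀).ge)

lemma phi_self_of_le_centralizer (V Q : Subgroup G) (hQV : Q ≤ Subgroup.centralizer (V : Set G)) :
    phi V Q = Nat.card Q * Nat.card V := by
  unfold phi
  have e : V ⊓ Subgroup.centralizer (Q : Set G) = V := by
    apply inf_eq_left.mpr
    rw [Subgroup.le_centralizer_iff]; exact hQV
  rw [e]

lemma phi_le_phi_sup [Finite G] (V Q B : Subgroup G)
    (hQV : Q ≤ Subgroup.centralizer (V : Set G)) : phi V B ≤ phi V (B ⊔ Q) := by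
  unfold phi
  rw [inf_centralizer_sup_of_le V Q B hQV]
  exact Nat.mul_le_mul_right _ (Subgroup.card_le_of_le le_sup_left)

/-- an offender `A` pushes the measure of `A ⊔ Q` above that of `Q` -/
lemma phi_le_phi_sup_of_offender [Finite G] (V Q A : Subgroup G)
    (hQV : Q ≤ Subgroup.centralizer (V : Set G))
    (hoff : Nat.card V * Nat.card (A ⊓ Q : Subgroup G) ≤
      Nat.card A * Nat.card (V ⊓ Subgroup.centralizer (A : Set G) : Subgroup G)) :
    phi V Q ≤ phi V (A ⊔ Q) := by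
  have hphiAQ : phi V (A ⊔ Q) =
      Nat.card (A ⊔ Q : Subgroup G) *
        Nat.card (V ⊓ Subgroup.centralizer (A : Set G) : Subgroup G) := by
    unfold phi
    rw [inf_centralizer_sup_of_le V Q A hQV]
  have h1 := Cfsg.Agent.Lib.Helper50.card_mul_card_le_card_inf_mul_card_sup A Q
  have hipos : 0 < Nat.card (A ⊓ Q : Subgroup G) := Nat.card_pos
  rw [phi_self_of_le_centralizer V Q hQV, hphiAQ]
  apply Nat.le_of_mul_le_mul_left _ hipos
  calc Nat.card (A ⊓ Q : Subgroup G) * (Nat.card Q * Nat.card V)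
      = Nat.card Q * (Nat.card V * Nat.card (A ⊓ Q : Subgroup G)) := by ring
    _ ≤ Nat.card Q * (Nat.card A *
          Nat.card (V ⊓ Subgroup.centralizer (A : Set G) : Subgroup G)) :=
        Nat.mul_le_mul_left _ hoff
    _ = (Nat.card A * Nat.card Q) *
          Nat.card (V ⊓ Subgroup.centralizer (A : Set G) : Subgroup G) := by ring
    _ ≤ (Nat.card (A ⊓ Q : Subgroup G) * Nat.card (A ⊔ Q : Subgroup G)) *
          Nat.card (V ⊓ Subgroup.centralizer (A : Set G) : Subgroup G) :=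
        Nat.mul_le_mul_right _ h1
    _ = _ := by ring

/-- **[BAU-T1]** -/
theorem sylow_best [Finite G] {p q : ℕ} [Fact p.Prime] {S : Sylow p G} {M Q : Subgroup G}
    (h : Ctx p q S M Q) (V : Subgroup G) [V.Normal]
    (hQV : Q ≤ Subgroup.centralizer (V : Set G)) (A : Subgroup G)
    (hAS : A ≤ (S : Subgroup G)) (hAQ : ¬ A ≤ Q)
    (hoff : Nat.card V * Nat.card (A ⊓ Q : Subgroup G) ≤
      Nat.card A * Nat.card (V ⊓ Subgroup.centralizer (A : Set G) : Subgroup G)) :
    ∀ B : Subgroup G, B ≤ (S : Subgroup G) →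
      Nat.card B * Nat.card (V ⊓ Subgroup.centralizer (B : Set G) : Subgroup G) ≤
        Nat.card (S : Subgroup G) *
          Nat.card (V ⊓ Subgroup.centralizer ((S : Subgroup G) : Set G) : Subgroup G) := by
  have hQn : Q.Normal := h.Q_normal
  obtain ⟨B₀, hB₀, hmax1, hmax2⟩ := exists_lex_max V Q (S : Subgroup G) h.Q_le
  have hinv : ∀ g ∈ Subgroup.normalizer ((S : Subgroup G) : Set G), MulAut.conj g • B₀ = B₀ :=
    fun g hg => lex_max_invariant V Q (S : Subgroup G) hB₀ hmax1 hmax2 g hg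
  have hB₀S : B₀ = (S : Subgroup G) := by
    rcases h.irr B₀ hB₀.1 hB₀.2 hinv with hq | hs
    · exfalso
      have hAQmem : A ⊔ Q ∈ between Q (S : Subgroup G) := ⟨le_sup_right, sup_le hAS h.Q_le⟩
      have h2 : phi V Q ≤ phi V (A ⊔ Q) := phi_le_phi_sup_of_offender V Q A hQV hoff
      rw [← hq] at h2
      have h3 : phi V (A ⊔ B₀) = phi V B₀ := le_antisymm (hmax1 _ (hq ▸ hAQmem)) h2
      have h4 := hmax2 _ (hq ▸ hAQmem) h3
      have h5 : B₀ = A ⊔ B₀ := Subgroup.eq_of_le_of_card_ge le_sup_right h4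
      apply hAQ
      rw [← hq, h5]; exact le_sup_left
    · exact hs
  intro B hBS
  have hBQ : B ⊔ Q ∈ between Q (S : Subgroup G) := ⟨le_sup_right, sup_le hBS h.Q_le⟩
  have h1 := hmax1 _ hBQ
  rw [hB₀S] at h1
  exact (phi_le_phi_sup V Q B hQV).trans h1

end Cfsg.Agent.Lib.Helper66.Bau
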