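import Mathlib
import Cfsg.Agent.Lib.Helper48.Bau.Defs
import Cfsg.Agent.Lib.Helper97.Replacement3
import Cfsg.Agent.Lib.Helper66.BauT1

/-!
# S2768-70 (Baumann lemmas), module [BAU-T2] (helper48, board #3812)

In the rank-one pushing-up setting: if `S` is a best offender on the normal elementary abelian
subgroup `V` (centralized by `Q`), then `S` acts quadratically on `V`.
Uses the Timmesfeld replacement theorem (`Helper97.timmesfeld_replacement` = landed S0599).
-/

set_option autoImplicit false

namespace Cfsg.Agent.Lib.Helper66.Bau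

open scoped Pointwise
open Cfsg.Agent.Lib.Helper48.Bau

variable {G : Type*} [Group G]

lemma conj_smul_commutator (g : G) (H K : Subgroup G) :
    MulAut.conj g • ⁅H, K⁆ = ⁅MulAut.conj g • H, MulAut.conj g • K⁆ := by
  rw [Subgroup.pointwise_smul_def, Subgroup.pointwise_smul_def, Subgroup.pointwise_smul_def]
  exact Subgroup.map_commutator H K _

/-- **[BAU-T2]** -/
theorem sylow_quadratic [Finite G] {p q : ℕ} [Fact p.Prime] {S : Sylow p G} {M Q : Subgroup G}
    (h : Ctx p q S M Q) (V : Subgroup G) [V.Normal] (hV : Cfsg.IsElementaryAbelian p V)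
    (hQV : Q ≤ Subgroup.centralizer (V : Set G))
    (hbest : ∀ B : Subgroup G, B ≤ (S : Subgroup G) →
      Nat.card B * Nat.card (V ⊓ Subgroup.centralizer (B : Set G) : Subgroup G) ≤
        Nat.card (S : Subgroup G) *
          Nat.card (V ⊓ Subgroup.centralizer ((S : Subgroup G) : Set G) : Subgroup G)) :
    ⁅V, (S : Subgroup G)⁆ ≤ Subgroup.centralizer ((S : Subgroup G) : Set G) := by
  -- `S` is a best offender on `V`
  have hoffS : Cfsg.IsBestOffenderOn p V (S : Subgroup G) := by
    refine ⟨hbest, h.comm.trans hQV, fun a ha => hQV (h.pow a ha)⟩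
  have hSV : (S : Subgroup G) ≤ Subgroup.normalizer (V : Set G) := by
    rw [Subgroup.normalizer_eq_top]; exact le_top
  obtain ⟨-, -, h3⟩ :=
    Cfsg.Agent.Lib.Helper97.timmesfeld_replacement V (S : Subgroup G) hV hSV hoffS V le_rfl
  -- the replacement subgroup
  have hcomVS : ⁅V, (S : Subgroup G)⁆ ≤ V := Subgroup.commutator_le_left V _
  have hQstar : Q ≤ (S : Subgroup G) ⊓
      Subgroup.centralizer ((⁅V, (S : Subgroup G)⁆ : Subgroup G) : Set G) := by
    refine le_inf h.Q_le (hQV.trans ?_)
    exact Subgroup.centralizer_le (SetLike.coe_subset_coe.mpr hcomVS)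
  have hinv : ∀ g ∈ Subgroup.normalizer ((S : Subgroup G) : Set G),
      MulAut.conj g • ((S : Subgroup G) ⊓
        Subgroup.centralizer ((⁅V, (S : Subgroup G)⁆ : Subgroup G) : Set G)) =
      (S : Subgroup G) ⊓ Subgroup.centralizer ((⁅V, (S : Subgroup G)⁆ : Subgroup G) : Set G) := by
    intro g hg
    have hgS : MulAut.conj g • (S : Subgroup G) = (S : Subgroup G) :=
      conj_smul_eq_of_mem_normalizer hg
    have hgV : MulAut.conj g • V = V := Subgroup.Normal.conj_smul_eq_self g V
    rw [Subgroup.smul_inf, hgS, conj_smul_centralizer, conj_smul_commutator, hgS, hgV]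
  rcases h.irr _ hQstar inf_le_left hinv with hq | hs
  · -- the replacement is `Q`, which centralizes `V`
    have hbot : ⁅V, (S : Subgroup G) ⊓
        Subgroup.centralizer ((⁅V, (S : Subgroup G)⁆ : Subgroup G) : Set G)⁆ = ⊥ := by
      rw [hq, Subgroup.commutator_eq_bot_iff_le_centralizer, Subgroup.le_centralizer_iff]
      exact hQV
    have hVS : ⁅V, (S : Subgroup G)⁆ = ⊥ := by
      by_contra hne
      exact h3 hne hbot
    rw [hVS]; exact bot_le
  · -- `S` centralizes `[V,S]`
    have hS : (S : Subgroup G) ≤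
        Subgroup.centralizer ((⁅V, (S : Subgroup G)⁆ : Subgroup G) : Set G) := by
      have := inf_eq_left.mp hs
      exact this
    rw [Subgroup.le_centralizer_iff]
    exact hS

end Cfsg.Agent.Lib.Helper66.Bau
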