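import Mathlib
import Cfsg.Prelude.Def_Local
import Cfsg.Prelude.Def_Transfer
import Cfsg.Agent.Lib.Helper41.PGV.Defs
import Cfsg.Agent.S0593

/-!
# PGV-[QUAD2-REP] (helper66, for helper41's RED sheet of S3086)

`quad2_rep`: S0593 in representation form.  `p` odd, `ρ` a faithful `F_p`-representation, `x`, `y` quadratic, the Sylow
2-subgroups of `⟨x, y⟩` abelian: then `⟨x, y⟩` is a `p`-group.  Direct proof (no semidirect product): restrict `ρ` to
`H = ⟨x, y⟩`, base-change to a finite field containing the `p'`-part of the order of `x y`, apply `S0592.key` to get a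
homomorphism to `SL₂(K)` whose image is not a `p`-group, and `S0593.sl2_main`.
-/

set_option autoImplicit false

universe v

open scoped TensorProduct

namespace Cfsg.Agent.Lib.Helper66.PgvQuad2

open Cfsg Cfsg.Agent.Lib.Helper10

/-- representation form of `Helper10.exists_hom_sl2` -/
theorem exists_hom_sl2_rep {p : ℕ} [Fact p.Prime] {H : Type*} {V : Type v} [Group H] [Finite H]
    [AddCommGroup V] [Finite V] [Module (ZMod p) V]
    (ρ₀ : Representation (ZMod p) H V) (hfaith : ∀ g : H, ρ₀ g = 1 → g = 1) (x y : H)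
    (hxy : Subgroup.closure {x, y} = ⊤)
    (hqx : ∀ v : V, ρ₀ x (ρ₀ x v - v) = ρ₀ x v - v) (hqy : ∀ v : V, ρ₀ y (ρ₀ y v - v) = ρ₀ y v - v)
    (hnp : ¬ IsPGroup p H) :
    ∃ (K : Type) (_ : Field K) (_ : Fintype K) (_ : CharP K p)
      (φ : H →* Matrix.SpecialLinearGroup (Fin 2) K),
      ¬ IsPGroup p φ.range ∧ x ^ p = 1 ∧ y ^ p = 1 := by
  have hp : p.Prime := Fact.out
  have hxp : x ^ p = 1 := by
    apply hfaith
    rw [map_pow]
    exact S0592.quad_pow_char (K := ZMod p) (p := p) (ρ₀ x) hqx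
  have hyp : y ^ p = 1 := by
    apply hfaith
    rw [map_pow]
    exact S0592.quad_pow_char (K := ZMod p) (p := p) (ρ₀ y) hqy
  have ho : orderOf (x * y) ≠ 0 := (orderOf_pos (x * y)).ne'
  obtain ⟨e', k, hk, hek⟩ := Nat.exists_eq_pow_mul_and_not_dvd ho p hp.ne_one
  have hk0 : k ≠ 0 := by
    rintro rfl
    exact hk (dvd_zero p)
  obtain ⟨f, hf0, hkf⟩ := exists_dvd_pow_sub_one hp hk hk0
  let K := GaloisField p f
  let _ : Fintype K := Fintype.ofFinite K
  have hcard : Fintype.card K = p ^ f := by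
    rw [← Nat.card_eq_fintype_card]; exact GaloisField.card p f hf0
  let ρ : Representation K H (K ⊗[ZMod p] V) :=
    { toFun := fun g => (ρ₀ g).baseChange K
      map_one' := by rw [map_one]; exact LinearMap.baseChange_one _ _
      map_mul' := fun g h => by rw [map_mul]; exact LinearMap.baseChange_mul _ _ }
  have hρK : ∀ g : H, ρ g = (ρ₀ g).baseChange K := fun g => rfl
  have hnp' : ¬ ∀ g : H, ∃ j : ℕ, ρ (g ^ (p ^ j)) = 1 := by
    intro h
    apply hnp
    intro g
    obtain ⟨j, hj⟩ := h g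
    refine ⟨j, hfaith _ ?_⟩
    rw [hρK] at hj
    exact (baseChange_eq_one_iff K _).1 hj
  obtain ⟨φ, hφ⟩ := S0592.key (p := p) x y hxy _ (K ⊗[ZMod p] V) ρ rfl
    (quad_baseChange K (ρ₀ x) hqx) (quad_baseChange K (ρ₀ y) hqy)
    ⟨e', k, by rw [hcard]; exact hkf, by rw [← hek, pow_orderOf_eq_one, map_one]⟩ hnp'
  exact ⟨K, inferInstance, inferInstance, inferInstance, φ, hφ, hxp, hyp⟩

/-- abstract-group form: a finite group `H = ⟨x, y⟩` with a faithful `F_p`-representation in which `x`, `y` are quadratic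
and with abelian Sylow 2-subgroups is a `p`-group (`p` odd). -/
theorem isPGroup_of_quad_pair {p : ℕ} [Fact p.Prime] (hp : p ≠ 2) {H : Type*} {V : Type v} [Group H] [Finite H]
    [AddCommGroup V] [Finite V] [Module (ZMod p) V]
    (ρ₀ : Representation (ZMod p) H V) (hfaith : ∀ g : H, ρ₀ g = 1 → g = 1) (x y : H)
    (hxy : Subgroup.closure {x, y} = ⊤)
    (hqx : ∀ v : V, ρ₀ x (ρ₀ x v - v) = ρ₀ x v - v) (hqy : ∀ v : V, ρ₀ y (ρ₀ y v - v) = ρ₀ y v - v)
    (T : Sylow 2 H) (hT : IsMulCommutative T) : IsPGroup p H := by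
  by_contra hnp
  obtain ⟨K, _, _, _, φ, hφ, hap, hbp⟩ := exists_hom_sl2_rep ρ₀ hfaith x y hxy hqx hqy hnp
  have hsurj : Function.Surjective φ.rangeRestrict := φ.rangeRestrict_surjective
  have hfin : Finite φ.range := Finite.of_surjective _ hsurj
  have hT' : IsMulCommutative (T.mapSurjective hsurj : Subgroup φ.range) := by
    rw [Sylow.coe_mapSurjective]
    infer_instance
  apply hφ
  refine Cfsg.Agent.S0593.sl2_main hp φ.range (φ.rangeRestrict x) (φ.rangeRestrict y) ?_ ?_ ?_
    (T.mapSurjective hsurj) hT'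
  · have h1 := MonoidHom.map_closure φ.rangeRestrict {x, y}
    rw [hxy, Subgroup.map_top_of_surjective _ hsurj, Set.image_pair] at h1
    exact h1.symm
  · rw [← map_pow, hap, map_one]
  · rw [← map_pow, hbp, map_one]

end Cfsg.Agent.Lib.Helper66.PgvQuad2

namespace Cfsg.Agent.Lib.Helper66.PGV

open Cfsg Cfsg.Agent.Lib.Helper41.PGV

variable {p : ℕ} [Fact p.Prime] {G V : Type v} [Group G] [Finite G] [AddCommGroup V] [Finite V] [Module (ZMod p) V]
  {ρ : Representation (ZMod p) G V}

/-- **[QUAD2-REP]** (S0593 in representation form): `p` odd, two quadratic elements generating a group with abelian Sylow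
2-subgroups generate a `p`-group. -/
theorem quad2_rep (hp : p ≠ 2) (hinj : Function.Injective ρ) (x y : G) (hx : (ρ x - 1) * (ρ x - 1) = 0) (hy : (ρ y - 1) * (ρ y - 1) = 0)
    (hS : ∀ T : Sylow 2 (Subgroup.closure ({x, y} : Set G)), IsMulCommutative T) :
    IsPGroup p (Subgroup.closure ({x, y} : Set G)) := by
  set H : Subgroup G := Subgroup.closure ({x, y} : Set G) with hH
  have hxH : x ∈ H := Subgroup.subset_closure (Set.mem_insert _ _)
  have hyH : y ∈ H := Subgroup.subset_closure (Set.mem_insert_of_mem _ (Set.mem_singleton _))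
  let ρ₀ : Representation (ZMod p) H V := ρ.comp H.subtype
  have hρ₀ : ∀ g : H, ρ₀ g = ρ (g : G) := fun g => rfl
  have hfaith : ∀ g : H, ρ₀ g = 1 → g = 1 := by
    intro g hg
    apply Subtype.ext
    apply hinj
    rw [← hρ₀, hg, Subgroup.coe_one, map_one]
  have hquad : ∀ z : G, (ρ z - 1) * (ρ z - 1) = 0 → ∀ v : V, ρ z (ρ z v - v) = ρ z v - v := by
    intro z hz v
    have := congrArg (fun f => f v) hz
    simp only [Module.End.mul_apply, LinearMap.sub_apply, Module.End.one_apply, map_sub,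
      LinearMap.zero_apply] at this
    rw [map_sub]
    exact sub_eq_zero.1 this
  have hxy : Subgroup.closure {(⟨x, hxH⟩ : H), ⟨y, hyH⟩} = ⊤ :=
    Cfsg.Agent.Lib.Helper10.closure_pair_subtype_eq_top H x y rfl hxH hyH
  obtain ⟨T⟩ : Nonempty (Sylow 2 H) := inferInstance
  exact PgvQuad2.isPGroup_of_quad_pair hp ρ₀ hfaith ⟨x, hxH⟩ ⟨y, hyH⟩ hxy
    (fun v => hquad x hx v) (fun v => hquad y hy v) T (hS T)

end Cfsg.Agent.Lib.Helper66.PGV
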