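import Mathlib
import Cfsg.Prelude.Def_KGroupFacts
import Cfsg.Agent.Lib.Helper66.StemDihedral2

set_option autoImplicit false

namespace Cfsg.Agent.Lib.Helper66

/-- Lifts of generators together with the kernel generate. -/
theorem closure_lifts_union_ker {Γ G : Type*} [Group Γ] [Group G] (σ : Γ →* G) (S : Set Γ)
    (hgen : Subgroup.closure (σ '' S) = ⊤) :
    Subgroup.closure (S ∪ (σ.ker : Set Γ)) = ⊤ := by
  rw [eq_top_iff]
  intro g _
  have hg : σ g ∈ Subgroup.map σ (Subgroup.closure S) := by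
    rw [MonoidHom.map_closure, hgen]; trivial
  obtain ⟨h, hh, hhg⟩ := hg
  have hk : g * h⁻¹ ∈ σ.ker := by
    rw [MonoidHom.mem_ker, map_mul, map_inv, hhg]; group
  have : g = (g * h⁻¹) * h := by group
  rw [this]
  apply Subgroup.mul_mem
  · exact Subgroup.subset_closure (Or.inr hk)
  · exact Subgroup.closure_mono Set.subset_union_left hh

theorem zpowers_normal_of_mem_center {Γ : Type*} [Group Γ] (c : Γ) (hc : c ∈ Subgroup.center Γ) :
    (Subgroup.zpowers c).Normal := by
  constructor
  rintro _ ⟨k, rfl⟩ g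
  have : c ^ k ∈ Subgroup.center Γ := Subgroup.zpow_mem _ hc k
  rw [Subgroup.mem_center_iff] at this
  have e : g * c ^ k * g⁻¹ = c ^ k := by rw [this g]; group
  show g * c ^ k * g⁻¹ ∈ Subgroup.zpowers c
  rw [e]; exact ⟨k, rfl⟩

/-- Stem extensions of a commutative group generated by `a, b` with `b ^ n = 1` have cyclic kernel
killed by `n`. -/
theorem stem_abelian_two_gen {Γ G : Type*} [Group Γ] [Group G] (σ : Γ →* G)
    (hσ : Cfsg.IsStemExtension σ) (hG : ∀ x y : G, x * y = y * x) (a b : G)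
    (hgen : Subgroup.closure ({a, b} : Set G) = ⊤) (n : ℕ) (hb : b ^ n = 1) :
    ∃ c : Γ, c ^ n = 1 ∧ σ.ker ≤ Subgroup.zpowers c := by
  obtain ⟨hsurj, hcen, hcomm⟩ := hσ
  obtain ⟨A, rfl⟩ := hsurj a
  obtain ⟨B, rfl⟩ := hsurj b
  set c := A * B * A⁻¹ * B⁻¹ with hc
  have hcker : c ∈ σ.ker := by
    rw [MonoidHom.mem_ker, hc]
    simp only [map_mul, map_inv]
    rw [hG (σ A) (σ B)]; group
  have hccen : c ∈ Subgroup.center Γ := hcen hcker
  have hccen' := hccen
  rw [Subgroup.mem_center_iff] at hccen'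
  haveI := zpowers_normal_of_mem_center c hccen
  have hgen' : Subgroup.closure (({A, B} : Set Γ) ∪ (σ.ker : Set Γ)) = ⊤ := by
    apply closure_lifts_union_ker
    rw [Set.image_pair]; exact hgen
  have hle : commutator Γ ≤ Subgroup.zpowers c := by
    apply commutator_le_of_generators _ _ hgen'
    have hcenk : ∀ s ∈ (σ.ker : Set Γ), ∀ t : Γ, s * t * s⁻¹ * t⁻¹ ∈ Subgroup.zpowers c ∧
        t * s * t⁻¹ * s⁻¹ ∈ Subgroup.zpowers c := by
      intro s hs t
      have := hcen hs
      rw [Subgroup.mem_center_iff] at this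
      constructor
      · have e : s * t * s⁻¹ * t⁻¹ = 1 := by rw [← this t]; group
        rw [e]; exact Subgroup.one_mem _
      · have e : t * s * t⁻¹ * s⁻¹ = 1 := by rw [this t]; group
        rw [e]; exact Subgroup.one_mem _
    have hone : ∀ s : Γ, s * s * s⁻¹ * s⁻¹ ∈ Subgroup.zpowers c := by
      intro s
      have : s * s * s⁻¹ * s⁻¹ = 1 := by group
      rw [this]; exact Subgroup.one_mem _
    rintro s (hs | hs) t (ht | ht)
    · rcases hs with rfl | hs <;> rcases ht with rfl | ht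
      · exact hone _
      · rw [Set.mem_singleton_iff] at ht; subst ht
        exact Subgroup.mem_zpowers _
      · rw [Set.mem_singleton_iff] at hs; subst hs
        have : s * t * s⁻¹ * t⁻¹ = (t * s * t⁻¹ * s⁻¹)⁻¹ := by group
        rw [this]
        exact Subgroup.inv_mem _ (Subgroup.mem_zpowers _)
      · rw [Set.mem_singleton_iff] at hs ht; subst hs; subst ht
        exact hone _
    · exact (hcenk t ht s).2
    · exact (hcenk s hs t).1
    · exact (hcenk s hs t).1
  refine ⟨c, ?_, hcomm.trans hle⟩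
  -- c^n = 1
  have h1 : A * B * A⁻¹ = c * B := by rw [hc]; group
  have hcB : Commute c B := (hccen' B).symm
  have h2 : A * B ^ n * A⁻¹ = c ^ n * B ^ n := by
    have := map_pow (MulAut.conj A) B n
    simp only [MulAut.conj_apply] at this
    rw [this, h1, hcB.mul_pow]
  have hBn : B ^ n ∈ σ.ker := by
    rw [MonoidHom.mem_ker, map_pow, hb]
  have hBn' := hcen hBn
  rw [Subgroup.mem_center_iff] at hBn'
  have h3 : A * B ^ n * A⁻¹ = B ^ n := by rw [hBn' A]; group
  rw [h3] at h2
  exact (mul_eq_right.1 h2.symm)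

/-- Consequently the kernel is a homomorphic image of `ZMod n`. -/
theorem exists_surjective_zmod_of_le_zpowers {Γ : Type*} [Group Γ] (K : Subgroup Γ) (c : Γ) (n : ℕ)
    (hc : c ^ n = 1) (hK : K ≤ Subgroup.zpowers c) :
    ∃ π : Multiplicative (ZMod n) →* K, Function.Surjective π := by
  haveI : IsCyclic K := Subgroup.isCyclic_of_le hK
  apply exists_surjective_zmod_of_isCyclic
  intro h
  obtain ⟨l, hl⟩ := hK h.2
  apply Subtype.ext
  rw [Subgroup.coe_pow, Subgroup.coe_one, ← hl]
  show (c ^ l) ^ n = 1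
  rw [← zpow_natCast, ← zpow_mul, mul_comm, zpow_mul, zpow_natCast, hc, one_zpow]

end Cfsg.Agent.Lib.Helper66
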