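import Cfsg.Agent.Lib.Helper53.SUReg.Act
import Cfsg.Agent.Lib.Helper53.SUReg.Defs2
import Cfsg.Agent.Lib.Helper37.UnitaryGen
import Cfsg.Agent.Lib.Helper23.SU3GHilb

/-!
# S2282-[TOP] (helper66): a subgroup of `SU_n(q)`, `n ≥ 4`, containing all unitary transvections
is everything
-/

set_option autoImplicit false

namespace Cfsg.Agent.Lib.Helper66.SUReg

open Matrix Cfsg.Agent.S0837 Cfsg.Agent.S0781 Cfsg.Agent.S2644 Cfsg.Agent.Lib.Helper53.SUReg

variable {n : ℕ} {F : Type*} [Field F] {σ : F →+* F} {q : ℕ}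

local notation "SLn" => Matrix.SpecialLinearGroup (Fin n) F
local notation "Mn" => Matrix (Fin n) (Fin n) F

theorem eq_top_of_tv [Finite F] (hσq : ∀ x, σ x = x ^ q) (hσ : σ ≠ RingHom.id F)
    (hσ2 : ∀ x, σ (σ x) = x) (hn : 4 ≤ n) (H : Subgroup ↥(Cfsg.SU n F q))
    (hall : ∀ (p : Fin n → F) (t : F), hf σ p p = 0 → tauU σ q p t ∈ H) : H = ⊤ := by
  classical
  rw [eq_top_iff]
  intro g _
  -- the `GL`-element of `g`
  have hdet : (((g : SLn) : Mn)).det = 1 := (g : SLn).2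
  let G : GL (Fin n) F := Matrix.GeneralLinearGroup.mk'' ((g : SLn) : Mn) (by rw [hdet]; exact isUnit_one)
  have hGcoe : (G : Mn) = ((g : SLn) : Mn) := rfl
  have hGU : G ∈ Cfsg.Agent.Lib.Helper37.UG σ n := by
    intro x y
    rw [hGcoe]
    exact su_hf hσq g x y
  have hGT : G ∈ Cfsg.Agent.Lib.Helper37.TG σ n :=
    Cfsg.Agent.Lib.Helper37.su_gen σ hσ hσ2 n (by omega) (by intro h; omega) G hGU (by rw [hGcoe]; exact hdet)
  -- closure induction
  have key : ∀ t : GL (Fin n) F, t ∈ Cfsg.Agent.Lib.Helper37.TG σ n →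
      ∃ h ∈ H, ((h : SLn) : Mn) = (t : Mn) := by
    intro t ht
    unfold Cfsg.Agent.Lib.Helper37.TG at ht
    induction ht using Subgroup.closure_induction with
    | mem t ht =>
      obtain ⟨z, c, hz, hc, htc⟩ := ht
      obtain ⟨x, hx⟩ := Cfsg.Agent.Lib.Helper23.SU3G.exists_sub_eq σ hσ hσ2 c hc
      refine ⟨tauU σ q z x, hall z x hz, ?_⟩
      rw [htc, tauU_eq_siegU, siegU_coe hσq hσ2 hz (hf_zero_left σ z)
        (by rw [hf_zero_left, map_sub, hσ2]; ring), hx]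
      rfl
    | one =>
      exact ⟨1, H.one_mem, by simp⟩
    | mul a b _ _ iha ihb =>
      obtain ⟨ha, haH, hae⟩ := iha
      obtain ⟨hb, hbH, hbe⟩ := ihb
      refine ⟨ha * hb, H.mul_mem haH hbH, ?_⟩
      rw [Subgroup.coe_mul, Matrix.SpecialLinearGroup.coe_mul, hae, hbe, Units.val_mul]
    | inv a _ iha =>
      obtain ⟨ha, haH, hae⟩ := iha
      refine ⟨ha⁻¹, H.inv_mem haH, ?_⟩
      have h1 : (((ha⁻¹ : ↥(Cfsg.SU n F q)) : SLn) : Mn) * (a : Mn) = 1 := by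
        rw [← hae, ← Matrix.SpecialLinearGroup.coe_mul, ← Subgroup.coe_mul, inv_mul_cancel]
        simp
      have h2 : (a : Mn) * ((a⁻¹ : GL (Fin n) F) : Mn) = 1 := by
        rw [← Units.val_mul, mul_inv_cancel]; rfl
      calc (((ha⁻¹ : ↥(Cfsg.SU n F q)) : SLn) : Mn)
          = (((ha⁻¹ : ↥(Cfsg.SU n F q)) : SLn) : Mn) * ((a : Mn) * ((a⁻¹ : GL (Fin n) F) : Mn)) := by
            rw [h2, mul_one]
        _ = ((a⁻¹ : GL (Fin n) F) : Mn) := by rw [← mul_assoc, h1, one_mul]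
  obtain ⟨h, hH, he⟩ := key G hGT
  have : h = g := by
    apply Subtype.ext
    apply Subtype.ext
    rw [he, hGcoe]
  rw [← this]
  exact hH

end Cfsg.Agent.Lib.Helper66.SUReg
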