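import Cfsg.Agent.Lib.Helper53.SUReg.Calc1
import Cfsg.Agent.Lib.Helper53.SUReg.Gram
import Cfsg.Agent.Lib.Helper53.SUReg.Defs2
import Cfsg.Agent.Lib.Helper66.SURegTop

/-!
# S2282-[END] (helper66), `_of` form: assembly of part D with the conclusions of [QXC] (`siegel_mem`)
and [TRANS] (`tv_mem_of_siegel`) as hypotheses
-/

set_option autoImplicit false

namespace Cfsg.Agent.Lib.Helper66.SUReg

open Matrix Cfsg.Agent.S0837 Cfsg.Agent.S0781 Cfsg.Agent.S2644 Cfsg.Agent.Lib.Helper53.SUReg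

variable {n : ℕ} {F : Type*} [Field F] {σ : F →+* F} {q : ℕ}
variable {m : ℕ} {u : ↥(Cfsg.SU n F q)} {a : Fin n → F} {φ : F}

local notation "SLn" => Matrix.SpecialLinearGroup (Fin n) F
local notation "Mn" => Matrix (Fin n) (Fin n) F

theorem eq_top_of_roots_of [Finite F] (hσq : ∀ x, σ x = x ^ q) (hσ : σ ≠ RingHom.id F)
    (hσ2 : ∀ x, σ (σ x) = x)
    (hn : n = 2 * m + 1) (hm : 2 ≤ m) (hφ : φ ≠ 0) (hg : UGood σ q m u a φ)
    (H : Subgroup ↥(Cfsg.SU n F q)) (hu : u ∈ H)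
    (hsieg : ∀ w : Fin n → F, hf σ w a = 0 → InQ σ q H a w)
    (htrans : ∀ (x y : Fin n → F), hf σ x x = 0 → hf σ y y = 0 → hf σ x y ≠ 0 →
      (∀ (w : Fin n → F) (β : F), hf σ w x = 0 → β + σ β + hf σ w w = 0 → siegU σ q x w β ∈ H) →
      (∀ (w : Fin n → F) (β : F), hf σ w y = 0 → β + σ β + hf σ w w = 0 → siegU σ q y w β ∈ H) →
      ∀ (p : Fin n → F) (t : F), hf σ p p = 0 → tauU σ q p t ∈ H) : H = ⊤ := by
  have hm0 : |(0 : ℤ) - 0| < (m : ℤ) := by simp; omega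
  have ha : hf σ a a = 0 := by
    have := gram_zero hσq hσ2 hg 0 0 hm0
    rwa [uvec_zero] at this
  set y : Fin n → F := uvec q u a (m : ℤ) with hy
  have hyy : hf σ y y = 0 := by
    have hmm : |(m : ℤ) - (m : ℤ)| < (m : ℤ) := by simp; omega
    exact gram_zero hσq hσ2 hg m m hmm
  have hay : hf σ a y ≠ 0 := by
    rw [hy, hg.gramm]; exact hφ
  have hQx : ∀ (w : Fin n → F) (β : F), hf σ w a = 0 → β + σ β + hf σ w w = 0 →
      siegU σ q a w β ∈ H := fun w β hw hβ => (hsieg w hw).2 β hβ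
  -- `g = u^m` maps `a` to `y`
  set g : ↥(Cfsg.SU n F q) := u ^ (m : ℤ) with hgdef
  have hgH : g ∈ H := H.zpow_mem hu _
  have hga : ((g : SLn) : Mn) *ᵥ a = y := rfl
  have hQy : ∀ (w : Fin n → F) (β : F), hf σ w y = 0 → β + σ β + hf σ w w = 0 →
      siegU σ q y w β ∈ H := by
    intro w' β hw' hβ
    set w : Fin n → F := (((g⁻¹ : ↥(Cfsg.SU n F q)) : SLn) : Mn) *ᵥ w' with hw
    have hgw : ((g : SLn) : Mn) *ᵥ w = w' := mulVec_inv_mulVec g w'
    have hwa : hf σ w a = 0 := by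
      rw [← su_hf hσq g w a, hgw, hga]; exact hw'
    have hww : hf σ w w = hf σ w' w' := by
      rw [← su_hf hσq g w w, hgw]
    have hmem : siegU σ q a w β ∈ H := hQx w β hwa (by rw [hww]; exact hβ)
    have hconj := conj_siegU hσq hσ2 g ha hwa (by rw [hww]; exact hβ)
    rw [hga, hgw] at hconj
    rw [← hconj]
    exact H.mul_mem (H.mul_mem hgH hmem) (H.inv_mem hgH)
  have hall := htrans a y ha hyy hay hQx hQy
  exact eq_top_of_tv hσq hσ hσ2 (by omega) H hall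

end Cfsg.Agent.Lib.Helper66.SUReg
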