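import Mathlib
import Cfsg.Agent.Lib.Helper23.SU3GHilb

/-!
# S2282-[PARAM] (helper66): the field parameters
-/

set_option autoImplicit false

namespace Cfsg.Agent.Lib.Helper66.SUReg

variable {F : Type*} [Field F] {σ : F →+* F} {q : ℕ} {m : ℕ}

theorem exists_params [Finite F] (hσ : σ ≠ RingHom.id F) (hσ2 : ∀ x, σ (σ x) = x) :
    ∃ ζ : F, σ ζ ≠ ζ ∧ ∀ y : F, σ y = y → y ≠ 0 → ∃ j : ℕ, y = (ζ + σ ζ) ^ j := by
  classical
  -- the group of fixed units
  let K : Subgroup Fˣ :=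
    { carrier := {x | σ (x : F) = x}
      mul_mem' := by
        intro a b ha hb
        simp only [Set.mem_ofPred_eq] at ha hb ⊢
        rw [Units.val_mul, map_mul, ha, hb]
      one_mem' := by simp
      inv_mem' := by
        intro a ha
        simp only [Set.mem_ofPred_eq] at ha ⊢
        rw [Units.val_inv_eq_inv_val, map_inv₀, ha] }
  have hKmem : ∀ x : Fˣ, x ∈ K ↔ σ (x : F) = x := fun x => Iff.rfl
  have hcyc : IsCyclic K := inferInstance
  obtain ⟨θ, hθ⟩ := IsCyclic.exists_monoid_generator (α := K)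
  have hθfix : σ ((θ : Fˣ) : F) = ((θ : Fˣ) : F) := (hKmem _).mp θ.2
  have hθne : ((θ : Fˣ) : F) ≠ 0 := (θ : Fˣ).ne_zero
  -- every fixed non-zero element is a power of θ
  have hpow : ∀ y : F, σ y = y → y ≠ 0 → ∃ j : ℕ, y = ((θ : Fˣ) : F) ^ j := by
    intro y hy hy0
    have hmem : Units.mk0 y hy0 ∈ K := by rw [hKmem]; simpa using hy
    obtain ⟨j, hj⟩ := hθ ⟨Units.mk0 y hy0, hmem⟩
    refine ⟨j, ?_⟩
    have h1 := congrArg (fun z : K => (((z : Fˣ)) : F)) hj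
    simp only [SubmonoidClass.coe_pow, Units.val_pow_eq_pow_val, Units.val_mk0] at h1
    exact h1.symm
  obtain ⟨ζ₀, hζ₀⟩ := Cfsg.Agent.Lib.Helper23.SU3G.exists_trace_eq σ hσ hσ2 _ hθfix
  by_cases hfix : σ ζ₀ = ζ₀
  · -- then 2 ζ₀ = θ, so 2 ≠ 0
    obtain ⟨t, ht⟩ : ∃ t : F, σ t ≠ t := by
      by_contra hcon
      push Not at hcon
      exact hσ (RingHom.ext hcon)
    set δ : F := t - σ t with hδ
    have hδne : δ ≠ 0 := fun h => ht (sub_eq_zero.mp h).symm
    have hσδ : σ δ = -δ := by rw [hδ, map_sub, hσ2]; ring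
    have h2 : (2 : F) ≠ 0 := by
      intro h2
      apply hθne
      rw [← hζ₀, hfix, ← two_mul, h2, zero_mul]
    refine ⟨ζ₀ + δ, ?_, ?_⟩
    · rw [map_add, hfix, hσδ]
      intro h
      have h3 : (2 : F) * δ = 0 := by linear_combination -h
      rcases mul_eq_zero.mp h3 with h4 | h4
      · exact h2 h4
      · exact hδne h4
    · intro y hy hy0
      obtain ⟨j, hj⟩ := hpow y hy hy0
      refine ⟨j, ?_⟩
      rw [hj, map_add, hσδ, ← hζ₀]
      ring
  · refine ⟨ζ₀, hfix, ?_⟩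
    intro y hy hy0
    obtain ⟨j, hj⟩ := hpow y hy hy0
    exact ⟨j, by rw [hj, hζ₀]⟩

end Cfsg.Agent.Lib.Helper66.SUReg
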