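import Mathlib

/-!
# REEW2-[W2-TORI-A] (helper66): structure of the centraliser of an `N`-element

`N` a Hall divisor of `|G|`, `p`-subgroups cyclic for `p ∣ N`, centralisers of elements of prime order dividing `N`
commutative, everything centralising a nontrivial `N`-element is an `N`-element.  Then `C(x)` (for `x ≠ 1`, `x ^ N = 1`)
is cyclic, of order dividing `N`, TI in the sense `C(z) = C(x)` for `1 ≠ z ∈ C(x)`, and contains a full Sylow
`p`-subgroup for every prime `p` dividing its order.
-/

set_option autoImplicit false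

namespace Cfsg.Agent.Lib.Helper66.ReeW2

theorem centralizer_structure {G : Type*} [Group G] [Finite G] (N : ℕ) (hN : N ∣ Nat.card G)
    (hHall : Nat.Coprime N (Nat.card G / N))
    (hcyc : ∀ p : ℕ, p.Prime → p ∣ N → ∀ R : Subgroup G, IsPGroup p ↥R → IsCyclic ↥R)
    (hcomm : ∀ x : G, (orderOf x).Prime → orderOf x ∣ N →
      ∀ y z : G, y * x = x * y → z * x = x * z → y * z = z * y)
    (hord : ∀ x : G, x ≠ 1 → x ^ N = 1 → ∀ c : G, c * x = x * c → c ^ N = 1)
    (x : G) (hx1 : x ≠ 1) (hxN : x ^ N = 1) :
    IsCyclic ↥(Subgroup.centralizer ({x} : Set G)) ∧ Nat.card ↥(Subgroup.centralizer ({x} : Set G)) ∣ N ∧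
    (∀ z ∈ Subgroup.centralizer ({x} : Set G), z ≠ 1 →
      Subgroup.centralizer ({z} : Set G) = Subgroup.centralizer ({x} : Set G)) ∧
    (∀ p : ℕ, p.Prime → p ∣ Nat.card ↥(Subgroup.centralizer ({x} : Set G)) →
      (Nat.card ↥(Subgroup.centralizer ({x} : Set G))).factorization p = N.factorization p) := by
  classical
  have hN0 : N ≠ 0 := by
    rintro rfl
    rw [zero_dvd_iff] at hN
    exact Nat.card_pos.ne' hN
  -- centralisers of nontrivial `N`-elements are commutative
  have hC : ∀ z : G, z ≠ 1 → z ^ N = 1 → ∀ a b : G, a * z = z * a → b * z = z * b → a * b = b * a := by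
    intro z hz1 hzN a b ha hb
    have hoz : orderOf z ≠ 1 := fun h => hz1 (orderOf_eq_one_iff.mp h)
    obtain ⟨p, hp, hpz⟩ := Nat.exists_prime_and_dvd hoz
    have hoz0 : orderOf z ≠ 0 := (orderOf_pos z).ne'
    have hy : orderOf (z ^ (orderOf z / p)) = p := orderOf_pow_orderOf_div hoz0 hpz
    have hpN : p ∣ N := hpz.trans (orderOf_dvd_of_pow_eq_one hzN)
    apply hcomm (z ^ (orderOf z / p)) (by rw [hy]; exact hp) (by rw [hy]; exact hpN) a b
    · exact (Commute.pow_right (show Commute a z from ha) _).eq
    · exact (Commute.pow_right (show Commute b z from hb) _).eq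
  set C := Subgroup.centralizer ({x} : Set G) with hCdef
  have hmem : ∀ c : G, c ∈ C ↔ c * x = x * c := fun c => Subgroup.mem_centralizer_singleton_iff
  have hCN : ∀ c ∈ C, c ^ N = 1 := fun c hc => hord x hx1 hxN c ((hmem c).mp hc)
  -- primes dividing `|C|` divide `N`
  have hprime : ∀ p : ℕ, p.Prime → p ∣ Nat.card ↥C → p ∣ N := by
    intro p hp hpC
    have := Fact.mk hp
    obtain ⟨c, hc⟩ := exists_prime_orderOf_dvd_card' p hpC
    have h1 : (c : G) ^ N = 1 := hCN c c.2
    have h2 : orderOf (c : G) = p := by rw [Subgroup.orderOf_coe]; exact hc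
    rw [← h2]
    exact orderOf_dvd_of_pow_eq_one h1
  have hCcomm : ∀ a b : ↥C, a * b = b * a := by
    intro a b
    apply Subtype.ext
    exact hC x hx1 hxN a b ((hmem a).mp a.2) ((hmem b).mp b.2)
  -- `C` is cyclic
  have hcycC : IsCyclic ↥C := by
    have : IsZGroup ↥C := by
      constructor
      intro p hp P
      by_cases hpN : p ∣ N
      · have hR : IsPGroup p ↥((P : Subgroup ↥C).map C.subtype) := P.isPGroup'.map C.subtype
        have hRc : IsCyclic ↥((P : Subgroup ↥C).map C.subtype) := hcyc p hp hpN _ hR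
        let e := (P : Subgroup ↥C).equivMapOfInjective C.subtype C.subtype_injective
        exact isCyclic_of_surjective e.symm e.symm.surjective
      · have key : ∀ c : ↥(P : Subgroup ↥C), c = 1 := by
          intro c
          obtain ⟨k, hk⟩ := P.isPGroup' c
          have h1 : orderOf c ∣ p ^ k := orderOf_dvd_of_pow_eq_one hk
          have hcN : c ^ N = 1 := by
            apply Subtype.ext
            apply Subtype.ext
            simp only [Subgroup.coe_pow, Subgroup.coe_one]
            exact hCN _ (c : ↥C).2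
          have h2 : orderOf c ∣ N := orderOf_dvd_of_pow_eq_one hcN
          have h3 : Nat.Coprime (p ^ k) N :=
            Nat.Coprime.pow_left k ((Nat.Prime.coprime_iff_not_dvd hp).mpr hpN)
          have h4 := Nat.dvd_gcd h1 h2
          rw [h3.gcd_eq_one] at h4
          exact orderOf_eq_one_iff.mp (Nat.dvd_one.mp h4)
        have : Subsingleton ↥(P : Subgroup ↥C) := ⟨fun a b => by rw [key a, key b]⟩
        infer_instance
    have hnil : Group.IsNilpotent ↥C := by
      let : CommGroup ↥C := { (inferInstance : Group ↥C) with mul_comm := hCcomm }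
      exact CommGroup.isNilpotent
    infer_instance
  -- `|C|` divides `N`
  have hcardG : Nat.card ↥C ∣ N * (Nat.card G / N) := by
    rw [Nat.mul_div_cancel' hN]
    exact Subgroup.card_subgroup_dvd_card C
  have hcop : Nat.Coprime (Nat.card ↥C) (Nat.card G / N) := by
    apply Nat.coprime_of_dvd
    intro p hp hpC hpM
    have h1 := Nat.dvd_gcd (hprime p hp hpC) hpM
    rw [hHall.gcd_eq_one] at h1
    exact hp.one_lt.ne' (Nat.dvd_one.mp h1)
  have hdvd : Nat.card ↥C ∣ N := hcop.dvd_of_dvd_mul_right hcardG
  -- TI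
  have hTI : ∀ z ∈ C, z ≠ 1 → Subgroup.centralizer ({z} : Set G) = C := by
    intro z hz hz1
    have hzN := hCN z hz
    have hzx : z * x = x * z := (hmem z).mp hz
    ext c
    rw [Subgroup.mem_centralizer_singleton_iff, hmem]
    constructor
    · intro hc
      exact hC z hz1 hzN c x hc hzx.symm
    · intro hc
      exact hC x hx1 hxN c z hc hzx
  -- Sylow
  have hfac : ∀ p : ℕ, p.Prime → p ∣ Nat.card ↥C →
      (Nat.card ↥C).factorization p = N.factorization p := by
    intro p hp hpC
    have := Fact.mk hp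
    apply le_antisymm
    · exact (Nat.factorization_le_iff_dvd Nat.card_pos.ne' hN0).mpr hdvd p
    · obtain ⟨c, hc⟩ := exists_prime_orderOf_dvd_card' p hpC
      have hcp : orderOf (c : G) = p := by rw [Subgroup.orderOf_coe]; exact hc
      have hc1 : (c : G) ≠ 1 := by
        intro h
        rw [h, orderOf_one] at hcp
        exact hp.one_lt.ne hcp
      have hpg : IsPGroup p ↥(Subgroup.zpowers (c : G)) :=
        IsPGroup.of_card (n := 1) (by rw [Nat.card_zpowers, hcp, pow_one])
      obtain ⟨P, hP⟩ := hpg.exists_le_sylow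
      have hPcyc : IsCyclic ↥(P : Subgroup G) := hcyc p hp (hprime p hp hpC) _ P.isPGroup'
      have hcP : (c : G) ∈ (P : Subgroup G) := hP (Subgroup.mem_zpowers _)
      have hPle : (P : Subgroup G) ≤ C := by
        rw [← hTI (c : G) c.2 hc1]
        intro g hg
        rw [Subgroup.mem_centralizer_singleton_iff]
        have h := (IsCyclic.isMulCommutative (α := ↥(P : Subgroup G))).is_comm.comm ⟨g, hg⟩ ⟨(c : G), hcP⟩
        exact congrArg Subtype.val h
      have hcard1 : Nat.card ↥(P : Subgroup G) ∣ Nat.card ↥C := Subgroup.card_dvd_of_le hPle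
      rw [Sylow.card_eq_multiplicity] at hcard1
      have h2 : N.factorization p ≤ (Nat.card G).factorization p :=
        (Nat.factorization_le_iff_dvd hN0 Nat.card_pos.ne').mpr hN p
      have h3 : p ^ N.factorization p ∣ Nat.card ↥C := (pow_dvd_pow p h2).trans hcard1
      exact (hp.pow_dvd_iff_le_factorization Nat.card_pos.ne').mp h3
  exact ⟨hcycC, hdvd, hTI, hfac⟩

end Cfsg.Agent.Lib.Helper66.ReeW2
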