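import Mathlib
import Cfsg.Agent.Lib.Helper41.SL2Basic
import Cfsg.Agent.Lib.Helper41.SL2Nonsplit

set_option autoImplicit false

/-!
# REEX-[X-SL2ORD]: powers of semisimple elements of `SL₂(K)` (helper66, for helper61)
-/

namespace Cfsg.Agent.Lib.Helper66.ReeX

open Cfsg.Agent.Lib.Helper41

/-- the split case: closed formula for the powers of a matrix with `M² = (c + c⁻¹) M - 1` -/
theorem split_pow_formula {K : Type*} [Field K] (M : Matrix (Fin 2) (Fin 2) K) (c : K)
    (hc : c ≠ 0) (hM : M * M = (c + c⁻¹) • M - 1) (n : ℕ) :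
    (c - c⁻¹) • M ^ n = (c ^ n - c⁻¹ ^ n) • M - (c ^ n * c⁻¹ - c⁻¹ ^ n * c) • (1 : Matrix (Fin 2) (Fin 2) K) := by
  induction n with
  | zero =>
    simp only [pow_zero, sub_self, zero_smul, one_mul, zero_sub, ← neg_smul, neg_sub]
  | succ n ih =>
    rw [pow_succ, ← Matrix.smul_mul, ih, Matrix.sub_mul, Matrix.smul_mul, Matrix.smul_mul, hM,
      Matrix.one_mul]
    have h1 : c * c⁻¹ = 1 := mul_inv_cancel₀ hc
    have e1 : c ^ (n + 1) - c⁻¹ ^ (n + 1) =
        (c ^ n - c⁻¹ ^ n) * (c + c⁻¹) - (c ^ n * c⁻¹ - c⁻¹ ^ n * c) := by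
      ring
    have e2 : c ^ (n + 1) * c⁻¹ - c⁻¹ ^ (n + 1) * c = c ^ n - c⁻¹ ^ n := by
      rw [pow_succ, pow_succ]
      linear_combination (c ^ n - c⁻¹ ^ n) * h1
    rw [e1, e2, smul_sub, smul_smul, sub_smul (( c ^ n - c⁻¹ ^ n) * (c + c⁻¹))]
    abel

theorem sl2_pow_cases {K : Type*} [Field K] [Fintype K] (h2 : (2 : K) ≠ 0)
    (g : Matrix.SpecialLinearGroup (Fin 2) K)
    (hτ : (Matrix.trace (g : Matrix (Fin 2) (Fin 2) K)) ^ 2 ≠ 4) :
    (g : Matrix (Fin 2) (Fin 2) K) ^ (Fintype.card K - 1) = 1 ∨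
    (g : Matrix (Fin 2) (Fin 2) K) ^ ((Fintype.card K + 1) / 2) = 1 ∨
    (g : Matrix (Fin 2) (Fin 2) K) ^ ((Fintype.card K + 1) / 2) = -1 := by
  classical
  have htr : Matrix.trace (g : Matrix (Fin 2) (Fin 2) K) = tr2 g := by
    rw [Matrix.trace_fin_two]; rfl
  rw [htr] at hτ
  by_cases hroot : ∃ r : K, r ^ 2 = -1 + tr2 g * r
  · -- split case
    left
    obtain ⟨c, hc⟩ := hroot
    have hc0 : c ≠ 0 := by
      rintro rfl
      simp at hc
    have h1 : c * c⁻¹ = 1 := mul_inv_cancel₀ hc0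
    have hsum : tr2 g = c + c⁻¹ := by
      have : c * (tr2 g - (c + c⁻¹)) = 0 := by
        linear_combination -hc - h1
      rcases mul_eq_zero.mp this with h | h
      · exact absurd h hc0
      · exact sub_eq_zero.mp h
    have hd : c - c⁻¹ ≠ 0 := by
      intro h
      apply hτ
      rw [hsum]
      have : c = c⁻¹ := sub_eq_zero.mp h
      linear_combination (c - c⁻¹) * h + 4 * h1
    have hM : (g : Matrix (Fin 2) (Fin 2) K) * (g : Matrix (Fin 2) (Fin 2) K)
        = (c + c⁻¹) • (g : Matrix (Fin 2) (Fin 2) K) - 1 := by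
      rw [cayley_hamilton, hsum]
    have hf := split_pow_formula (g : Matrix (Fin 2) (Fin 2) K) c hc0 hM (Fintype.card K - 1)
    have hp : c ^ (Fintype.card K - 1) = 1 := FiniteField.pow_card_sub_one_eq_one c hc0
    have hp' : c⁻¹ ^ (Fintype.card K - 1) = 1 :=
      FiniteField.pow_card_sub_one_eq_one c⁻¹ (inv_ne_zero hc0)
    rw [hp, hp', sub_self, zero_smul, zero_sub, one_mul, one_mul, ← neg_smul, neg_sub] at hf
    exact smul_right_injective _ hd hf
  · -- non-split case
    right
    push Not at hroot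
    have hq1 := pow_card_add_one_eq_one g hroot
    have hodd : Odd (Fintype.card K) := by
      apply Nat.odd_iff.mpr
      apply FiniteField.odd_card_of_char_ne_two
      intro hch
      apply h2
      have : CharP K 2 := by
        have := ringChar.charP K
        rwa [hch] at this
      exact CharTwo.two_eq_zero
    obtain ⟨m, hm⟩ := hodd
    have hhalf : (Fintype.card K + 1) / 2 * 2 = Fintype.card K + 1 := by omega
    -- `y = g ^ ((q+1)/2)` as an element of `SL₂`
    set y : Matrix.SpecialLinearGroup (Fin 2) K := g ^ ((Fintype.card K + 1) / 2) with hy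
    have hycoe : (y : Matrix (Fin 2) (Fin 2) K)
        = (g : Matrix (Fin 2) (Fin 2) K) ^ ((Fintype.card K + 1) / 2) := by
      rw [hy, Matrix.SpecialLinearGroup.coe_pow]
    have hy2 : (y : Matrix (Fin 2) (Fin 2) K) * (y : Matrix (Fin 2) (Fin 2) K) = 1 := by
      rw [hycoe, ← pow_add, ← two_mul, mul_comm 2, hhalf, hq1]
    rw [← hycoe]
    have hch := cayley_hamilton y
    rw [hy2] at hch
    -- `tr y • y = 2`
    have hty : tr2 y • (y : Matrix (Fin 2) (Fin 2) K) = (2 : K) • (1 : Matrix (Fin 2) (Fin 2) K) := by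
      rw [two_smul]
      rw [eq_sub_iff_add_eq] at hch
      exact hch.symm
    have ht0 : tr2 y ≠ 0 := by
      intro h
      rw [h, zero_smul] at hty
      have := congrFun (congrFun hty 0) 0
      simp at this
      exact h2 this.symm
    have hys : (y : Matrix (Fin 2) (Fin 2) K) = (2 / tr2 y) • (1 : Matrix (Fin 2) (Fin 2) K) := by
      have := congrArg (fun X => (tr2 y)⁻¹ • X) hty
      simp only [smul_smul, inv_mul_cancel₀ ht0, one_smul] at this
      rw [this, div_eq_inv_mul]
    have hs2 : (2 / tr2 y) ^ 2 = 1 := by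
      have := hy2
      rw [hys, Matrix.smul_mul, Matrix.mul_smul, Matrix.one_mul, smul_smul] at this
      have := congrFun (congrFun this 0) 0
      simp only [Matrix.smul_apply, Matrix.one_apply_eq, smul_eq_mul, mul_one] at this
      rw [pow_two]; exact this
    have : (2 / tr2 y - 1) * (2 / tr2 y + 1) = 0 := by linear_combination hs2
    rcases mul_eq_zero.mp this with h | h
    · left
      rw [hys, sub_eq_zero.mp h, one_smul]
    · right
      rw [hys, eq_neg_of_add_eq_zero_left h, neg_smul, one_smul]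

theorem exists_sl2_orderOf_card_add_one {K : Type*} [Field K] [Fintype K] (_h2 : (2 : K) ≠ 0) :
    ∃ g : Matrix.SpecialLinearGroup (Fin 2) K, orderOf g = Fintype.card K + 1 :=
  exists_orderOf_eq_card_add_one

end Cfsg.Agent.Lib.Helper66.ReeX
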