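/-
helper66, project S2751 (helper68, Goldschmidt `|M₁ ∩ M₂| ≤ 2^7`), case (B), `b = 2`.  Module GSB-[B2-CNT]:
`|F_y| ≤ 8` for a β-type vertex `y` adjacent to the α-type vertex `x`, in `_of` form: the other modules of the sheet
([P2a] `Zb_le`, [P2b] `Za_card`, [P2c] `Za_fix_le`, [P3] `Za_le_Qb`, [B2-FQ] `Fb_le_Qa`, [B2-I], [B2-A1], [B2-D]) are hypotheses, stated as
in `Lib/Helper68/AmalBStubs.lean.txt` (with `hB`, `hall` already applied).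
-/
import Mathlib
import Cfsg.Prelude.Def_Amalgam
import Cfsg.Agent.Lib.Helper68.AmalBDefs
import Cfsg.Agent.Lib.Helper68.AmalBTools

set_option autoImplicit false

namespace Cfsg.Agent.Lib.Helper66.AmalB

open Cfsg Cfsg.Agent.Lib.Helper12.Amal Cfsg.Agent.Lib.Helper68.AmalD Cfsg.Agent.Lib.Helper68.AmalW
open Cfsg.Agent.Lib.Helper68.AmalB

variable {G : Type*} [Group G] {P₁ P₂ : Subgroup G}

/-- For `H ≤ K`, `|H| * [K : H] = |K|`. -/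
theorem card_mul_relIndex66 {H K : Subgroup G} (h : H ≤ K) :
    Nat.card H * H.relIndex K = Nat.card K := by
  have h1 := (H.subgroupOf K).card_mul_index
  rwa [Nat.card_congr (Subgroup.subgroupOfEquivOfLe h).toEquiv] at h1

/-- if `M` normalizes `K` then `[MK : K] = [M : M ∩ K]`. -/
theorem relIndex_sup_of_le_normalizer66 {M K : Subgroup G}
    (hMK : M ≤ Subgroup.normalizer (K : Set G)) : K.relIndex (M ⊔ K) = K.relIndex M := by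
  have hK : K ≤ Subgroup.normalizer (K : Set G) := Subgroup.le_normalizer
  have h1 := Subgroup.relIndex_sup_right (M.subgroupOf (Subgroup.normalizer (K : Set G)))
    (K.subgroupOf (Subgroup.normalizer (K : Set G)))
  rw [← Subgroup.subgroupOf_sup hMK hK, Subgroup.relIndex_subgroupOf (sup_le hMK hK),
    Subgroup.relIndex_subgroupOf hMK] at h1
  exact h1

theorem finite_of_le66 {H K : Subgroup G} (h : H ≤ K) [Finite ↥K] : Finite ↥H :=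
  Finite.of_injective (Subgroup.inclusion h) (Subgroup.inclusion_injective _)

theorem Fb_le_Qv (y : CosetVertex P₁ P₂) : Fb y ≤ Qv y := by
  unfold Fb
  exact inf_le_left

theorem Fb_le_cent (y : CosetVertex P₁ P₂) :
    Fb y ≤ Subgroup.centralizer ((Vv y : Subgroup G) : Set G) := by
  unfold Fb
  exact inf_le_right

/-- the two other neighbours of `x` -/
theorem exists_other_two (hW : BaseW P₁ P₂) {x y : CosetVertex P₁ P₂}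
    (hxy : (cosetGraph P₁ P₂).Adj x y) :
    ∃ y₂ y₃ : CosetVertex P₁ P₂, (cosetGraph P₁ P₂).Adj x y₂ ∧ (cosetGraph P₁ P₂).Adj x y₃ ∧
      y ≠ y₂ ∧ y ≠ y₃ ∧ y₂ ≠ y₃ ∧ ∀ l, (cosetGraph P₁ P₂).Adj x l → l = y ∨ l = y₂ ∨ l = y₃ := by
  obtain ⟨a, b, c, hab, hac, hbc, hs⟩ := Set.ncard_eq_three.mp (hW.card_nbr x)
  have hmem : ∀ l, (cosetGraph P₁ P₂).Adj x l ↔ l = a ∨ l = b ∨ l = c := by
    intro l
    rw [← SimpleGraph.mem_neighborSet, hs]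
    simp
  have ha := (hmem a).mpr (Or.inl rfl)
  have hb := (hmem b).mpr (Or.inr (Or.inl rfl))
  have hc := (hmem c).mpr (Or.inr (Or.inr rfl))
  rcases (hmem y).mp hxy with h | h | h
  · rw [h]
    exact ⟨b, c, hb, hc, hab, hac, hbc, fun l hl => (hmem l).mp hl⟩
  · rw [h]
    refine ⟨a, c, ha, hc, hab.symm, hbc, hac, fun l hl => ?_⟩
    rcases (hmem l).mp hl with h' | h' | h'
    · exact Or.inr (Or.inl h')
    · exact Or.inl h'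
    · exact Or.inr (Or.inr h')
  · rw [h]
    refine ⟨a, b, ha, hb, hac.symm, hbc.symm, hab, fun l hl => ?_⟩
    rcases (hmem l).mp hl with h' | h' | h'
    · exact Or.inr (Or.inl h')
    · exact Or.inr (Or.inr h')
    · exact Or.inl h'

/-- **GSB-[B2-CNT]**, `_of` form: `|F_y| ≤ 8`. -/
theorem b2_card_F_le_of (hB : BaseB P₁ P₂)
    (hall : ∀ x y x' : CosetVertex P₁ P₂, ¬ Cfsg.Agent.Lib.Helper68.AmalB.IsB x → (cosetGraph P₁ P₂).Adj x y →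
      (cosetGraph P₁ P₂).Adj y x' → x' ≠ x → ¬ Zv x' ≤ Qv x)
    (hk : ∀ y : CosetVertex P₁ P₂, Cfsg.Agent.Lib.Helper68.AmalB.IsB y → Nat.card ↥(Zv y) = 2)
    (hZb_le : ∀ x y : CosetVertex P₁ P₂, (cosetGraph P₁ P₂).Adj x y → Cfsg.Agent.Lib.Helper68.AmalB.IsB y → Zv y ≤ Zv x)
    (hZa_card : ∀ x l : CosetVertex P₁ P₂, ¬ Cfsg.Agent.Lib.Helper68.AmalB.IsB x → (cosetGraph P₁ P₂).Adj x l →
      Nat.card ↥(Zv x) = Nat.card ↥(Zv l) * Nat.card ↥(Zv l))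
    (hZa_fix_le : ∀ x y : CosetVertex P₁ P₂, (cosetGraph P₁ P₂).Adj x y → Cfsg.Agent.Lib.Helper68.AmalB.IsB y → ∀ t z : G,
      t ∈ Gv x ⊓ Gv y → t ∉ Qv x → z ∈ Zv x → t * z = z * t → z ∈ Zv y)
    (hZa_le_Qb : ∀ x y : CosetVertex P₁ P₂, (cosetGraph P₁ P₂).Adj x y → Cfsg.Agent.Lib.Helper68.AmalB.IsB y → Zv x ≤ Qv y)
    (hFb_le_Qa : ∀ x y : CosetVertex P₁ P₂, ¬ Cfsg.Agent.Lib.Helper68.AmalB.IsB x → (cosetGraph P₁ P₂).Adj x y → Fb y ≤ Qv x)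
    (hI : ∀ x y₁ y₂ y₃ : CosetVertex P₁ P₂, ¬ Cfsg.Agent.Lib.Helper68.AmalB.IsB x → (cosetGraph P₁ P₂).Adj x y₁ →
      (cosetGraph P₁ P₂).Adj x y₂ → (cosetGraph P₁ P₂).Adj x y₃ → y₁ ≠ y₂ → y₁ ≠ y₃ → y₂ ≠ y₃ →
      Fb y₁ ⊓ Fb y₂ ⊓ Fb y₃ = ⊥)
    (hA1 : ∀ x y y₂ y₃ : CosetVertex P₁ P₂, ¬ Cfsg.Agent.Lib.Helper68.AmalB.IsB x → (cosetGraph P₁ P₂).Adj x y →
      (cosetGraph P₁ P₂).Adj x y₂ → (cosetGraph P₁ P₂).Adj x y₃ → y ≠ y₂ → y ≠ y₃ → y₂ ≠ y₃ →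
      Fb y ⊓ Qv y₂ = Fb y ⊓ Qv y₃ ∧ Nat.card ↥(Fb y) ≤ 2 * Nat.card ↥(Fb y ⊓ Qv y₂))
    (hD : ∀ x y₁ y₂ y₃ : CosetVertex P₁ P₂, ¬ Cfsg.Agent.Lib.Helper68.AmalB.IsB x → (cosetGraph P₁ P₂).Adj x y₁ →
      (cosetGraph P₁ P₂).Adj x y₂ → (cosetGraph P₁ P₂).Adj x y₃ → y₁ ≠ y₂ → y₁ ≠ y₃ → y₂ ≠ y₃ →
      ∃ d ∈ Gv x, d • y₁ = y₂ ∧ d • y₂ = y₃ ∧ d • y₃ = y₁ ∧
        ∀ f ∈ F2 x, d * f * d⁻¹ * f⁻¹ ∈ Zv x)
    {x y : CosetVertex P₁ P₂} (hx : ¬ Cfsg.Agent.Lib.Helper68.AmalB.IsB x) (hxy : (cosetGraph P₁ P₂).Adj x y) :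
    Nat.card ↥(Fb y) ≤ 8 := by
  have hW := hB.W
  obtain ⟨y₂, y₃, h₂, h₃, h₁₂, h₁₃, h₂₃, hcov⟩ := exists_other_two hW hxy
  have hBof : ∀ l, (cosetGraph P₁ P₂).Adj x l → Cfsg.Agent.Lib.Helper68.AmalB.IsB l := fun l hl =>
    not_not.mp (fun h => hx ((hB.adj_type x l hl).mpr h))
  have hyB : Cfsg.Agent.Lib.Helper68.AmalB.IsB y := hBof y hxy
  obtain ⟨d, hd, hd1, hd2, -, hdf⟩ := hD x y y₂ y₃ hx hxy h₂ h₃ h₁₂ h₁₃ h₂₃
  obtain ⟨hA1eq, hA1card⟩ := hA1 x y y₂ y₃ hx hxy h₂ h₃ h₁₂ h₁₃ h₂₃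
  have hdx : d • x = x := MulAction.mem_stabilizer_iff.mp hd
  have hfinG : Finite ↥(Gv x) := hW.fin x
  -- `Z_x ≤ F2 x`
  have hZF2 : Zv x ≤ F2 x := by
    intro z hz
    rw [mem_F2]
    exact ⟨hW.Z_le_Q x hz, fun l hl => hZa_le_Qb x l hl (hBof l hl) hz⟩
  have hF2G : F2 x ≤ Gv x := fun g hg => Q_le_G hW x ((mem_F2.mp hg).1)
  -- `A₁`
  obtain ⟨A₁, hA₁⟩ : ∃ A₁ : Subgroup G, A₁ = Fb y ⊓ F2 x := ⟨_, rfl⟩
  have hA₁F2 : A₁ ≤ F2 x := by rw [hA₁]; exact inf_le_right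
  have hA₁Fb : A₁ ≤ Fb y := by rw [hA₁]; exact inf_le_left
  have hA₁Q : A₁ ≤ Qv x := fun g hg => (mem_F2.mp (hA₁F2 hg)).1
  have hfinA₁ : Finite ↥A₁ := finite_of_le66 (hA₁F2.trans hF2G)
  have hle1 : Fb y ⊓ Qv y₂ ≤ A₁ := by
    intro f hf
    rw [hA₁]
    refine Subgroup.mem_inf.mpr ⟨hf.1, ?_⟩
    rw [mem_F2]
    refine ⟨hFb_le_Qa x y hx hxy hf.1, fun l hl => ?_⟩
    rcases hcov l hl with h | h | h
    · rw [h]; exact Fb_le_Qv y hf.1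
    · rw [h]; exact hf.2
    · rw [h]
      have h' : f ∈ Fb y ⊓ Qv y₃ := by rw [← hA1eq]; exact hf
      exact h'.2
  have hcard1 : Nat.card ↥(Fb y) ≤ 2 * Nat.card ↥A₁ :=
    hA1card.trans (Nat.mul_le_mul_left 2 (Subgroup.card_le_of_le hle1))
  -- `A₁ ⊓ Z_x = Z_y`
  have hinf : A₁ ⊓ Zv x = Zv y := by
    apply le_antisymm
    · rintro z ⟨hzA, hzZ⟩
      obtain ⟨x', -, hx', -, hne', -, -, -⟩ := exists_other_two hW hxy.symm
      have hnot := hall x y x' hx hxy hx' (Ne.symm hne')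
      obtain ⟨t, htZ, htQ⟩ := SetLike.not_le_iff_exists.mp hnot
      have htV : t ∈ Vv y := Z_le_Vv hx' htZ
      have htT : t ∈ Gv x ⊓ Gv y := Q_le_T' hW hxy (hZa_le_Qb x' y hx'.symm hyB htZ)
      have hzc := Fb_le_cent y (hA₁Fb hzA)
      have hcomm : t * z = z * t := Subgroup.mem_centralizer_iff.mp hzc t htV
      exact hZa_fix_le x y hxy hyB t z htT htQ hzZ hcomm
    · intro z hz
      have hzx : z ∈ Zv x := hZb_le x y hxy hyB hz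
      refine Subgroup.mem_inf.mpr ⟨?_, hzx⟩
      rw [hA₁]
      refine Subgroup.mem_inf.mpr ⟨?_, hZF2 hzx⟩
      unfold Fb
      refine Subgroup.mem_inf.mpr ⟨hW.Z_le_Q y hz, ?_⟩
      rw [Subgroup.mem_centralizer_iff]
      intro v hv
      have hvG : v ∈ Gv y :=
        (Vv_le (K := Gv y) (fun x' hx' => (hW.Z_le_Q x').trans (Q_le_G_adj hW hx'.symm))) hv
      exact Subgroup.mem_centralizer_iff.mp (hyB hz) v hvG
  -- `[Z_x : Z_y] = 2`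
  have hrelZ : (Zv y).relIndex (Zv x) = 2 := by
    have h1 := card_mul_relIndex66 (hZb_le x y hxy hyB)
    have h2 := hZa_card x y hx hxy
    rw [hk y hyB] at h1 h2
    omega
  -- `A = Z_x A₁`
  obtain ⟨A, hA⟩ : ∃ A : Subgroup G, A = Zv x ⊔ A₁ := ⟨_, rfl⟩
  have hZA : Zv x ≤ A := by rw [hA]; exact le_sup_left
  have hA₁A : A₁ ≤ A := by rw [hA]; exact le_sup_right
  have hnorm : Zv x ≤ Subgroup.normalizer ((A₁ : Subgroup G) : Set G) := by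
    apply le_normalizer_of_forall
    intro z hz a ha
    have hc : a * z = z * a := Q_comm_Z hW (hA₁Q ha) hz
    have e : z * a * z⁻¹ = a := by rw [← hc]; group
    rw [e]
    exact ha
  have hrel1 : A₁.relIndex A = 2 := by
    rw [hA, relIndex_sup_of_le_normalizer66 hnorm, ← Subgroup.inf_relIndex_right, hinf, hrelZ]
  have hcardA : Nat.card ↥A₁ * 2 = Nat.card ↥A := by
    have := card_mul_relIndex66 hA₁A
    rwa [hrel1] at this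
  -- conjugates
  have hconj : ∀ B : Subgroup G, B ≤ F2 x → B ≤ A → B.map (MulAut.conj d).toMonoidHom ≤ A := by
    intro B hBF hBA b' hb'
    rw [mem_map_conj] at hb'
    have hb'eq : b' = (d * (d⁻¹ * b' * d) * d⁻¹ * (d⁻¹ * b' * d)⁻¹) * (d⁻¹ * b' * d) := by group
    rw [hb'eq]
    exact A.mul_mem (hZA (hdf _ (hBF hb'))) (hBA hb')
  obtain ⟨A₂, hA₂⟩ : ∃ A₂ : Subgroup G, A₂ = A₁.map (MulAut.conj d).toMonoidHom := ⟨_, rfl⟩
  obtain ⟨A₃, hA₃⟩ : ∃ A₃ : Subgroup G, A₃ = A₂.map (MulAut.conj d).toMonoidHom := ⟨_, rfl⟩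
  have hA₂eq : A₂ = Fb y₂ ⊓ F2 x := by
    rw [hA₂, hA₁, Subgroup.map_inf _ _ _ (MulAut.conj d).injective, ← Fb_smul hW, ← F2_smul hW, hd1, hdx]
  have hA₃eq : A₃ = Fb y₃ ⊓ F2 x := by
    rw [hA₃, hA₂eq, Subgroup.map_inf _ _ _ (MulAut.conj d).injective, ← Fb_smul hW, ← F2_smul hW, hd2, hdx]
  have hA₂A : A₂ ≤ A := by rw [hA₂]; exact hconj A₁ hA₁F2 hA₁A
  have hA₂F2 : A₂ ≤ F2 x := by rw [hA₂eq]; exact inf_le_right
  have hA₃A : A₃ ≤ A := by rw [hA₃]; exact hconj A₂ hA₂F2 hA₂A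
  have hc2 : Nat.card ↥A₂ = Nat.card ↥A₁ := by
    rw [hA₂]; exact Subgroup.card_map_of_injective (MulAut.conj d).injective
  have hc3 : Nat.card ↥A₃ = Nat.card ↥A₁ := by
    rw [hA₃, Subgroup.card_map_of_injective (MulAut.conj d).injective, hc2]
  have hpos : 0 < Nat.card ↥A₁ := Nat.card_pos
  have hrel2 : A₂.relIndex A = 2 := by
    have h1 := card_mul_relIndex66 hA₂A
    rw [hc2, ← hcardA] at h1
    exact Nat.eq_of_mul_eq_mul_left hpos h1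
  have hrel3 : A₃.relIndex A = 2 := by
    have h1 := card_mul_relIndex66 hA₃A
    rw [hc3, ← hcardA] at h1
    exact Nat.eq_of_mul_eq_mul_left hpos h1
  -- the intersection is trivial
  have hbot : A₁ ⊓ A₂ ⊓ A₃ = ⊥ := by
    rw [eq_bot_iff]
    intro g hg
    have h1 : g ∈ Fb y ⊓ Fb y₂ ⊓ Fb y₃ := by
      refine Subgroup.mem_inf.mpr ⟨Subgroup.mem_inf.mpr ⟨hA₁Fb hg.1.1, ?_⟩, ?_⟩
      · have := hg.1.2
        rw [hA₂eq] at this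
        exact this.1
      · have := hg.2
        rw [hA₃eq] at this
        exact this.1
    rw [hI x y y₂ y₃ hx hxy h₂ h₃ h₁₂ h₁₃ h₂₃] at h1
    exact h1
  have h8 : (A₁ ⊓ A₂ ⊓ A₃).relIndex A ≤ 8 := by
    calc (A₁ ⊓ A₂ ⊓ A₃).relIndex A ≤ (A₁ ⊓ A₂).relIndex A * A₃.relIndex A := Subgroup.relIndex_inf_le
      _ ≤ (A₁.relIndex A * A₂.relIndex A) * A₃.relIndex A :=
          Nat.mul_le_mul_right _ Subgroup.relIndex_inf_le
      _ = 8 := by rw [hrel1, hrel2, hrel3]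
  rw [hbot, Subgroup.relIndex_bot_left] at h8
  omega

end Cfsg.Agent.Lib.Helper66.AmalB
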