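import Mathlib
import Cfsg.Prelude.Def_GeometricClasses
import Cfsg.Agent.Lib.Helper99.AschDefs

/-!
# ASCH-[ARITH] (helper66 hedge, for helper99): the field analysis for the roots of unity of a
symplectic-type group.
-/

set_option autoImplicit false

namespace Cfsg.Agent.Lib.Helper66.AschArith

open Cfsg Cfsg.Geo

variable {F : Type*} [Field F] [Fintype F]

/-- not every element of a field with `p ^ e` elements is fixed by `x ↦ x ^ (p ^ d)`, `0 < d < e` -/
theorem exists_pow_ne {p e d : ℕ} (hp : p.Prime) (hcard : Fintype.card F = p ^ e) (hd : 0 < d)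
    (hde : d < e) : ∃ x : F, x ^ (p ^ d) ≠ x := by
  classical
  by_contra hall
  push Not at hall
  obtain ⟨g, hg⟩ := IsCyclic.exists_generator (α := Fˣ)
  have hord : orderOf g = p ^ e - 1 := by
    rw [orderOf_eq_card_of_forall_mem_zpowers hg, Nat.card_eq_fintype_card, Fintype.card_units, hcard]
  have h1 : (g : F) ^ (p ^ d) = g := hall g
  have hpd : 1 ≤ p ^ d := Nat.one_le_pow _ _ hp.pos
  have h2 : g ^ (p ^ d - 1) = 1 := by
    apply Units.ext
    rw [Units.val_pow_eq_pow_val, Units.val_one]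
    have h3 : (g : F) ^ (p ^ d - 1) * (g : F) = 1 * (g : F) := by
      rw [← pow_succ, Nat.sub_add_cancel hpd, h1, one_mul]
    exact mul_right_cancel₀ g.ne_zero h3
  have h3 : p ^ e - 1 ∣ p ^ d - 1 := by
    rw [← hord]; exact orderOf_dvd_of_pow_eq_one h2
  have h4 : p ^ d < p ^ e := Nat.pow_lt_pow_right hp.one_lt hde
  have h5 : 1 < p ^ d := Nat.one_lt_pow hd.ne' hp.one_lt
  have h6 := Nat.le_of_dvd (by omega) h3
  omega

/-- the iterated Frobenius as a ring automorphism of a finite field -/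
noncomputable def frobIter (p : ℕ) [Fact p.Prime] [CharP F p] (m : ℕ) : F ≃+* F :=
  RingEquiv.ofBijective (iterateFrobenius F p m)
    (Finite.injective_iff_bijective.mp (iterateFrobenius F p m).injective)

theorem frobIter_apply (p : ℕ) [Fact p.Prime] [CharP F p] (m : ℕ) (x : F) :
    frobIter (F := F) p m x = x ^ (p ^ m) := by
  show iterateFrobenius F p m x = _
  rw [iterateFrobenius_def]

/-- a smaller exponent gives a proper subfield containing the roots of unity -/
theorem exists_subfield {p e d z : ℕ} (hp : p.Prime) (hchar : CharP F p)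
    (hcard : Fintype.card F = p ^ e) (hd : 0 < d) (hde : d < e) (hz : z ∣ p ^ d - 1) :
    ∃ F₀ : Subfield F, F₀ ≠ ⊤ ∧ ∀ c : F, c ^ z = 1 → c ∈ F₀ := by
  have : Fact p.Prime := ⟨hp⟩
  refine ⟨RingHom.eqLocusField (iterateFrobenius F p d) (RingHom.id F), ?_, ?_⟩
  · intro htop
    obtain ⟨x, hx⟩ := exists_pow_ne (F := F) hp hcard hd hde
    apply hx
    have : x ∈ RingHom.eqLocusField (iterateFrobenius F p d) (RingHom.id F) := by
      rw [htop]; exact Subfield.mem_top x
    have h2 : iterateFrobenius F p d x = RingHom.id F x := this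
    rwa [iterateFrobenius_def, RingHom.id_apply] at h2
  · intro c hc
    show iterateFrobenius F p d c = RingHom.id F c
    rw [iterateFrobenius_def, RingHom.id_apply]
    have hpd : 1 ≤ p ^ d := Nat.one_le_pow _ _ hp.pos
    obtain ⟨k, hk⟩ := hz
    have h1 : c ^ (p ^ d - 1) = 1 := by rw [hk, pow_mul, hc, one_pow]
    calc c ^ (p ^ d) = c ^ (p ^ d - 1) * c := by rw [← pow_succ, Nat.sub_add_cancel hpd]
      _ = c := by rw [h1, one_mul]

/-- the involution `x ↦ x ^ (p ^ m)` of the field with `p ^ (2 m)` elements -/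
theorem exists_involution {p e m z : ℕ} (hp : p.Prime) (hchar : CharP F p)
    (hcard : Fintype.card F = p ^ e) (hm : 0 < m) (he : e = 2 * m)
    (hz : ∀ c : F, c ^ z = 1 → c ^ (p ^ m + 1) = 1) :
    ∃ σ : F ≃+* F, σ ≠ RingEquiv.refl F ∧ (∀ a, σ (σ a) = a) ∧ ∀ c : F, c ^ z = 1 → σ c * c = 1 := by
  have : Fact p.Prime := ⟨hp⟩
  refine ⟨frobIter p m, ?_, ?_, ?_⟩
  · intro hσ
    obtain ⟨x, hx⟩ := exists_pow_ne (F := F) hp hcard hm (by omega : m < e)
    apply hx
    have := congrArg (fun τ : F ≃+* F => τ x) hσ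
    simpa only [frobIter_apply, RingEquiv.refl_apply] using this
  · intro a
    rw [frobIter_apply, frobIter_apply, ← pow_mul, ← pow_add, ← two_mul, ← he, ← hcard,
      FiniteField.pow_card]
  · intro c hc
    rw [frobIter_apply, ← pow_succ]
    exact hz c hc

end Cfsg.Agent.Lib.Helper66.AschArith

namespace Cfsg.Agent.Lib.Helper99.Asch

open Cfsg Cfsg.Geo Cfsg.Agent.Lib.Helper66.AschArith

variable {F : Type*} [Field F] [Fintype F]

theorem field_cases_odd (r : ℕ) (hr : r.Prime) (_hodd : Odd r) (hdvd : r ∣ Fintype.card F - 1) :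
    (∃ F₀ : Subfield F, F₀ ≠ ⊤ ∧ ∀ c : F, c ^ r = 1 → c ∈ F₀) ∨
    (∃ σ : F ≃+* F, σ ≠ RingEquiv.refl F ∧ (∀ a, σ (σ a) = a) ∧ ∀ c : F, c ^ r = 1 → σ c * c = 1) ∨
    (∃ p e : ℕ, r ≠ p ∧ IsMinimalFieldFor r p e F ∧ Odd e) := by
  classical
  set p := ringChar F with hpdef
  have hchar : CharP F p := ringChar.charP F
  obtain ⟨⟨e, he0⟩, hp, hcard⟩ := FiniteField.card F p
  simp only [PNat.mk_coe] at hcard
  rw [hcard] at hdvd
  by_cases hmin : ∃ d : ℕ, 0 < d ∧ d < e ∧ r ∣ p ^ d - 1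
  · obtain ⟨d, hd, hde, hrd⟩ := hmin
    exact Or.inl (exists_subfield hp hchar hcard hd hde hrd)
  · push Not at hmin
    right
    have hrp : r ≠ p := by
      intro hrp
      rw [hrp] at hdvd
      have h1 : p ∣ p ^ e := dvd_pow_self p he0.ne'
      have h2 : 1 ≤ p ^ e := Nat.one_le_pow _ _ hp.pos
      have h3 : p ∣ p ^ e - (p ^ e - 1) := Nat.dvd_sub h1 hdvd
      rw [Nat.sub_sub_self h2] at h3
      exact hp.one_lt.ne' (Nat.dvd_one.mp h3)
    have hmf : IsMinimalFieldFor r p e F :=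
      ⟨hp, hchar, hcard, hdvd, fun d hd hde => hmin d hd hde⟩
    rcases Nat.even_or_odd e with heven | hodde
    · left
      obtain ⟨m, hm⟩ := heven
      have hm0 : 0 < m := by omega
      have he2 : e = 2 * m := by omega
      apply exists_involution hp hchar hcard hm0 he2
      intro c hc
      -- `r ∣ p ^ m + 1`
      have hfac : p ^ e - 1 = (p ^ m - 1) * (p ^ m + 1) := by
        have h1 : 1 ≤ p ^ m := Nat.one_le_pow _ _ hp.pos
        rw [he2, pow_mul', pow_two]
        zify [h1, Nat.one_le_iff_ne_zero.mpr (Nat.mul_ne_zero (by omega : p ^ m ≠ 0) (by omega : p ^ m ≠ 0))]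
        ring
      rw [hfac] at hdvd
      rcases (Nat.Prime.dvd_mul hr).mp hdvd with h | h
      · exact absurd h (hmin m hm0 (by omega))
      · obtain ⟨k, hk⟩ := h
        rw [hk, pow_mul, hc, one_pow]
    · right
      exact ⟨p, e, hrp, hmf, hodde⟩

theorem field_cases_four (hdvd : 4 ∣ Fintype.card F - 1) :
    (∃ F₀ : Subfield F, F₀ ≠ ⊤ ∧ ∀ c : F, c ^ 4 = 1 → c ∈ F₀) ∨
    (∃ σ : F ≃+* F, σ ≠ RingEquiv.refl F ∧ (∀ a, σ (σ a) = a) ∧ ∀ c : F, c ^ 4 = 1 → σ c * c = 1) ∨
    (∃ p : ℕ, 2 ≠ p ∧ IsMinimalFieldFor 4 p 1 F) := by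
  classical
  set p := ringChar F with hpdef
  have hchar : CharP F p := ringChar.charP F
  obtain ⟨⟨e, he0⟩, hp, hcard⟩ := FiniteField.card F p
  simp only [PNat.mk_coe] at hcard
  rw [hcard] at hdvd
  by_cases hmin : ∃ d : ℕ, 0 < d ∧ d < e ∧ 4 ∣ p ^ d - 1
  · obtain ⟨d, hd, hde, hrd⟩ := hmin
    exact Or.inl (exists_subfield hp hchar hcard hd hde hrd)
  · push Not at hmin
    right
    have h2p : 2 ≠ p := by
      intro h
      rw [← h] at hdvd
      have h1 : 1 ≤ 2 ^ e := Nat.one_le_pow _ _ (by norm_num)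
      have h2 : 2 ∣ 2 ^ e := dvd_pow_self 2 he0.ne'
      have h3 : 2 ∣ 2 ^ e - 1 := dvd_trans (by norm_num) hdvd
      omega
    by_cases he1 : e = 1
    · right
      subst he1
      exact ⟨p, h2p, hp, hchar, hcard, hdvd, fun d hd hd1 => by omega⟩
    · left
      -- `e > 1`, so `4 ∤ p - 1`, hence `p ≡ 3 mod 4`, `4 ∣ p ^ 2 - 1`, `e = 2`
      have he2 : 1 < e := by omega
      have h41 : ¬ 4 ∣ p ^ 1 - 1 := hmin 1 one_pos he2
      rw [pow_one] at h41
      have hpodd : p % 2 = 1 := by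
        rcases hp.eq_two_or_odd with h | h
        · exact absurd h.symm h2p
        · exact h
      have hp3 : p % 4 = 3 := by omega
      have h4sq : 4 ∣ p ^ 2 - 1 := by
        have : p ^ 2 % 4 = 1 := by
          rw [pow_two, Nat.mul_mod, hp3]
        have h1 : 1 ≤ p ^ 2 := Nat.one_le_pow _ _ hp.pos
        omega
      have hee : e = 2 := by
        by_contra hne
        exact hmin 2 (by norm_num) (by omega) h4sq
      apply exists_involution hp hchar hcard one_pos (by omega : e = 2 * 1)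
      intro c hc
      have h4 : 4 ∣ p ^ 1 + 1 := by rw [pow_one]; omega
      obtain ⟨k, hk⟩ := h4
      rw [hk, pow_mul, hc, one_pow]

end Cfsg.Agent.Lib.Helper99.Asch
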