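import Mathlib
import Cfsg.Prelude.Def_GeometricClasses
import Cfsg.Agent.Lib.Helper99.AschDefs
import Cfsg.Agent.Lib.Helper23.AschSpDefs
import Cfsg.Agent.Lib.Helper66.AschSpPerp

/-!
# ASCHSP-[ADJ] (hedge by helper66): the adjoint `adjMat f k = G⁻¹ kᵀ G` for a symplectic form `f`
-/

set_option autoImplicit false

namespace Cfsg.Agent.Lib.Helper23.AschSp

open Cfsg Cfsg.Geo Cfsg.Agent.Lib.Helper99.Asch
open scoped MatrixGroups Matrix Kronecker

variable {n m : ℕ} {F : Type*} [Field F] [Fintype F] {f : (Fin n → F) → (Fin n → F) → F}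

theorem adj_spec (hf : IsSymplecticForm f) (k : Matrix (Fin n) (Fin n) F) (u v : Fin n → F) :
    f (k *ᵥ u) v = f u (adjMat f k *ᵥ v) := by
  have hdet := gram_det_ne_zero hf.bilinear hf.nondegenerate
  have hunit : IsUnit (gramMatrix f).det := isUnit_iff_ne_zero.mpr hdet
  rw [form_eq_gram hf.bilinear, form_eq_gram hf.bilinear]
  unfold adjMat
  rw [Matrix.mulVec_mulVec, ← Matrix.mul_assoc, ← Matrix.mul_assoc,
    Matrix.mul_nonsing_inv _ hunit, Matrix.one_mul, ← Matrix.mulVec_mulVec,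
    Matrix.dotProduct_mulVec u kᵀ, Matrix.vecMul_transpose]

theorem adj_unique (hf : IsSymplecticForm f) (k k' : Matrix (Fin n) (Fin n) F)
    (h : ∀ u v, f (k *ᵥ u) v = f u (k' *ᵥ v)) : k' = adjMat f k := by
  have hv : ∀ v, k' *ᵥ v = adjMat f k *ᵥ v := by
    intro v
    by_contra hne
    have hne' : k' *ᵥ v - adjMat f k *ᵥ v ≠ 0 := sub_ne_zero.mpr hne
    obtain ⟨⟨x, hx⟩, -⟩ := hf.nondegenerate _ hne'
    apply hx
    have h1 : f x (k' *ᵥ v - adjMat f k *ᵥ v) = f x (k' *ᵥ v) - f x (adjMat f k *ᵥ v) := by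
      have h2 := hf.bilinear.add_right x (k' *ᵥ v - adjMat f k *ᵥ v) (adjMat f k *ᵥ v)
      rw [sub_add_cancel] at h2
      rw [h2]; ring
    rw [h1, ← h x v, ← adj_spec hf k x v, sub_self]
  ext i j
  have := congrFun (hv (Pi.single j 1)) i
  simpa [Matrix.mulVec_single_one] using this

theorem adj_adj (hf : IsSymplecticForm f) (k : Matrix (Fin n) (Fin n) F) :
    adjMat f (adjMat f k) = k := by
  refine (adj_unique hf (adjMat f k) k ?_).symm
  intro u v
  rw [hf.skew, ← adj_spec hf k v u, hf.skew, neg_neg]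

theorem adj_mul (hf : IsSymplecticForm f) (k l : Matrix (Fin n) (Fin n) F) :
    adjMat f (k * l) = adjMat f l * adjMat f k := by
  refine (adj_unique hf (k * l) (adjMat f l * adjMat f k) ?_).symm
  intro u v
  rw [← Matrix.mulVec_mulVec, ← Matrix.mulVec_mulVec, adj_spec hf k, adj_spec hf l]

theorem adj_add (k l : Matrix (Fin n) (Fin n) F) : adjMat f (k + l) = adjMat f k + adjMat f l := by
  unfold adjMat
  rw [Matrix.transpose_add, Matrix.mul_add, Matrix.add_mul]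

theorem adj_smul (c : F) (k : Matrix (Fin n) (Fin n) F) : adjMat f (c • k) = c • adjMat f k := by
  unfold adjMat
  rw [Matrix.transpose_smul, Matrix.mul_smul, Matrix.smul_mul]

theorem adj_one (hf : IsSymplecticForm f) : adjMat f (1 : Matrix (Fin n) (Fin n) F) = 1 := by
  refine (adj_unique hf 1 1 ?_).symm
  intro u v
  rw [Matrix.one_mulVec, Matrix.one_mulVec]

theorem adj_of_mem_similarity (hf : IsSymplecticForm f) (g : GL (Fin n) F) (hg : g ∈ similarityGroup f) :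
    ∃ c : F, c ≠ 0 ∧ adjMat f (g : Matrix (Fin n) (Fin n) F) = c • ((g⁻¹ : GL (Fin n) F) : Matrix (Fin n) (Fin n) F) := by
  obtain ⟨c, hc⟩ := hg
  refine ⟨(c : F), c.ne_zero, ?_⟩
  refine (adj_unique hf _ _ ?_).symm
  intro u v
  have h1 := hc u (((g⁻¹ : GL (Fin n) F) : Matrix (Fin n) (Fin n) F) *ᵥ v)
  rw [Matrix.mulVec_mulVec, ← Matrix.GeneralLinearGroup.coe_mul, mul_inv_cancel] at h1
  rw [Matrix.smul_mulVec, hf.bilinear.smul_right, ← h1]
  simp

theorem adj_conj (hf : IsSymplecticForm f) (h : GL (Fin n) F) (hh : h ∈ isoGL f) (k : Matrix (Fin n) (Fin n) F) :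
    adjMat f ((h : Matrix (Fin n) (Fin n) F) * k * ((h⁻¹ : GL (Fin n) F) : Matrix (Fin n) (Fin n) F)) =
      (h : Matrix (Fin n) (Fin n) F) * adjMat f k * ((h⁻¹ : GL (Fin n) F) : Matrix (Fin n) (Fin n) F) := by
  rw [mem_isoGL] at hh
  have hinv : ((h⁻¹ : GL (Fin n) F) : Matrix (Fin n) (Fin n) F) * (h : Matrix (Fin n) (Fin n) F) = 1 := by
    rw [← Matrix.GeneralLinearGroup.coe_mul, inv_mul_cancel]; rfl
  have hinv' : (h : Matrix (Fin n) (Fin n) F) * ((h⁻¹ : GL (Fin n) F) : Matrix (Fin n) (Fin n) F) = 1 := by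
    rw [← Matrix.GeneralLinearGroup.coe_mul, mul_inv_cancel]; rfl
  -- `f (h x) y = f x (h⁻¹ y)`
  have hmove : ∀ x y, f ((h : Matrix (Fin n) (Fin n) F) *ᵥ x) y =
      f x (((h⁻¹ : GL (Fin n) F) : Matrix (Fin n) (Fin n) F) *ᵥ y) := by
    intro x y
    have := hh x (((h⁻¹ : GL (Fin n) F) : Matrix (Fin n) (Fin n) F) *ᵥ y)
    rw [Matrix.mulVec_mulVec, hinv', Matrix.one_mulVec] at this
    exact this
  have hmove' : ∀ x y, f (((h⁻¹ : GL (Fin n) F) : Matrix (Fin n) (Fin n) F) *ᵥ x) y =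
      f x ((h : Matrix (Fin n) (Fin n) F) *ᵥ y) := by
    intro x y
    have := hmove (((h⁻¹ : GL (Fin n) F) : Matrix (Fin n) (Fin n) F) *ᵥ x) y
    rw [Matrix.mulVec_mulVec, hinv', Matrix.one_mulVec] at this
    have h2 := hh (((h⁻¹ : GL (Fin n) F) : Matrix (Fin n) (Fin n) F) *ᵥ x) y
    rw [Matrix.mulVec_mulVec, hinv', Matrix.one_mulVec] at h2
    exact h2.symm
  refine (adj_unique hf _ _ ?_).symm
  intro u v
  rw [← Matrix.mulVec_mulVec, ← Matrix.mulVec_mulVec, hmove, adj_spec hf k, hmove',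
    Matrix.mulVec_mulVec, Matrix.mulVec_mulVec]

end Cfsg.Agent.Lib.Helper23.AschSp
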