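/-
helper66: project B2ISO (helper37, S1083), modules B2ISO-[G-MOVE], [G-TRANS] in `_of` form: the statement of
[G-SIEGEL-MEM] (`TM_eV_mem`) is an explicit hypothesis `SiegelMem F`.  (Adapted from helper6's D4IsoGMove/GTrans.)
-/
import Mathlib
import Cfsg.Agent.Lib.Helper37.B2Iso.Defs
import Cfsg.Agent.Lib.Helper66.B2IsoGSiegel
import Cfsg.Agent.Lib.Helper66.B2IsoGNormal

set_option autoImplicit false

namespace Cfsg.Agent.Lib.Helper66.B2Iso

open Matrix Cfsg.Lie Cfsg.Agent.Lib.Helper37.B2Iso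

section ring
variable {R : Type*} [CommRing R]

theorem eV_self (a : I5) : (eV a : I5 → R) a = 1 := by
  rw [eV_apply, if_pos rfl]

theorem eV_ne (a b : I5) (h : b ≠ a) : (eV a : I5 → R) b = 0 := by
  rw [eV_apply, if_neg h]

theorem isHyp_opp (a : I5) (ha : IsHyp a) : IsHyp (opp a) := by
  rcases a with a | a | a
  · exact absurd rfl ha
  · intro h; cases h
  · intro h; cases h

theorem Qr_smul_eV (β : R) (c : I5) (hc : IsHyp c) : Qr (β • (eV c : I5 → R)) = 0 := by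
  rw [Qr_smul, Qr_eV c hc, mul_zero]

theorem Qr_smul_eV_add_eV (β : R) (c d : I5) (hc : IsHyp c) (hd : IsHyp d) (h : opp d ≠ c) :
    Qr (β • (eV c : I5 → R) + eV d) = 0 := by
  rw [Qr_add, Qr_smul_eV β c hc, Qr_eV d hd, Bf_eV_right _ d hd, Pi.smul_apply, eV_ne c (opp d) h,
    smul_zero, add_zero, add_zero]

end ring

variable {F : Type*} [Field F]

/-- the statement of module [G-SIEGEL-MEM] -/
def SiegelMem (F : Type*) [Field F] : Prop :=
  ∀ (a : I5) (_ : IsHyp a) (w : I5 → F) (_ : Bf (eV a) w = 0) (g : ↥(OG F))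
    (_ : ((g : GL I5 F) : Matrix I5 I5 F) = TM (eV a) w), g ∈ E0 F

theorem h66_exists_TO (u w : I5 → F) (hu : Qr u = 0) (huw : Bf u w = 0) :
    ∃ g : ↥(OG F), ((g : GL I5 F) : Matrix I5 I5 F) = TM u w := by
  have huw' : Bf u (-w) = 0 := by
    have : (-w) = (-1 : F) • w := by simp
    rw [this, Bf_smul_right, huw, mul_zero]
  have h1 : TM u w * TM u (-w) = 1 := by
    rw [TM_mul u w (-w) hu huw huw', add_neg_cancel, TM_zero]
  have h2 : TM u (-w) * TM u w = 1 := by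
    rw [TM_mul u (-w) w hu huw' huw, neg_add_cancel, TM_zero]
  refine ⟨⟨⟨TM u w, TM u (-w), h1, h2⟩, ?_⟩, rfl⟩
  rw [h66_mem_OG_iff]
  intro x
  exact Qr_TM u w hu huw x

/-! ## [G-MOVE] -/
theorem exists_move_of (hSM : SiegelMem F) (a : I5) (ha : IsHyp a) (u u' : I5 → F)
    (hu : Qr u = 0) (hu' : Qr u' = 0)
    (hβ : Bf u (eV a) = Bf u' (eV a)) (hβ0 : Bf u (eV a) ≠ 0) :
    ∃ g : ↥(OG F), g ∈ E0 F ∧ ((g : GL I5 F) : Matrix I5 I5 F) *ᵥ u = u' ∧
      ((g : GL I5 F) : Matrix I5 I5 F) *ᵥ eV a = eV a ∧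
      ∀ x : I5 → F, Bf x (eV a) = 0 → Bf x u = Bf x u' →
        ((g : GL I5 F) : Matrix I5 I5 F) *ᵥ x = x := by
  obtain ⟨β, hβdef⟩ : ∃ β : F, β = Bf u (eV a) := ⟨_, rfl⟩
  rw [← hβdef] at hβ0
  have hβ' : Bf u' (eV a) = β := by rw [← hβ, hβdef]
  obtain ⟨w₀, hw₀⟩ : ∃ w₀ : I5 → F, w₀ = β⁻¹ • (u' - u) := ⟨_, rfl⟩
  have haw : Bf (eV a) w₀ = 0 := by
    rw [Bf_comm, hw₀, Bf_smul_left, Bf_sub_left, hβ', ← hβdef, sub_self, mul_zero]
  obtain ⟨g, hg⟩ := h66_exists_TO (eV a) w₀ (Qr_eV a ha) haw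
  have hβw : β • w₀ = u' - u := by
    rw [hw₀, smul_smul, mul_inv_cancel₀ hβ0, one_smul]
  -- the key identity from `Q(u') = 0`
  have hkey : Bf u w₀ + β * Qr w₀ = 0 := by
    have h1 : u' = u + β • w₀ := by rw [hβw]; abel
    have h2 := hu'
    rw [h1, Qr_add, hu, Qr_smul, Bf_smul_right, zero_add] at h2
    have h3 : β * (Bf u w₀ + β * Qr w₀) = 0 := by
      rw [← h2]; ring
    rcases mul_eq_zero.mp h3 with h | h
    · exact absurd h hβ0
    · exact h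
  refine ⟨g, hSM a ha w₀ haw g hg, ?_, ?_, ?_⟩
  · rw [hg, TM_mulVec, ← hβdef, hβw]
    have h4 : Bf u w₀ • eV a + (Qr w₀ * β) • eV a = (0 : I5 → F) := by
      rw [← add_smul, mul_comm (Qr w₀) β, hkey, zero_smul]
    calc u + (u' - u) - Bf u w₀ • eV a - (Qr w₀ * β) • eV a
        = u' - (Bf u w₀ • eV a + (Qr w₀ * β) • eV a) := by abel
      _ = u' := by rw [h4, sub_zero]
  · rw [hg]
    exact TM_fix (eV a) w₀ (Qr_eV a ha) haw
  · intro x hx0 hxu
    have hxw : Bf x w₀ = 0 := by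
      rw [hw₀, Bf_smul_right, Bf_sub_right, hxu, sub_self, mul_zero]
    rw [hg, TM_mulVec, hx0, hxw]
    simp

/-- one step: `β e_c` can be moved to `e_d` if `c`, `d` are hyperbolic in different pairs -/
theorem exists_step_of (hSM : SiegelMem F) (β : F) (hβ : β ≠ 0) (c d : I5) (hc : IsHyp c)
    (hd : IsHyp d) (hdc : d ≠ c) (hdc' : d ≠ opp c) :
    ∃ g : ↥(OG F), g ∈ E0 F ∧ ((g : GL I5 F) : Matrix I5 I5 F) *ᵥ (β • eV c) = eV d := by
  have hcd : c ≠ d := fun e => hdc e.symm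
  have hoc : IsHyp (opp c) := isHyp_opp c hc
  have hod : IsHyp (opp d) := isHyp_opp d hd
  have hodc : opp d ≠ c := by
    intro h
    apply hdc'
    rw [← h, opp_opp]
  have hB1 : Bf (β • (eV c : I5 → F)) (eV (opp c)) = β := by
    rw [Bf_eV_right _ _ hoc, opp_opp, Pi.smul_apply, eV_self, smul_eq_mul, mul_one]
  have hB2 : Bf (β • (eV c : I5 → F) + eV d) (eV (opp c)) = β := by
    rw [Bf_eV_right _ _ hoc, opp_opp, Pi.add_apply, Pi.smul_apply, eV_self, eV_ne d c hcd, smul_eq_mul,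
      mul_one, add_zero]
  have hB3 : Bf (β • (eV c : I5 → F) + eV d) (eV (opp d)) = 1 := by
    rw [Bf_eV_right _ _ hod, opp_opp, Pi.add_apply, Pi.smul_apply, eV_self, eV_ne c d hdc, smul_zero,
      zero_add]
  have hB4 : Bf (eV d : I5 → F) (eV (opp d)) = 1 := by
    rw [Bf_eV_right _ _ hod, opp_opp, eV_self]
  obtain ⟨g₁, hg₁, hg₁u, -⟩ := exists_move_of hSM (opp c) hoc (β • eV c)
    (β • eV c + eV d) (Qr_smul_eV β c hc) (Qr_smul_eV_add_eV β c d hc hd hodc)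
    (by rw [hB1, hB2]) (by rw [hB1]; exact hβ)
  obtain ⟨g₂, hg₂, hg₂u, -⟩ := exists_move_of hSM (opp d) hod
    (β • eV c + eV d) (eV d) (Qr_smul_eV_add_eV β c d hc hd hodc) (Qr_eV d hd)
    (by rw [hB3, hB4]) (by rw [hB3]; exact one_ne_zero)
  refine ⟨g₂ * g₁, Subgroup.mul_mem _ hg₂ hg₁, ?_⟩
  rw [Subgroup.coe_mul, Units.val_mul, ← mulVec_mulVec, hg₁u, hg₂u]

/-! ## [G-TRANS] -/
theorem exists_trans_of (hSM : SiegelMem F) (u : I5 → F) (hu0 : u ≠ 0) (hu : Qr u = 0) :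
    ∃ g : ↥(OG F), g ∈ E0 F ∧ ((g : GL I5 F) : Matrix I5 I5 F) *ᵥ u = eV (eI 0) := by
  -- some hyperbolic coordinate of `u` is non-zero
  obtain ⟨c, hcH, hc⟩ : ∃ c, IsHyp c ∧ u c ≠ 0 := by
    by_contra hcon
    have hall : ∀ c, IsHyp c → u c = 0 := by
      intro c hcH
      by_contra hc
      exact hcon ⟨c, hcH, hc⟩
    have hz : u zI = 0 := by
      have h1 : Qr u = u zI ^ 2 := by
        unfold Qr
        rw [Fin.sum_univ_two, hall (eI 0) (by intro h; cases h), hall (eI 1) (by intro h; cases h)]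
        ring
      rw [h1] at hu
      exact pow_eq_zero_iff (two_ne_zero) |>.1 hu
    apply hu0
    funext c
    by_cases hcz : c = zI
    · rw [hcz]; exact hz
    · exact hall c hcz
  obtain ⟨β, hβdef⟩ : ∃ β : F, β = u c := ⟨_, rfl⟩
  have hβ : β ≠ 0 := by rw [hβdef]; exact hc
  have hoc : IsHyp (opp c) := isHyp_opp c hcH
  have hB0 : Bf u (eV (opp c)) = β := by
    rw [Bf_eV_right _ _ hoc, opp_opp, hβdef]
  have hB1 : Bf (β • (eV c : I5 → F)) (eV (opp c)) = β := by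
    rw [Bf_eV_right _ _ hoc, opp_opp, Pi.smul_apply, eV_self, smul_eq_mul, mul_one]
  obtain ⟨g₀, hg₀, hg₀u, -⟩ := exists_move_of hSM (opp c) hoc u (β • eV c) hu
    (Qr_smul_eV β c hcH) (by rw [hB0, hB1]) (by rw [hB0]; exact hβ)
  have hH : ∀ i : Fin 2, IsHyp (eI i) ∧ IsHyp (fI i) := fun i =>
    ⟨(by intro h; cases h), (by intro h; cases h)⟩
  -- is `c` in the pair `{e_1, f_1}` (`= {eI 0, fI 0}`)?
  by_cases hci : c = eI 0 ∨ c = fI 0
  · -- go through `eI 1`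
    obtain ⟨g₁, hg₁, hg₁u⟩ := exists_step_of hSM β hβ c (eI 1) hcH (hH 1).1
      (by rcases hci with h | h <;> rw [h] <;> intro e <;> cases e)
      (by rcases hci with h | h <;> rw [h] <;> intro e <;> cases e)
    obtain ⟨g₂, hg₂, hg₂u⟩ := exists_step_of hSM (1 : F) one_ne_zero (eI 1) (eI 0) (hH 1).1 (hH 0).1
      (by intro e; cases e) (by intro e; cases e)
    rw [one_smul] at hg₂u
    refine ⟨g₂ * (g₁ * g₀), Subgroup.mul_mem _ hg₂ (Subgroup.mul_mem _ hg₁ hg₀), ?_⟩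
    rw [Subgroup.coe_mul, Units.val_mul, ← mulVec_mulVec, Subgroup.coe_mul, Units.val_mul,
      ← mulVec_mulVec, hg₀u, hg₁u, hg₂u]
  · have hne : eI 0 ≠ c ∧ eI 0 ≠ opp c := by
      constructor
      · intro e; exact hci (Or.inl e.symm)
      · intro e
        apply hci
        right
        have : opp (eI 0) = c := by rw [e, opp_opp]
        rw [← this]; rfl
    obtain ⟨g₁, hg₁, hg₁u⟩ := exists_step_of hSM β hβ c (eI 0) hcH (hH 0).1 hne.1 hne.2
    refine ⟨g₁ * g₀, Subgroup.mul_mem _ hg₁ hg₀, ?_⟩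
    rw [Subgroup.coe_mul, Units.val_mul, ← mulVec_mulVec, hg₀u, hg₁u]

end Cfsg.Agent.Lib.Helper66.B2Iso
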