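import Mathlib

/-!
# Quotients of B-groups by odd-order normal subgroups: minimal abelian lifts

helper66.  Let `M` be normal of odd order in the finite group `G`, and suppose
(1) an element of `G` whose order is the order of an element of `M` lies in `M`, and
(2) for odd `p` the Sylow `p`-subgroups of `G` are cyclic or of exponent `p`.
A subgroup `A` minimal subject to having a given abelian image in `G ⧸ M` is abelian, and its
order is determined by the order of its image.
-/

set_option autoImplicit false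
set_option linter.style.haveILetI false
set_option linter.unusedSectionVars false

namespace Cfsg.Agent.Lib.Helper66.BGroupQuot

open scoped commutatorElement



section abstract

variable {A : Type*} [Group A]

/-- A subgroup containing the commutator subgroup is normal. -/
theorem normal_of_commutator_le' (N : Subgroup A) (h : commutator A ≤ N) : N.Normal := by
  constructor
  intro n hn g
  have h1 : ⁅g, n⁆ ∈ N := h (by
    rw [commutator_def]
    exact Subgroup.commutator_mem_commutator (Subgroup.mem_top g) (Subgroup.mem_top n))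
  have h2 : g * n * g⁻¹ = ⁅g, n⁆ * n := by
    simp [commutatorElement_def]
  rw [h2]
  exact N.mul_mem h1 hn

variable [Finite A]

/-- If the normal subgroup `K` has no proper supplement and `A/K` is abelian, all Sylow subgroups of
`A` are normal. -/
theorem sylow_normal_of_noSupp (K : Subgroup A) [K.Normal]
    (hK : ∀ H : Subgroup A, H ⊔ K = ⊤ → H = ⊤) (hc : commutator A ≤ K)
    {p : ℕ} [Fact p.Prime] (P : Sylow p A) : (P : Subgroup A).Normal := by
  haveI hN : ((P : Subgroup A) ⊔ K).Normal :=
    normal_of_commutator_le' _ (le_trans hc le_sup_right)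
  have h1 := Sylow.normalizer_sup_eq_top' P (le_sup_left : (P : Subgroup A) ≤ (P : Subgroup A) ⊔ K)
  have h2 : Subgroup.normalizer ((P : Subgroup A) : Set A) ⊔ K = ⊤ := by
    rw [← h1]
    apply le_antisymm
    · exact sup_le le_sup_left (le_trans le_sup_right le_sup_right)
    · exact sup_le le_sup_left (sup_le (le_trans Subgroup.le_normalizer le_sup_left) le_sup_right)
  exact Subgroup.normalizer_eq_top_iff.mp (hK _ h2)

/-- Under the same hypotheses, a Sylow subgroup contained in `K` is trivial. -/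
theorem sylow_eq_bot_of_le (K : Subgroup A) [K.Normal]
    (hK : ∀ H : Subgroup A, H ⊔ K = ⊤ → H = ⊤) (hc : commutator A ≤ K)
    {p : ℕ} [Fact p.Prime] (P : Sylow p A) (hPK : (P : Subgroup A) ≤ K) :
    (P : Subgroup A) = ⊥ := by
  haveI := sylow_normal_of_noSupp K hK hc P
  obtain ⟨H, hH⟩ := Subgroup.exists_right_complement'_of_coprime (P.card_coprime_index)
  have h1 : H ⊔ K = ⊤ := by
    have h0 := hH.sup_eq_top
    apply top_le_iff.mp
    rw [← h0]
    exact sup_le (le_trans hPK le_sup_right) le_sup_left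
  have h2 := hK H h1
  have h3 := hH.disjoint
  rw [h2] at h3
  exact disjoint_top.mp h3

/-- If all Sylow subgroups are normal and commutative, the group is commutative. -/
theorem comm_of_sylow (hn : ∀ (p : ℕ) [Fact p.Prime] (P : Sylow p A), (P : Subgroup A).Normal)
    (hc : ∀ (p : ℕ) [Fact p.Prime] (P : Sylow p A), ∀ x ∈ P, ∀ y ∈ P, x * y = y * x) :
    ∀ x y : A, x * y = y * x := by
  have e := Sylow.directProductOfNormal (G := A) (fun {p} _ P => hn p P)
  have hpi : ∀ f g : (∀ p : (Nat.card A).primeFactors, ∀ P : Sylow p A, (P : Subgroup A)),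
      f * g = g * f := by
    intro f g
    funext p P
    haveI : Fact (p : ℕ).Prime := ⟨Nat.prime_of_mem_primeFactors p.2⟩
    apply Subtype.ext
    simp only [Pi.mul_apply, Subgroup.coe_mul]
    exact hc p P _ (f p P).2 _ (g p P).2
  intro x y
  obtain ⟨f, rfl⟩ := e.surjective x
  obtain ⟨g, rfl⟩ := e.surjective y
  rw [← map_mul, ← map_mul, hpi]

end abstract



section cyclic

/-- In a finite cyclic group, the subgroup of order `n` consists of all solutions of `x ^ n = 1`. -/
theorem mem_of_pow_card_eq_one {C : Type*} [Group C] [Finite C] [IsCyclic C] (H : Subgroup C) (x : C)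
    (hx : x ^ Nat.card H = 1) : x ∈ H := by
  classical
  haveI := Fintype.ofFinite C
  have hn : 0 < Nat.card H := Nat.card_pos
  have h1 := IsCyclic.card_pow_eq_one_le (α := C) hn
  have hTS : (Finset.univ.filter (fun a : C => a ∈ H)) ⊆
      (Finset.univ.filter (fun a : C => a ^ Nat.card H = 1)) := by
    intro a ha
    have ha' : a ∈ H := (Finset.mem_filter.mp ha).2
    refine Finset.mem_filter.mpr ⟨Finset.mem_univ _, ?_⟩
    have h2 : (⟨a, ha'⟩ : H) ^ Nat.card H = 1 := pow_card_eq_one'
    have h3 := congrArg (Subtype.val) h2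
    rwa [Subgroup.coe_pow, Subgroup.coe_one] at h3
  have hTc : (Finset.univ.filter (fun a : C => a ∈ H)).card = Nat.card H := by
    rw [Nat.card_eq_fintype_card, Fintype.card_subtype]
  have h4 := Finset.eq_of_subset_of_card_le hTS (by rw [hTc]; exact h1)
  have hxS : x ∈ (Finset.univ.filter (fun a : C => a ^ Nat.card H = 1)) :=
    Finset.mem_filter.mpr ⟨Finset.mem_univ _, hx⟩
  rw [← h4] at hxS
  exact (Finset.mem_filter.mp hxS).2

/-- In a finite cyclic `p`-group, an element of smaller order is a power of one of larger order. -/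
theorem mem_zpowers_of_orderOf_le {C : Type*} [Group C] [Finite C] [IsCyclic C] {p : ℕ}
    [hp : Fact p.Prime] (hC : IsPGroup p C) (x y : C) (hxy : orderOf x ≤ orderOf y) :
    x ∈ Subgroup.zpowers y := by
  apply mem_of_pow_card_eq_one
  rw [Nat.card_zpowers]
  obtain ⟨a, ha⟩ := (IsPGroup.iff_orderOf.mp hC) x
  obtain ⟨b, hb⟩ := (IsPGroup.iff_orderOf.mp hC) y
  rw [ha, hb] at hxy
  have hab : a ≤ b := (Nat.pow_le_pow_iff_right hp.out.one_lt).mp hxy
  rw [← orderOf_dvd_iff_pow_eq_one, ha, hb]
  exact pow_dvd_pow p hab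

/-- The same inside a cyclic `p`-subgroup of a group. -/
theorem mem_zpowers_of_orderOf_le' {G : Type*} [Group G] [Finite G] {p : ℕ} [Fact p.Prime]
    (P : Subgroup G) [IsCyclic ↥P] (hP : IsPGroup p ↥P) {x y : G} (hx : x ∈ P) (hy : y ∈ P)
    (hxy : orderOf x ≤ orderOf y) : x ∈ Subgroup.zpowers y := by
  have h1 := mem_zpowers_of_orderOf_le hP (⟨x, hx⟩ : ↥P) ⟨y, hy⟩
    (by rwa [Subgroup.orderOf_mk, Subgroup.orderOf_mk])
  obtain ⟨k, hk⟩ := Subgroup.mem_zpowers_iff.mp h1
  refine Subgroup.mem_zpowers_iff.mpr ⟨k, ?_⟩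
  have := congrArg (Subtype.val) hk
  simpa using this

end cyclic

section inG

variable {G : Type*} [Group G] [Finite G]

/-- Key containment: in a group where elements of equal order lie together in or out of `M`, if the
Sylow `p`-subgroup `P` is cyclic or of exponent `p` and `Q ≤ P` is not inside `M`, then
`M ⊓ P ≤ Q`. -/
theorem inf_sylow_le (M : Subgroup G)
    (hstar : ∀ a : G, (∃ m ∈ M, orderOf m = orderOf a) → a ∈ M)
    {p : ℕ} [hp : Fact p.Prime] (P : Sylow p G)
    (hP : IsCyclic ↥(P : Subgroup G) ∨ ∀ x ∈ (P : Subgroup G), x ^ p = 1)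
    (Q : Subgroup G) (hQP : Q ≤ P) (hQM : ¬ Q ≤ M) : M ⊓ (P : Subgroup G) ≤ Q := by
  obtain ⟨a, haQ, haM⟩ := SetLike.not_le_iff_exists.mp hQM
  intro x hx
  obtain ⟨hxM, hxP⟩ := Subgroup.mem_inf.mp hx
  rcases hP with hcyc | hexp
  · rcases le_total (orderOf a) (orderOf x) with h | h
    · exfalso
      have := mem_zpowers_of_orderOf_le' (P : Subgroup G) P.isPGroup' (hQP haQ) hxP h
      exact haM ((Subgroup.zpowers_le.mpr hxM) this)
    · have := mem_zpowers_of_orderOf_le' (P : Subgroup G) P.isPGroup' hxP (hQP haQ) h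
      exact (Subgroup.zpowers_le.mpr haQ) this
  · by_cases hx1 : x = 1
    · rw [hx1]; exact Q.one_mem
    · exfalso
      have hox : orderOf x = p := orderOf_eq_prime (hexp x hxP) hx1
      have ha1 : a ≠ 1 := fun h => haM (h ▸ M.one_mem)
      have hoa : orderOf a = p := orderOf_eq_prime (hexp a (hQP haQ)) ha1
      exact haM (hstar a ⟨x, hxM, by rw [hox, hoa]⟩)

/-- For `M` normal and `P` a Sylow `p`-subgroup of `G`, `M ⊓ P` has order the `p`-part of `|M|`. -/
theorem card_normal_inf_sylow (M : Subgroup G) [M.Normal] {p : ℕ} [Fact p.Prime] (P : Sylow p G) :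
    Nat.card ↥(M ⊓ (P : Subgroup G)) = p ^ (Nat.card ↥M).factorization p := by
  obtain ⟨P₀⟩ : Nonempty (Sylow p ↥M) := inferInstance
  obtain ⟨Q, hQ⟩ := P₀.exists_comap_subtype_eq
  obtain ⟨g, hg⟩ := MulAction.exists_smul_eq G Q P
  have hT : (((MulAut.conjNormal g : MulAut ↥M) • P₀ : Sylow p ↥M) : Subgroup ↥M) =
      (P : Subgroup G).subgroupOf M := by
    ext x
    rw [Sylow.pointwise_smul_def, Subgroup.mem_pointwise_smul_iff_inv_smul_mem,
      Subgroup.mem_subgroupOf, ← hg, Sylow.coe_subgroup_smul,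
      Subgroup.mem_pointwise_smul_iff_inv_smul_mem, ← hQ]
    simp only [Subgroup.mem_comap, Subgroup.coe_subtype]
    have : (((MulAut.conjNormal g : MulAut ↥M)⁻¹ • x : ↥M) : G) = (MulAut.conj g)⁻¹ • (x : G) := by
      rw [← map_inv, MulAut.smul_def, MulAut.smul_def, ← map_inv, MulAut.conjNormal_apply]
      simp
    rw [this]
  have h1 := ((MulAut.conjNormal g : MulAut ↥M) • P₀ : Sylow p ↥M).card_eq_multiplicity
  rw [← h1]
  have h2 : Nat.card ↥(M ⊓ (P : Subgroup G)) = Nat.card ↥((P : Subgroup G).subgroupOf M) := by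
    rw [← Subgroup.inf_subgroupOf_left]
    exact (Nat.card_congr (Subgroup.subgroupOfEquivOfLe
      (inf_le_left : M ⊓ (P : Subgroup G) ≤ M)).toEquiv).symm
  rw [h2]
  exact (Nat.card_congr (MulEquiv.subgroupCongr hT).toEquiv).symm

end inG


section lift

variable {G : Type*} [Group G] [Finite G] (M : Subgroup G) [M.Normal]

/-- `A` is a minimal lift: no proper subgroup `H` of `A` has `A ≤ H ⊔ M`. -/
def IsMinLift (A : Subgroup G) : Prop := ∀ H : Subgroup G, H ≤ A → A ≤ H ⊔ M → H = A

theorem exists_minLift (Abar : Subgroup (G ⧸ M)) :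
    ∃ A : Subgroup G, A.map (QuotientGroup.mk' M) = Abar ∧ IsMinLift M A := by
  classical
  have hex : ∃ n, ∃ A : Subgroup G, A.map (QuotientGroup.mk' M) = Abar ∧ Nat.card A = n :=
    ⟨_, Abar.comap (QuotientGroup.mk' M),
      Subgroup.map_comap_eq_self_of_surjective (QuotientGroup.mk'_surjective M) _, rfl⟩
  obtain ⟨A, hA, hAn⟩ := Nat.find_spec hex
  refine ⟨A, hA, ?_⟩
  intro H hHA hAH
  have hH : H.map (QuotientGroup.mk' M) = Abar := by
    apply le_antisymm
    · rw [← hA]; exact Subgroup.map_mono hHA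
    · rw [← hA]
      have := Subgroup.map_mono (f := QuotientGroup.mk' M) hAH
      rw [Subgroup.map_sup, QuotientGroup.map_mk'_self, sup_bot_eq] at this
      exact this
  have hmin := Nat.find_min' hex ⟨H, hH, rfl⟩
  rw [← hAn] at hmin
  exact Subgroup.eq_of_le_of_card_ge hHA hmin

theorem noSupp_of_minLift {A : Subgroup G} (hA : IsMinLift M A) :
    ∀ H : Subgroup ↥A, H ⊔ M.subgroupOf A = ⊤ → H = ⊤ := by
  intro H hH
  have h1 : H.map A.subtype = A := by
    apply hA _ (Subgroup.map_subtype_le H)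
    intro a ha
    have h2 : (⟨a, ha⟩ : ↥A) ∈ H ⊔ M.subgroupOf A := by rw [hH]; exact Subgroup.mem_top _
    have h3 : a ∈ (H ⊔ M.subgroupOf A).map A.subtype := ⟨⟨a, ha⟩, h2, rfl⟩
    rw [Subgroup.map_sup, Subgroup.subgroupOf_map_subtype] at h3
    exact (sup_le_sup_left (inf_le_left : M ⊓ A ≤ M) (H.map A.subtype)) h3
  apply Subgroup.map_injective A.subtype_injective
  rw [h1, ← MonoidHom.range_eq_map, Subgroup.range_subtype]

omit [Finite G] in
theorem commutator_le_of_map_comm {A : Subgroup G}
    (hc : ∀ x ∈ A.map (QuotientGroup.mk' M), ∀ y ∈ A.map (QuotientGroup.mk' M), x * y = y * x) :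
    commutator ↥A ≤ M.subgroupOf A := by
  rw [commutator_def, Subgroup.commutator_le]
  intro x _ y _
  rw [Subgroup.mem_subgroupOf, ← QuotientGroup.eq_one_iff]
  have h1 := hc _ ⟨x, x.2, rfl⟩ _ ⟨y, y.2, rfl⟩
  have h2 : ((⁅x, y⁆ : ↥A) : G) = ⁅(x : G), (y : G)⁆ := by
    simp [commutatorElement_def]
  rw [h2]
  have h3 : ((⁅(x : G), (y : G)⁆ : G) : G ⧸ M) =
      ⁅QuotientGroup.mk' M (x : G), QuotientGroup.mk' M (y : G)⁆ := by
    simp [commutatorElement_def]
  rw [h3]
  exact commutatorElement_eq_one_iff_mul_comm.mpr h1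

theorem card_eq_card_map_mul (A : Subgroup G) :
    Nat.card ↥A = Nat.card ↥(A.map (QuotientGroup.mk' M)) * Nat.card ↥(M.subgroupOf A) := by
  have h1 := Subgroup.card_eq_card_quotient_mul_card_subgroup
    ((QuotientGroup.mk' M).subgroupMap A).ker
  rw [Nat.card_congr (QuotientGroup.quotientKerEquivOfSurjective _
    ((QuotientGroup.mk' M).subgroupMap_surjective A)).toEquiv] at h1
  rw [Subgroup.ker_subgroupMap, QuotientGroup.ker_mk'] at h1
  exact h1

omit [Finite G] [M.Normal] in
theorem card_subgroupOf_eq (A : Subgroup G) :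
    Nat.card ↥(M.subgroupOf A) = Nat.card ↥(M ⊓ A) := by
  rw [← Subgroup.inf_subgroupOf_right]
  exact Nat.card_congr (Subgroup.subgroupOfEquivOfLe (inf_le_right : M ⊓ A ≤ A)).toEquiv

variable (hstar : ∀ a : G, (∃ m ∈ M, orderOf m = orderOf a) → a ∈ M)
  (hsyl : ∀ (p : ℕ) [Fact p.Prime], p ≠ 2 → ∀ P : Sylow p G,
    IsCyclic ↥(P : Subgroup G) ∨ ∀ x ∈ (P : Subgroup G), x ^ p = 1)
  (hM : Odd (Nat.card ↥M))

include hstar hsyl hM

theorem minLift_comm {A : Subgroup G} (hA : IsMinLift M A)
    (hc : ∀ x ∈ A.map (QuotientGroup.mk' M), ∀ y ∈ A.map (QuotientGroup.mk' M), x * y = y * x) :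
    ∀ x y : ↥A, x * y = y * x := by
  have hK := noSupp_of_minLift M hA
  have hcK := commutator_le_of_map_comm M hc
  apply comm_of_sylow
  · intro p _ P; exact sylow_normal_of_noSupp _ hK hcK P
  · intro p hp P x hx y hy
    by_cases hbot : (P : Subgroup ↥A) ⊓ M.subgroupOf A = ⊥
    · have h1 : ⁅x, y⁆ ∈ (P : Subgroup ↥A) ⊓ M.subgroupOf A := by
        refine Subgroup.mem_inf.mpr ⟨?_, hcK ?_⟩
        · exact (P : Subgroup ↥A).mul_mem ((P : Subgroup ↥A).mul_mem
            ((P : Subgroup ↥A).mul_mem hx hy) ((P : Subgroup ↥A).inv_mem hx))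
            ((P : Subgroup ↥A).inv_mem hy)
        · rw [commutator_def]
          exact Subgroup.commutator_mem_commutator (Subgroup.mem_top _) (Subgroup.mem_top _)
      rw [hbot, Subgroup.mem_bot] at h1
      exact commutatorElement_eq_one_iff_mul_comm.mp h1
    · have hp2 : p ≠ 2 := by
        rintro rfl
        apply hbot
        apply disjoint_iff.mp
        apply Subgroup.disjoint_of_coprime_natCard
        have h1 : Nat.card ↥(M.subgroupOf A) ∣ Nat.card ↥M := by
          rw [card_subgroupOf_eq]; exact Subgroup.card_dvd_of_le inf_le_left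
        have h2 : Nat.Coprime 2 (Nat.card ↥(M.subgroupOf A)) :=
          Nat.Coprime.coprime_dvd_right h1 (Nat.coprime_two_left.mpr hM)
        obtain ⟨k, hk⟩ := (IsPGroup.iff_card.mp P.isPGroup')
        rw [hk]
        exact Nat.Coprime.pow_left k h2
      obtain ⟨PG, hPG⟩ := (P.isPGroup'.map A.subtype).exists_le_sylow
      have hx' : (x : G) ∈ (PG : Subgroup G) := hPG ⟨x, hx, rfl⟩
      have hy' : (y : G) ∈ (PG : Subgroup G) := hPG ⟨y, hy, rfl⟩
      rcases hsyl p hp2 PG with hcyc | hexp
      · have h1 : (⟨x, hx'⟩ : ↥(PG : Subgroup G)) * ⟨y, hy'⟩ = ⟨y, hy'⟩ * ⟨x, hx'⟩ := by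
          letI := IsCyclic.commGroup (α := ↥(PG : Subgroup G))
          exact mul_comm _ _
        apply Subtype.ext
        have h2 := congrArg Subtype.val h1
        simpa using h2
      · exfalso
        apply hbot
        rw [Subgroup.eq_bot_iff_forall]
        intro z hz
        by_contra hz1
        obtain ⟨hzP, hzK⟩ := Subgroup.mem_inf.mp hz
        have hzM : (z : G) ∈ M := Subgroup.mem_subgroupOf.mp hzK
        have hzG1 : (z : G) ≠ 1 := fun h => hz1 (Subtype.ext h)
        have hoz : orderOf (z : G) = p := orderOf_eq_prime (hexp _ (hPG ⟨z, hzP, rfl⟩)) hzG1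
        have hPK : (P : Subgroup ↥A) ≤ M.subgroupOf A := by
          intro w hw
          rw [Subgroup.mem_subgroupOf]
          by_cases hw1 : (w : G) = 1
          · rw [hw1]; exact M.one_mem
          · have how : orderOf (w : G) = p := orderOf_eq_prime (hexp _ (hPG ⟨w, hw, rfl⟩)) hw1
            exact hstar _ ⟨z, hzM, by rw [hoz, how]⟩
        have hPbot := sylow_eq_bot_of_le _ hK hcK P hPK
        rw [hPbot, Subgroup.mem_bot] at hzP
        exact hz1 hzP

theorem minLift_factorization {A : Subgroup G} (hA : IsMinLift M A)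
    (hc : ∀ x ∈ A.map (QuotientGroup.mk' M), ∀ y ∈ A.map (QuotientGroup.mk' M), x * y = y * x)
    (p : ℕ) [hp : Fact p.Prime] :
    (Nat.card ↥A).factorization p =
      (Nat.card ↥(A.map (QuotientGroup.mk' M))).factorization p +
        if (Nat.card ↥(A.map (QuotientGroup.mk' M))).factorization p = 0 then 0
        else (Nat.card ↥M).factorization p := by
  have hK := noSupp_of_minLift M hA
  have hcK := commutator_le_of_map_comm M hc
  have hcard := card_eq_card_map_mul M A
  have hfac : (Nat.card ↥A).factorization p =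
      (Nat.card ↥(A.map (QuotientGroup.mk' M))).factorization p +
        (Nat.card ↥(M.subgroupOf A)).factorization p := by
    rw [hcard, Nat.factorization_mul (Nat.card_pos.ne') (Nat.card_pos.ne')]; rfl
  have hKM : Nat.card ↥(M.subgroupOf A) ∣ Nat.card ↥M := by
    rw [card_subgroupOf_eq]; exact Subgroup.card_dvd_of_le inf_le_left
  have hle : (Nat.card ↥(M.subgroupOf A)).factorization p ≤ (Nat.card ↥M).factorization p :=
    (Nat.factorization_le_iff_dvd (Nat.card_pos.ne') (Nat.card_pos.ne')).mpr hKM p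
  obtain ⟨P⟩ : Nonempty (Sylow p ↥A) := inferInstance
  have hPcard := P.card_eq_multiplicity
  have hPbot : (P : Subgroup ↥A) ≤ M.subgroupOf A → (Nat.card ↥A).factorization p = 0 := by
    intro h
    have h1 := sylow_eq_bot_of_le _ hK hcK P h
    rw [h1, Subgroup.card_bot] at hPcard
    by_contra hne
    have := Nat.one_lt_pow hne hp.out.one_lt
    omega
  rw [hfac]
  congr 1
  split_ifs with h0
  · have hPK : (P : Subgroup ↥A) ≤ M.subgroupOf A := by
      intro x hx
      rw [Subgroup.mem_subgroupOf, ← QuotientGroup.eq_one_iff]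
      have hmem : QuotientGroup.mk' M (x : G) ∈ A.map (QuotientGroup.mk' M) := ⟨x, x.2, rfl⟩
      have h1 : orderOf (QuotientGroup.mk' M (x : G)) ∣ Nat.card ↥(A.map (QuotientGroup.mk' M)) := by
        have := orderOf_dvd_natCard (⟨_, hmem⟩ : ↥(A.map (QuotientGroup.mk' M)))
        rwa [Subgroup.orderOf_mk] at this
      obtain ⟨k, hk⟩ := (IsPGroup.iff_orderOf.mp P.isPGroup') ⟨x, hx⟩
      have h2 : orderOf (QuotientGroup.mk' M (x : G)) ∣ p ^ k := by
        have h3 : orderOf (QuotientGroup.mk' M (x : G)) ∣ orderOf (x : G) := orderOf_map_dvd _ _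
        have h4 : orderOf (x : G) = p ^ k := by
          rw [← hk, Subgroup.orderOf_mk, Subgroup.orderOf_coe]
        rwa [h4] at h3
      obtain ⟨j, _, hj⟩ := (Nat.dvd_prime_pow hp.out).mp h2
      have hj0 : j = 0 := by
        by_contra hj0
        have h5 : p ∣ Nat.card ↥(A.map (QuotientGroup.mk' M)) :=
          (dvd_pow_self p hj0).trans (hj ▸ h1)
        have := hp.out.factorization_pos_of_dvd (Nat.card_pos.ne') h5
        omega
      rw [hj0, pow_zero, orderOf_eq_one_iff] at hj
      exact hj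
    have := hPbot hPK
    rw [hfac] at this
    omega
  · by_cases hp2 : p = 2
    · have : (Nat.card ↥M).factorization p = 0 := by
        subst hp2
        exact Nat.factorization_eq_zero_of_not_dvd hM.not_two_dvd_nat
      omega
    · apply le_antisymm hle
      obtain ⟨PG, hPG⟩ := (P.isPGroup'.map A.subtype).exists_le_sylow
      have hQM : ¬ (P : Subgroup ↥A).map A.subtype ≤ M := by
        intro h
        have hPK : (P : Subgroup ↥A) ≤ M.subgroupOf A :=
          fun x hx => Subgroup.mem_subgroupOf.mpr (h ⟨x, hx, rfl⟩)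
        have := hPbot hPK
        rw [hfac] at this
        omega
      have h1 := inf_sylow_le M hstar PG (hsyl p hp2 PG) _ hPG hQM
      have h2 : M ⊓ (PG : Subgroup G) ≤ M ⊓ A :=
        le_inf inf_le_left (h1.trans (Subgroup.map_subtype_le _))
      have h3 := Subgroup.card_dvd_of_le h2
      rw [card_normal_inf_sylow M PG, ← card_subgroupOf_eq] at h3
      exact (hp.out.pow_dvd_iff_le_factorization (Nat.card_pos.ne')).mp h3

end lift

end Cfsg.Agent.Lib.Helper66.BGroupQuot
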