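import Mathlib
import Cfsg.Agent.Lib.Helper66.BGroupQuot

/-!
# Quotients of B-groups, II

helper66.  The minimal-lift argument of `BGroupQuot` for an arbitrary normal subgroup `M`, when
*every* Sylow subgroup (also for `p = 2`) is cyclic or of exponent `p`; transport of the B-property
along isomorphisms.
-/

set_option autoImplicit false
set_option linter.style.haveILetI false
set_option linter.unusedSectionVars false

namespace Cfsg.Agent.Lib.Helper66.BGroupQuot

open scoped commutatorElement

universe u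

/-- Any two abelian subgroups of the same order are conjugate. -/
def BProp (G : Type u) [Group G] : Prop :=
  ∀ A B : Subgroup G, IsMulCommutative ↥A → IsMulCommutative ↥B → Nat.card ↥A = Nat.card ↥B →
    ∃ g : G, B = A.map (MulAut.conj g).toMonoidHom

section lift2

variable {G : Type u} [Group G] [Finite G] (M : Subgroup G) [M.Normal]

variable (hstar : ∀ a : G, (∃ m ∈ M, orderOf m = orderOf a) → a ∈ M)
  (hsyl : ∀ (p : ℕ) [Fact p.Prime], ∀ P : Sylow p G,
    IsCyclic ↥(P : Subgroup G) ∨ ∀ x ∈ (P : Subgroup G), x ^ p = 1)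

include hstar hsyl

theorem minLift_comm' {A : Subgroup G} (hA : IsMinLift M A)
    (hc : ∀ x ∈ A.map (QuotientGroup.mk' M), ∀ y ∈ A.map (QuotientGroup.mk' M), x * y = y * x) :
    ∀ x y : ↥A, x * y = y * x := by
  have hK := noSupp_of_minLift M hA
  have hcK := commutator_le_of_map_comm M hc
  apply comm_of_sylow
  · intro p _ P; exact sylow_normal_of_noSupp _ hK hcK P
  · intro p hp P x hx y hy
    by_cases hbot : (P : Subgroup ↥A) ⊓ M.subgroupOf A = ⊥
    · have h1 : ⁅x, y⁆ ∈ (P : Subgroup ↥A) ⊓ M.subgroupOf A := by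
        refine Subgroup.mem_inf.mpr ⟨?_, hcK ?_⟩
        · exact (P : Subgroup ↥A).mul_mem ((P : Subgroup ↥A).mul_mem
            ((P : Subgroup ↥A).mul_mem hx hy) ((P : Subgroup ↥A).inv_mem hx))
            ((P : Subgroup ↥A).inv_mem hy)
        · rw [commutator_def]
          exact Subgroup.commutator_mem_commutator (Subgroup.mem_top _) (Subgroup.mem_top _)
      rw [hbot, Subgroup.mem_bot] at h1
      exact commutatorElement_eq_one_iff_mul_comm.mp h1
    · obtain ⟨PG, hPG⟩ := (P.isPGroup'.map A.subtype).exists_le_sylow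
      have hx' : (x : G) ∈ (PG : Subgroup G) := hPG ⟨x, hx, rfl⟩
      have hy' : (y : G) ∈ (PG : Subgroup G) := hPG ⟨y, hy, rfl⟩
      rcases hsyl p PG with hcyc | hexp
      · have h1 : (⟨x, hx'⟩ : ↥(PG : Subgroup G)) * ⟨y, hy'⟩ = ⟨y, hy'⟩ * ⟨x, hx'⟩ := by
          letI := IsCyclic.commGroup (α := ↥(PG : Subgroup G))
          exact mul_comm _ _
        apply Subtype.ext
        have h2 := congrArg Subtype.val h1
        simpa using h2
      · exfalso
        apply hbot
        rw [Subgroup.eq_bot_iff_forall]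
        intro z hz
        by_contra hz1
        obtain ⟨hzP, hzK⟩ := Subgroup.mem_inf.mp hz
        have hzM : (z : G) ∈ M := Subgroup.mem_subgroupOf.mp hzK
        have hzG1 : (z : G) ≠ 1 := fun h => hz1 (Subtype.ext h)
        have hoz : orderOf (z : G) = p := orderOf_eq_prime (hexp _ (hPG ⟨z, hzP, rfl⟩)) hzG1
        have hPK : (P : Subgroup ↥A) ≤ M.subgroupOf A := by
          intro w hw
          rw [Subgroup.mem_subgroupOf]
          by_cases hw1 : (w : G) = 1
          · rw [hw1]; exact M.one_mem
          · have how : orderOf (w : G) = p := orderOf_eq_prime (hexp _ (hPG ⟨w, hw, rfl⟩)) hw1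
            exact hstar _ ⟨z, hzM, by rw [hoz, how]⟩
        have hPbot := sylow_eq_bot_of_le _ hK hcK P hPK
        rw [hPbot, Subgroup.mem_bot] at hzP
        exact hz1 hzP

theorem minLift_factorization' {A : Subgroup G} (hA : IsMinLift M A)
    (hc : ∀ x ∈ A.map (QuotientGroup.mk' M), ∀ y ∈ A.map (QuotientGroup.mk' M), x * y = y * x)
    (p : ℕ) [hp : Fact p.Prime] :
    (Nat.card ↥A).factorization p =
      (Nat.card ↥(A.map (QuotientGroup.mk' M))).factorization p +
        if (Nat.card ↥(A.map (QuotientGroup.mk' M))).factorization p = 0 then 0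
        else (Nat.card ↥M).factorization p := by
  have hK := noSupp_of_minLift M hA
  have hcK := commutator_le_of_map_comm M hc
  have hcard := card_eq_card_map_mul M A
  have hfac : (Nat.card ↥A).factorization p =
      (Nat.card ↥(A.map (QuotientGroup.mk' M))).factorization p +
        (Nat.card ↥(M.subgroupOf A)).factorization p := by
    rw [hcard, Nat.factorization_mul (Nat.card_pos.ne') (Nat.card_pos.ne')]; rfl
  have hKM : Nat.card ↥(M.subgroupOf A) ∣ Nat.card ↥M := by
    rw [card_subgroupOf_eq]; exact Subgroup.card_dvd_of_le inf_le_left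
  have hle : (Nat.card ↥(M.subgroupOf A)).factorization p ≤ (Nat.card ↥M).factorization p :=
    (Nat.factorization_le_iff_dvd (Nat.card_pos.ne') (Nat.card_pos.ne')).mpr hKM p
  obtain ⟨P⟩ : Nonempty (Sylow p ↥A) := inferInstance
  have hPcard := P.card_eq_multiplicity
  have hPbot : (P : Subgroup ↥A) ≤ M.subgroupOf A → (Nat.card ↥A).factorization p = 0 := by
    intro h
    have h1 := sylow_eq_bot_of_le _ hK hcK P h
    rw [h1, Subgroup.card_bot] at hPcard
    by_contra hne
    have := Nat.one_lt_pow hne hp.out.one_lt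
    omega
  rw [hfac]
  congr 1
  split_ifs with h0
  · have hPK : (P : Subgroup ↥A) ≤ M.subgroupOf A := by
      intro x hx
      rw [Subgroup.mem_subgroupOf, ← QuotientGroup.eq_one_iff]
      have hmem : QuotientGroup.mk' M (x : G) ∈ A.map (QuotientGroup.mk' M) := ⟨x, x.2, rfl⟩
      have h1 : orderOf (QuotientGroup.mk' M (x : G)) ∣ Nat.card ↥(A.map (QuotientGroup.mk' M)) := by
        have := orderOf_dvd_natCard (⟨_, hmem⟩ : ↥(A.map (QuotientGroup.mk' M)))
        rwa [Subgroup.orderOf_mk] at this
      obtain ⟨k, hk⟩ := (IsPGroup.iff_orderOf.mp P.isPGroup') ⟨x, hx⟩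
      have h2 : orderOf (QuotientGroup.mk' M (x : G)) ∣ p ^ k := by
        have h3 : orderOf (QuotientGroup.mk' M (x : G)) ∣ orderOf (x : G) := orderOf_map_dvd _ _
        have h4 : orderOf (x : G) = p ^ k := by
          rw [← hk, Subgroup.orderOf_mk, Subgroup.orderOf_coe]
        rwa [h4] at h3
      obtain ⟨j, _, hj⟩ := (Nat.dvd_prime_pow hp.out).mp h2
      have hj0 : j = 0 := by
        by_contra hj0
        have h5 : p ∣ Nat.card ↥(A.map (QuotientGroup.mk' M)) :=
          (dvd_pow_self p hj0).trans (hj ▸ h1)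
        have := hp.out.factorization_pos_of_dvd (Nat.card_pos.ne') h5
        omega
      rw [hj0, pow_zero, orderOf_eq_one_iff] at hj
      exact hj
    have := hPbot hPK
    rw [hfac] at this
    omega
  · apply le_antisymm hle
    obtain ⟨PG, hPG⟩ := (P.isPGroup'.map A.subtype).exists_le_sylow
    have hQM : ¬ (P : Subgroup ↥A).map A.subtype ≤ M := by
      intro h
      have hPK : (P : Subgroup ↥A) ≤ M.subgroupOf A :=
        fun x hx => Subgroup.mem_subgroupOf.mpr (h ⟨x, hx, rfl⟩)
      have := hPbot hPK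
      rw [hfac] at this
      omega
    have h1 := inf_sylow_le M hstar PG (hsyl p PG) _ hPG hQM
    have h2 : M ⊓ (PG : Subgroup G) ≤ M ⊓ A :=
      le_inf inf_le_left (h1.trans (Subgroup.map_subtype_le _))
    have h3 := Subgroup.card_dvd_of_le h2
    rw [card_normal_inf_sylow M PG, ← card_subgroupOf_eq] at h3
    exact (hp.out.pow_dvd_iff_le_factorization (Nat.card_pos.ne')).mp h3

end lift2

section assemble

variable {G : Type u} [Group G] [Finite G]

/-- Final assembly of the minimal-lift argument: if minimal lifts of abelian subgroups of `G ⧸ M`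
are abelian with order determined by the order of the image, then `G ⧸ M` is a B-group. -/
theorem bprop_quotient_of_lifts (hB : BProp G) (M : Subgroup G) [M.Normal]
    (hcomm : ∀ A : Subgroup G, IsMinLift M A →
      (∀ x ∈ A.map (QuotientGroup.mk' M), ∀ y ∈ A.map (QuotientGroup.mk' M), x * y = y * x) →
      ∀ x y : ↥A, x * y = y * x)
    (hfac : ∀ A : Subgroup G, IsMinLift M A →
      (∀ x ∈ A.map (QuotientGroup.mk' M), ∀ y ∈ A.map (QuotientGroup.mk' M), x * y = y * x) →
      ∀ (p : ℕ) [Fact p.Prime], (Nat.card ↥A).factorization p =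
      (Nat.card ↥(A.map (QuotientGroup.mk' M))).factorization p +
        if (Nat.card ↥(A.map (QuotientGroup.mk' M))).factorization p = 0 then 0
        else (Nat.card ↥M).factorization p) :
    BProp (G ⧸ M) := by
  intro Abar Bbar hAc hBc hcard
  obtain ⟨A, hA, hAmin⟩ := exists_minLift M Abar
  obtain ⟨B, hB', hBmin⟩ := exists_minLift M Bbar
  have hAc' : ∀ x ∈ A.map (QuotientGroup.mk' M), ∀ y ∈ A.map (QuotientGroup.mk' M),
      x * y = y * x := by
    rw [hA]
    intro x hx y hy
    have := hAc.is_comm.comm ⟨x, hx⟩ ⟨y, hy⟩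
    exact congrArg Subtype.val this
  have hBc' : ∀ x ∈ B.map (QuotientGroup.mk' M), ∀ y ∈ B.map (QuotientGroup.mk' M),
      x * y = y * x := by
    rw [hB']
    intro x hx y hy
    have := hBc.is_comm.comm ⟨x, hx⟩ ⟨y, hy⟩
    exact congrArg Subtype.val this
  have hAcomm := hcomm A hAmin hAc'
  have hBcomm := hcomm B hBmin hBc'
  have hcardAB : Nat.card ↥A = Nat.card ↥B := by
    apply Nat.eq_of_factorization_eq (Nat.card_pos.ne') (Nat.card_pos.ne')
    intro p
    by_cases hp : p.Prime
    · have : Fact p.Prime := Fact.mk hp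
      rw [hfac A hAmin hAc' p, hfac B hBmin hBc' p, hA, hB', hcard]
    · rw [Nat.factorization_eq_zero_of_not_prime _ hp, Nat.factorization_eq_zero_of_not_prime _ hp]
  obtain ⟨g, hg⟩ := hB A B ⟨⟨fun x y => hAcomm x y⟩⟩ ⟨⟨fun x y => hBcomm x y⟩⟩ hcardAB
  refine ⟨QuotientGroup.mk' M g, ?_⟩
  rw [← hA, ← hB', hg, Subgroup.map_map, Subgroup.map_map]
  congr 1

/-- If all Sylow subgroups of the B-group `G` are cyclic or of prime exponent, every quotient of `G`
is a B-group. -/
theorem bprop_quotient_of_sylow (hB : BProp G) (M : Subgroup G) [M.Normal]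
    (hstar : ∀ a : G, (∃ m ∈ M, orderOf m = orderOf a) → a ∈ M)
    (hsyl : ∀ (p : ℕ) [Fact p.Prime], ∀ P : Sylow p G,
      IsCyclic ↥(P : Subgroup G) ∨ ∀ x ∈ (P : Subgroup G), x ^ p = 1) :
    BProp (G ⧸ M) :=
  bprop_quotient_of_lifts hB M
    (fun _ hA hc => minLift_comm' M hstar hsyl hA hc)
    (fun _ hA hc p _ => minLift_factorization' M hstar hsyl hA hc p)

/-- The B-property is invariant under isomorphism. -/
theorem BProp.of_mulEquiv {G' : Type u} [Group G'] (hB : BProp G) (e : G ≃* G') : BProp G' := by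
  intro A' B' hAc hBc hcard
  have hA : (A'.map e.symm.toMonoidHom).map e.toMonoidHom = A' := by
    rw [Subgroup.map_map]
    have : e.toMonoidHom.comp e.symm.toMonoidHom = MonoidHom.id G' := by
      ext x; simp
    rw [this, Subgroup.map_id]
  have hB' : (B'.map e.symm.toMonoidHom).map e.toMonoidHom = B' := by
    rw [Subgroup.map_map]
    have : e.toMonoidHom.comp e.symm.toMonoidHom = MonoidHom.id G' := by
      ext x; simp
    rw [this, Subgroup.map_id]
  have hcA : Nat.card ↥(A'.map e.symm.toMonoidHom) = Nat.card ↥A' :=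
    Subgroup.card_map_of_injective e.symm.injective
  have hcB : Nat.card ↥(B'.map e.symm.toMonoidHom) = Nat.card ↥B' :=
    Subgroup.card_map_of_injective e.symm.injective
  have hAc' : IsMulCommutative ↥(A'.map e.symm.toMonoidHom) := inferInstance
  have hBc' : IsMulCommutative ↥(B'.map e.symm.toMonoidHom) := inferInstance
  obtain ⟨g, hg⟩ := hB _ _ hAc' hBc' (by rw [hcA, hcB, hcard])
  refine ⟨e g, ?_⟩
  rw [← hB', hg, Subgroup.map_map]
  conv_rhs => rw [← hA, Subgroup.map_map]
  congr 1
  ext x
  simp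

end assemble

end Cfsg.Agent.Lib.Helper66.BGroupQuot
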