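import Mathlib
import Cfsg.Agent.Lib.Helper66.BGroupQuot2

/-!
# Quotient of a B-group by a normal subgroup of order 2 when the Sylow 2-subgroups have order 8

helper66.  Let `Z` be normal of order 2 in the finite B-group `G` whose Sylow 2-subgroups have
order 8.  Then `G ⧸ Z` is a B-group.  The preimage `X` of an abelian subgroup of `G ⧸ Z` is
`T · H` with `T` a Sylow 2-subgroup of `X` and `H` central of odd order; `X` is abelian unless `T`
is a Sylow 2-subgroup of `G`; and then conjugating the odd parts and using Sylow's theorem in the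
centralizer of the odd part conjugates the preimages.
-/

set_option autoImplicit false
set_option linter.style.haveILetI false
set_option linter.unusedSectionVars false

namespace Cfsg.Agent.Lib.Helper66.BGroupQuot

open scoped commutatorElement Pointwise

universe u

section central

variable {G : Type u} [Group G] [Finite G] (Z : Subgroup G) [hZn : Z.Normal]
  (hZ : Nat.card ↥Z = 2)

include hZ

/-- A normal subgroup of order 2 is central. -/
theorem central_of_card_two {z : G} (hz : z ∈ Z) (g : G) : g * z = z * g := by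
  by_cases hz1 : z = 1
  · simp [hz1]
  · have hconj : g * z * g⁻¹ ∈ Z := hZn.conj_mem z hz g
    have hne : g * z * g⁻¹ ≠ 1 := fun h => hz1 (conj_eq_one_iff.mp h)
    obtain ⟨y, _, hy⟩ := (Nat.card_eq_two_iff' (1 : ↥Z)).mp hZ
    have h1 : (⟨g * z * g⁻¹, hconj⟩ : ↥Z) = y :=
      hy _ (fun h => hne (congrArg Subtype.val h))
    have h2 : (⟨z, hz⟩ : ↥Z) = y := hy _ (fun h => hz1 (congrArg Subtype.val h))
    have h3 : g * z * g⁻¹ = z := congrArg Subtype.val (h1.trans h2.symm)
    calc g * z = g * z * g⁻¹ * g := by group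
      _ = z * g := by rw [h3]

theorem sq_eq_one_of_card_two {z : G} (hz : z ∈ Z) : z ^ 2 = 1 := by
  have := pow_card_eq_one' (G := ↥Z) (x := ⟨z, hz⟩)
  rw [hZ] at this
  have h := congrArg Subtype.val this
  simpa using h

/-- In a subgroup `X` with `[X, X] ≤ Z`, elements of odd order are central. -/
theorem commute_odd (X : Subgroup G) (hXc : ∀ x ∈ X, ∀ y ∈ X, ⁅x, y⁆ ∈ Z) {x h : G}
    (hx : x ∈ X) (hh : h ∈ X) (hodd : Odd (orderOf h)) : x * h = h * x := by
  have hcZ : ⁅x, h⁆ ∈ Z := hXc x hx h hh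
  have hcc : ∀ g, g * ⁅x, h⁆ = ⁅x, h⁆ * g := central_of_card_two Z hZ hcZ
  have h1 : x * h * x⁻¹ = ⁅x, h⁆ * h := by rw [commutatorElement_def]; group
  have hcomm : Commute ⁅x, h⁆ h := (hcc h).symm
  have h2 : (⁅x, h⁆ * h) ^ orderOf h = ⁅x, h⁆ ^ orderOf h := by
    rw [hcomm.mul_pow, pow_orderOf_eq_one, mul_one]
  have h3 : (x * h * x⁻¹) ^ orderOf h = 1 := by
    rw [conj_pow, pow_orderOf_eq_one]; group
  have h4 : ⁅x, h⁆ ^ orderOf h = 1 := by rw [← h2, ← h1, h3]
  have h5 : ⁅x, h⁆ ^ 2 = 1 := sq_eq_one_of_card_two Z hZ hcZ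
  have h6 : ⁅x, h⁆ = 1 := by
    obtain ⟨j, hj⟩ := hodd
    rw [hj, pow_succ, pow_mul, h5, one_pow, one_mul] at h4
    exact h4
  exact commutatorElement_eq_one_iff_mul_comm.mp h6

/-- Decomposition `X = T · H` with `T` a Sylow 2-subgroup of `X` and `H` central in `X`. -/
theorem exists_decomp (X : Subgroup G) (hZX : Z ≤ X) (hXc : ∀ x ∈ X, ∀ y ∈ X, ⁅x, y⁆ ∈ Z) :
    ∃ T H : Subgroup G, T ≤ X ∧ H ≤ X ∧ T ⊔ H = X ∧
      Nat.card ↥T = 2 ^ (Nat.card ↥X).factorization 2 ∧
      Nat.card ↥X = Nat.card ↥T * Nat.card ↥H ∧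
      (∀ h ∈ H, ∀ x ∈ X, x * h = h * x) ∧ (∀ x ∈ X, ∃ t ∈ T, ∃ h ∈ H, x = t * h) := by
  haveI : Fact (Nat.Prime 2) := ⟨Nat.prime_two⟩
  obtain ⟨T0⟩ : Nonempty (Sylow 2 ↥X) := inferInstance
  have hZ'p : IsPGroup 2 ↥(Z.subgroupOf X) := by
    apply IsPGroup.of_card (n := 1)
    rw [card_subgroupOf_eq, inf_of_le_left hZX, hZ, pow_one]
  have hZT : Z.subgroupOf X ≤ T0 := IsPGroup.le_sylow_of_normal hZ'p T0
  have hcomm : commutator ↥X ≤ Z.subgroupOf X := by
    rw [commutator_def, Subgroup.commutator_le]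
    intro x _ y _
    rw [Subgroup.mem_subgroupOf]
    have := hXc x x.2 y y.2
    simpa [commutatorElement_def] using this
  haveI hTn : (T0 : Subgroup ↥X).Normal := normal_of_commutator_le' _ (hcomm.trans hZT)
  obtain ⟨H0, hH0⟩ := Subgroup.exists_right_complement'_of_coprime (T0.card_coprime_index)
  refine ⟨(T0 : Subgroup ↥X).map X.subtype, H0.map X.subtype, Subgroup.map_subtype_le _,
    Subgroup.map_subtype_le _, ?_, ?_, ?_, ?_, ?_⟩
  · rw [← Subgroup.map_sup, hH0.sup_eq_top, ← MonoidHom.range_eq_map, Subgroup.range_subtype]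
  · rw [Subgroup.card_map_of_injective X.subtype_injective]; exact T0.card_eq_multiplicity
  · rw [Subgroup.card_map_of_injective X.subtype_injective,
      Subgroup.card_map_of_injective X.subtype_injective]
    exact hH0.card_mul_card.symm
  · rintro h ⟨h0, hh0, rfl⟩ x hx
    apply commute_odd Z hZ X hXc hx h0.2
    have h1 : orderOf (h0 : G) ∣ Nat.card ↥H0 := by
      have := orderOf_dvd_natCard (⟨h0, hh0⟩ : ↥H0)
      rwa [Subgroup.orderOf_mk, ← Subgroup.orderOf_coe] at this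
    have h2 : (T0 : Subgroup ↥X).index = Nat.card ↥H0 := hH0.symm.index_eq_card
    have h3 : ¬ 2 ∣ Nat.card ↥H0 := by rw [← h2]; exact T0.not_dvd_index
    have h4 : Odd (Nat.card ↥H0) := by
      rw [← Nat.not_even_iff_odd, even_iff_two_dvd]; exact h3
    exact Odd.of_dvd_nat h4 h1
  · intro x hx
    obtain ⟨⟨t, h⟩, hth, _⟩ :=
      (Subgroup.isComplement_iff_existsUnique.mp (Subgroup.isComplement'_def.mp hH0)) ⟨x, hx⟩
    refine ⟨(t : ↥X), ⟨t, t.2, rfl⟩, (h : ↥X), ⟨h, h.2, rfl⟩, ?_⟩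
    have := congrArg Subtype.val hth
    simpa using this.symm

end central

section conj

variable {G : Type u} [Group G] [Finite G]

/-- If `X = T · H` with `H` central in `X` and `T` commutative, then `X` is commutative. -/
theorem comm_of_decomp {X T H : Subgroup G}
    (hTc : ∀ a ∈ T, ∀ b ∈ T, a * b = b * a) (hTX : T ≤ X) (hHX : H ≤ X)
    (hHc : ∀ h ∈ H, ∀ x ∈ X, x * h = h * x)
    (hdec : ∀ x ∈ X, ∃ t ∈ T, ∃ h ∈ H, x = t * h) : ∀ x ∈ X, ∀ y ∈ X, x * y = y * x := by
  intro x hx y hy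
  obtain ⟨t, ht, h, hh, rfl⟩ := hdec x hx
  obtain ⟨t', ht', h', hh', rfl⟩ := hdec y hy
  have e1 : h * t' = t' * h := (hHc h hh t' (hTX ht')).symm
  have e2 : h' * t = t * h' := (hHc h' hh' t (hTX ht)).symm
  have e3 : h * h' = h' * h := (hHc h' hh' h (hHX hh))
  have e4 : t * t' = t' * t := hTc t ht t' ht'
  calc t * h * (t' * h') = t * (h * t') * h' := by group
    _ = t * (t' * h) * h' := by rw [e1]
    _ = (t * t') * (h * h') := by group
    _ = (t' * t) * (h' * h) := by rw [e3, e4]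
    _ = t' * (t * h') * h := by group
    _ = t' * (h' * t) * h := by rw [e2]
    _ = t' * h' * (t * h) := by group

/-- Conjugating decomposed subgroups: odd parts by the B-property, Sylow parts inside the
centralizer of the odd part. -/
theorem conj_of_decomp (hB : BProp G) {X Y TX HX TY HY : Subgroup G}
    (hX : TX ⊔ HX = X) (hY : TY ⊔ HY = Y)
    (hTX : Nat.card ↥TX = 2 ^ (Nat.card G).factorization 2)
    (hTY : Nat.card ↥TY = 2 ^ (Nat.card G).factorization 2)
    (hHXc : ∀ a ∈ HX, ∀ b ∈ HX, a * b = b * a) (hHYc : ∀ a ∈ HY, ∀ b ∈ HY, a * b = b * a)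
    (hcard : Nat.card ↥HX = Nat.card ↥HY)
    (hcX : ∀ h ∈ HX, ∀ t ∈ TX, t * h = h * t) (hcY : ∀ h ∈ HY, ∀ t ∈ TY, t * h = h * t) :
    ∃ g : G, Y = X.map (MulAut.conj g).toMonoidHom := by
  haveI : Fact (Nat.Prime 2) := ⟨Nat.prime_two⟩
  obtain ⟨g1, hg1⟩ := hB HX HY ⟨⟨fun a b => Subtype.ext (hHXc a a.2 b b.2)⟩⟩
    ⟨⟨fun a b => Subtype.ext (hHYc a a.2 b b.2)⟩⟩ hcard
  set C : Subgroup G := Subgroup.centralizer (HY : Set G) with hC
  set T1 : Subgroup G := TX.map (MulAut.conj g1).toMonoidHom with hT1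
  have hT1card : Nat.card ↥T1 = 2 ^ (Nat.card G).factorization 2 := by
    rw [hT1, Subgroup.card_map_of_injective (MulAut.conj g1).injective]; exact hTX
  have hT1C : T1 ≤ C := by
    rintro _ ⟨t, ht, rfl⟩
    rw [hC, Subgroup.mem_centralizer_iff]
    intro y hy
    rw [hg1] at hy
    obtain ⟨h, hh, rfl⟩ := hy
    have := hcX h hh t ht
    simp only [MulEquiv.coe_toMonoidHom, MulAut.conj_apply]
    calc g1 * h * g1⁻¹ * (g1 * t * g1⁻¹) = g1 * (h * t) * g1⁻¹ := by group
      _ = g1 * (t * h) * g1⁻¹ := by rw [this]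
      _ = g1 * t * g1⁻¹ * (g1 * h * g1⁻¹) := by group
  have hTYC : TY ≤ C := by
    intro t ht
    rw [hC, Subgroup.mem_centralizer_iff]
    intro y hy
    exact (hcY y hy t ht).symm
  set P1 : Sylow 2 G := Sylow.ofCard T1 hT1card with hP1
  set P2 : Sylow 2 G := Sylow.ofCard TY hTY with hP2
  have hP1C : (P1 : Subgroup G) ≤ C := hT1C
  have hP2C : (P2 : Subgroup G) ≤ C := hTYC
  obtain ⟨c, hc⟩ := MulAction.exists_smul_eq ↥C (P1.subtype hP1C) (P2.subtype hP2C)
  rw [Sylow.smul_subtype] at hc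
  have hc' : c • P1 = P2 := Sylow.subtype_injective hc
  have hc'' : T1.map (MulAut.conj (c : G)).toMonoidHom = TY := by
    have := congrArg (fun P : Sylow 2 G => (P : Subgroup G)) hc'
    exact this
  have hcH : HY.map (MulAut.conj (c : G)).toMonoidHom = HY := by
    ext y
    constructor
    · rintro ⟨h, hh, rfl⟩
      have := (Subgroup.mem_centralizer_iff.mp c.2) h hh
      simp only [MulEquiv.coe_toMonoidHom, MulAut.conj_apply]
      have e : (c : G) * h * (c : G)⁻¹ = h := by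
        rw [← this]; group
      rw [e]; exact hh
    · intro hy
      refine ⟨y, hy, ?_⟩
      have := (Subgroup.mem_centralizer_iff.mp c.2) y hy
      simp only [MulEquiv.coe_toMonoidHom, MulAut.conj_apply]
      rw [← this]; group
  refine ⟨(c : G) * g1, ?_⟩
  have hcomp : (MulAut.conj ((c : G) * g1)).toMonoidHom =
      (MulAut.conj (c : G)).toMonoidHom.comp (MulAut.conj g1).toMonoidHom := by
    ext x; simp [mul_assoc]
  rw [hcomp, ← Subgroup.map_map, ← hX, Subgroup.map_sup, ← hT1, ← hg1, Subgroup.map_sup, hc'', hcH,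
    hY]

end conj

end Cfsg.Agent.Lib.Helper66.BGroupQuot
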