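import Mathlib

/-!
# Generalised quaternion Sylow 2-subgroups in solvable B-groups

helper66.  If in a finite solvable group every normal subgroup containing one element of order 4
contains all of them, a subgroup isomorphic to `QuaternionGroup (2 ^ k)`, `k ≥ 1`, has `k = 1`.
Also: a subgroup of exponent 2 of such a quaternion subgroup has order at most 2.
-/

set_option autoImplicit false
set_option linter.style.haveILetI false
set_option linter.unusedSectionVars false

namespace Cfsg.Agent.Lib.Helper66.BGroupQuot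

open scoped commutatorElement

universe u

section quat

variable {G : Type u} [Group G] [Finite G]

theorem quat_comm (n : ℕ) :
    ⁅(QuaternionGroup.xa 0 : QuaternionGroup n), (QuaternionGroup.xa 1 : QuaternionGroup n)⁆ =
      QuaternionGroup.a 1 ^ 2 := by
  have h1 : ⁅(QuaternionGroup.xa 0 : QuaternionGroup n), (QuaternionGroup.xa 1 : QuaternionGroup n)⁆ *
      (QuaternionGroup.xa 1 * QuaternionGroup.xa 0) =
      QuaternionGroup.xa 0 * QuaternionGroup.xa 1 := by
    rw [commutatorElement_def]; group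
  have h2 : (QuaternionGroup.a 1 : QuaternionGroup n) ^ 2 *
      (QuaternionGroup.xa 1 * QuaternionGroup.xa 0) =
      QuaternionGroup.xa 0 * QuaternionGroup.xa 1 := by
    rw [QuaternionGroup.a_one_pow, QuaternionGroup.xa_mul_xa, QuaternionGroup.xa_mul_xa,
      QuaternionGroup.a_mul_a]
    congr 1
    push_cast
    ring
  exact mul_right_cancel (h1.trans h2.symm)

theorem quaternion_index (hsol : Group.IsSolvable G)
    (hstar4 : ∀ N : Subgroup G, N.Normal → (∃ m ∈ N, orderOf m = 4) →
      ∀ a : G, orderOf a = 4 → a ∈ N)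
    (S : Subgroup G) (k : ℕ) (e : ↥S ≃* QuaternionGroup (2 ^ k)) (hk : 1 ≤ k) : k = 1 := by
  haveI : NeZero (2 ^ k) := ⟨by positivity⟩
  haveI := hsol
  set s1 : ↥S := e.symm (QuaternionGroup.xa 0) with hs1
  set s2 : ↥S := e.symm (QuaternionGroup.xa 1) with hs2
  have ho1 : orderOf (s1 : G) = 4 := by
    rw [Subgroup.orderOf_coe, hs1, MulEquiv.orderOf_eq, QuaternionGroup.orderOf_xa]
  have ho2 : orderOf (s2 : G) = 4 := by
    rw [Subgroup.orderOf_coe, hs2, MulEquiv.orderOf_eq, QuaternionGroup.orderOf_xa]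
  set K : Subgroup G := Subgroup.normalClosure {g : G | orderOf g = 4} with hK
  have hs1K : (s1 : G) ∈ K := Subgroup.subset_normalClosure ho1
  have hs2K : (s2 : G) ∈ K := Subgroup.subset_normalClosure ho2
  have hKne : K ≠ ⊥ := by
    intro h
    rw [h, Subgroup.mem_bot] at hs1K
    rw [hs1K, orderOf_one] at ho1
    omega
  have hlt : ⁅K, K⁆ < K := Group.IsSolvable.commutator_lt_of_ne_bot hKne
  have hno4 : ∀ m ∈ ⁅K, K⁆, orderOf m ≠ 4 := by
    intro m hm hom
    have h1 := hstar4 ⁅K, K⁆ inferInstance ⟨m, hm, hom⟩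
    have h2 : K ≤ ⁅K, K⁆ := Subgroup.normalClosure_le_normal (fun a ha => h1 a ha)
    exact absurd (lt_of_lt_of_le hlt h2) (lt_irrefl _)
  have hc : ⁅(s1 : G), (s2 : G)⁆ ∈ ⁅K, K⁆ := Subgroup.commutator_mem_commutator hs1K hs2K
  have hoc : orderOf ⁅(s1 : G), (s2 : G)⁆ = 2 ^ k := by
    have h1 : ⁅(s1 : G), (s2 : G)⁆ = ((⁅s1, s2⁆ : ↥S) : G) := by
      simp [commutatorElement_def]
    have h2 : (⁅s1, s2⁆ : ↥S) = e.symm (QuaternionGroup.a 1 ^ 2) := by
      rw [← quat_comm, hs1, hs2, map_commutatorElement]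
    rw [h1, Subgroup.orderOf_coe, h2, MulEquiv.orderOf_eq, orderOf_pow,
      QuaternionGroup.orderOf_a_one]
    have : Nat.gcd (2 * 2 ^ k) 2 = 2 := Nat.gcd_eq_right (Dvd.intro _ rfl)
    rw [this]
    omega
  by_contra hk1
  have hk2 : 2 ≤ k := by omega
  have hdvd : 2 ^ (k - 2) ∣ orderOf ⁅(s1 : G), (s2 : G)⁆ := by
    rw [hoc]; exact pow_dvd_pow 2 (by omega)
  have h4 := orderOf_pow_of_dvd (x := ⁅(s1 : G), (s2 : G)⁆) (n := 2 ^ (k - 2)) (by positivity) hdvd
  rw [hoc] at h4
  have h5 : 2 ^ k / 2 ^ (k - 2) = 4 := by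
    apply Nat.div_eq_of_eq_mul_left (by positivity)
    have : k = 2 + (k - 2) := by omega
    conv_lhs => rw [this, pow_add]
    norm_num
  rw [h5] at h4
  exact hno4 _ (Subgroup.pow_mem _ hc _) h4

theorem zmod_add_self {n : ℕ} [NeZero n] (i : ZMod (2 * n)) (h : i + i = 0) :
    i = 0 ∨ i = (n : ZMod (2 * n)) := by
  have hpos : 0 < n := NeZero.pos n
  have h1 : ((i.val + i.val : ℕ) : ZMod (2 * n)) = 0 := by
    rw [Nat.cast_add, ZMod.natCast_zmod_val]; exact h
  rw [ZMod.natCast_eq_zero_iff] at h1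
  have hlt : i.val < 2 * n := ZMod.val_lt i
  obtain ⟨c, hc⟩ := h1
  have hc' : i.val = n * c := by nlinarith
  have hc2 : c < 2 := by
    by_contra hcc
    have : 2 ≤ c := by omega
    nlinarith
  interval_cases c
  · left
    have : i.val = 0 := by omega
    exact (ZMod.val_eq_zero i).mp this
  · right
    have : i.val = n := by omega
    conv_lhs => rw [← ZMod.natCast_zmod_val i, this]

theorem card_le_two_of_exp_two (S : Subgroup G) (k : ℕ) (e : ↥S ≃* QuaternionGroup (2 ^ k))
    (N : Subgroup G) (hNS : N ≤ S) (hN : ∀ x ∈ N, x ^ 2 = 1) : Nat.card ↥N ≤ 2 := by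
  haveI : NeZero (2 ^ k) := ⟨by positivity⟩
  set z : G := ((e.symm (QuaternionGroup.a ((2 ^ k : ℕ) : ZMod (2 * 2 ^ k))) : ↥S) : G) with hz
  have hsub : (N : Set G) ⊆ ({1, z} : Set G) := by
    intro x hx
    have hxS : x ∈ S := hNS hx
    have hx2 : (⟨x, hxS⟩ : ↥S) ^ 2 = 1 := Subtype.ext (by simpa using hN x hx)
    have he2 : (e ⟨x, hxS⟩) ^ 2 = 1 := by rw [← map_pow, hx2, map_one]
    rcases hq : e ⟨x, hxS⟩ with i | i
    · rw [hq, sq, QuaternionGroup.a_mul_a, QuaternionGroup.one_def] at he2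
      have hii : i + i = 0 := by injection he2
      rcases zmod_add_self i hii with h0 | hn
      · left
        rw [h0, QuaternionGroup.a_zero] at hq
        have : (⟨x, hxS⟩ : ↥S) = 1 := by
          have := congrArg e.symm hq
          simpa using this
        exact congrArg Subtype.val this
      · right
        rw [Set.mem_singleton_iff, hz]
        have : (⟨x, hxS⟩ : ↥S) = e.symm (QuaternionGroup.a i) := by
          rw [← hq]; simp
        rw [← hn, ← this]
    · exfalso
      rw [hq, QuaternionGroup.xa_sq, QuaternionGroup.one_def] at he2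
      have h0 : ((2 ^ k : ℕ) : ZMod (2 * 2 ^ k)) = 0 := by injection he2
      rw [ZMod.natCast_eq_zero_iff] at h0
      have := Nat.le_of_dvd (by positivity) h0
      have hp : 0 < 2 ^ k := by positivity
      omega
  have hfin : ({1, z} : Set G).Finite := Set.toFinite _
  calc Nat.card ↥N = (N : Set G).ncard := (Nat.card_coe_set_eq _)
    _ ≤ ({1, z} : Set G).ncard := Set.ncard_le_ncard hsub hfin
    _ ≤ 2 := Set.ncard_insert_le _ _ |>.trans (by simp)

end quat

end Cfsg.Agent.Lib.Helper66.BGroupQuot
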