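import Mathlib
import Cfsg.Agent.S3908
import Cfsg.Agent.S3909
import Cfsg.Agent.S3911
import Cfsg.Agent.Lib.Helper66.BGroupQuot2
import Cfsg.Agent.Lib.Helper66.BGroupQuat
import Cfsg.Agent.Lib.Helper66.BGroupQ8

/-!
# Quotients of solvable B-groups are B-groups

helper66.  Induction on the order of the normal subgroup `M`, through a minimal normal subgroup `N ≤ M`
of `G`: `N` of odd order is handled by S3911; if the Sylow 2-subgroups are cyclic or elementary
abelian the minimal-lift argument works for every `M`; otherwise the Sylow 2-subgroups are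
quaternion of order 8, `N` has order 2 and `BGroupQ8` applies.
-/

set_option autoImplicit false
set_option linter.style.haveILetI false
set_option linter.unusedSectionVars false

namespace Cfsg.Agent.Lib.Helper66.BGroupQuot

open scoped commutatorElement Pointwise

universe u

section q8

variable {G : Type u} [Group G] [Finite G]

/-- 2-subgroups of order at most 4 are commutative. -/
theorem comm_of_card_two_pow {T : Subgroup G} (j : ℕ) (hj : j ≤ 2) (hT : Nat.card ↥T = 2 ^ j) :
    ∀ a ∈ T, ∀ b ∈ T, a * b = b * a := by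
  haveI : Fact (Nat.Prime 2) := ⟨Nat.prime_two⟩
  intro a ha b hb
  have key : (⟨a, ha⟩ : ↥T) * ⟨b, hb⟩ = ⟨b, hb⟩ * ⟨a, ha⟩ := by
    interval_cases j
    · have : Subsingleton ↥T := by
        rw [← Finite.card_le_one_iff_subsingleton, hT]; norm_num
      exact Subsingleton.elim _ _
    · haveI : IsCyclic ↥T := isCyclic_of_prime_card (p := 2) (by rw [hT]; norm_num)
      letI := IsCyclic.commGroup (α := ↥T)
      exact mul_comm _ _
    · exact (IsPGroup.isMulCommutative_of_card_eq_prime_sq (p := 2) hT).is_comm.comm _ _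
  exact congrArg Subtype.val key

/-- Quotient of a B-group with Sylow 2-subgroups of order 8 by a normal subgroup of order 2. -/
theorem bprop_quotient_card_two (hB : BProp G) (Z : Subgroup G) [Z.Normal] (hZ : Nat.card ↥Z = 2)
    (h8 : (Nat.card G).factorization 2 = 3) : BProp (G ⧸ Z) := by
  intro Abar Bbar hAc hBc hcard
  set X : Subgroup G := Abar.comap (QuotientGroup.mk' Z) with hXdef
  set Y : Subgroup G := Bbar.comap (QuotientGroup.mk' Z) with hYdef
  have hXmap : X.map (QuotientGroup.mk' Z) = Abar :=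
    Subgroup.map_comap_eq_self_of_surjective (QuotientGroup.mk'_surjective Z) _
  have hYmap : Y.map (QuotientGroup.mk' Z) = Bbar :=
    Subgroup.map_comap_eq_self_of_surjective (QuotientGroup.mk'_surjective Z) _
  have hker : ∀ (W : Subgroup (G ⧸ Z)), Z ≤ W.comap (QuotientGroup.mk' Z) := by
    intro W z hz
    rw [Subgroup.mem_comap]
    have : QuotientGroup.mk' Z z = 1 := (QuotientGroup.eq_one_iff z).mpr hz
    rw [this]; exact W.one_mem
  have hZX : Z ≤ X := hker Abar
  have hZY : Z ≤ Y := hker Bbar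
  have hcomm : ∀ (W : Subgroup (G ⧸ Z)), IsMulCommutative ↥W →
      ∀ x ∈ W.comap (QuotientGroup.mk' Z), ∀ y ∈ W.comap (QuotientGroup.mk' Z), ⁅x, y⁆ ∈ Z := by
    intro W hW x hx y hy
    rw [← QuotientGroup.eq_one_iff]
    have h := hW.is_comm.comm ⟨QuotientGroup.mk' Z x, hx⟩ ⟨QuotientGroup.mk' Z y, hy⟩
    have h' : QuotientGroup.mk' Z x * QuotientGroup.mk' Z y =
        QuotientGroup.mk' Z y * QuotientGroup.mk' Z x := congrArg Subtype.val h
    have h3 : ((⁅x, y⁆ : G) : G ⧸ Z) = ⁅QuotientGroup.mk' Z x, QuotientGroup.mk' Z y⁆ := by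
      simp [commutatorElement_def]
    rw [h3]
    exact commutatorElement_eq_one_iff_mul_comm.mpr h'
  have hXc := hcomm Abar hAc
  have hYc := hcomm Bbar hBc
  have hcardX : Nat.card ↥X = Nat.card ↥Abar * 2 := by
    have := card_eq_card_map_mul Z X
    rw [hXmap, card_subgroupOf_eq, inf_of_le_left hZX, hZ] at this
    exact this
  have hcardY : Nat.card ↥Y = Nat.card ↥Bbar * 2 := by
    have := card_eq_card_map_mul Z Y
    rw [hYmap, card_subgroupOf_eq, inf_of_le_left hZY, hZ] at this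
    exact this
  obtain ⟨TX, HX, hTXX, hHXX, hsupX, hTXcard, hXcard, hHXc, hdecX⟩ :=
    exists_decomp Z hZ X hZX hXc
  obtain ⟨TY, HY, hTYY, hHYY, hsupY, hTYcard, hYcard, hHYc, hdecY⟩ :=
    exists_decomp Z hZ Y hZY hYc
  have hXY : Nat.card ↥X = Nat.card ↥Y := by rw [hcardX, hcardY, hcard]
  have hTcard : Nat.card ↥TX = Nat.card ↥TY := by rw [hTXcard, hTYcard, hXY]
  have hHcard : Nat.card ↥HX = Nat.card ↥HY := by
    have h1 : Nat.card ↥TX * Nat.card ↥HX = Nat.card ↥TX * Nat.card ↥HY := by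
      rw [← hXcard, hTcard, ← hYcard, hXY]
    exact Nat.eq_of_mul_eq_mul_left Nat.card_pos h1
  have hfinal : ∀ g : G, Y = X.map (MulAut.conj g).toMonoidHom →
      ∃ g' : G ⧸ Z, Bbar = Abar.map (MulAut.conj g').toMonoidHom := by
    intro g hg
    refine ⟨QuotientGroup.mk' Z g, ?_⟩
    rw [← hXmap, ← hYmap, hg, Subgroup.map_map, Subgroup.map_map]
    congr 1
  by_cases hTc : (∀ a ∈ TX, ∀ b ∈ TX, a * b = b * a) ∧ (∀ a ∈ TY, ∀ b ∈ TY, a * b = b * a)
  · have hXcomm := comm_of_decomp hTc.1 hTXX hHXX hHXc hdecX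
    have hYcomm := comm_of_decomp hTc.2 hTYY hHYY hHYc hdecY
    obtain ⟨g, hg⟩ := hB X Y ⟨⟨fun a b => Subtype.ext (hXcomm a a.2 b b.2)⟩⟩
      ⟨⟨fun a b => Subtype.ext (hYcomm a a.2 b b.2)⟩⟩ hXY
    exact hfinal g hg
  · have hjle : (Nat.card ↥X).factorization 2 ≤ 3 := by
      rw [← h8]
      exact (Nat.factorization_le_iff_dvd (Nat.card_pos.ne') (Nat.card_pos.ne')).mpr
        (Subgroup.card_subgroup_dvd_card X) 2
    have hj3 : (Nat.card ↥X).factorization 2 = 3 := by
      by_contra hne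
      have hj2 : (Nat.card ↥X).factorization 2 ≤ 2 := by omega
      apply hTc
      refine ⟨comm_of_card_two_pow _ hj2 hTXcard, comm_of_card_two_pow _ hj2 ?_⟩
      rw [hTYcard, hXY]
    have hTX8 : Nat.card ↥TX = 2 ^ (Nat.card G).factorization 2 := by rw [hTXcard, hj3, h8]
    have hTY8 : Nat.card ↥TY = 2 ^ (Nat.card G).factorization 2 := by rw [← hTcard, hTX8]
    obtain ⟨g, hg⟩ := conj_of_decomp hB hsupX hsupY hTX8 hTY8
      (fun a ha b hb => hHXc b hb a (hHXX ha)) (fun a ha b hb => hHYc b hb a (hHYY ha)) hHcard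
      (fun h hh t ht => hHXc h hh t (hTXX ht)) (fun h hh t ht => hHYc h hh t (hTYY ht))
    exact hfinal g hg

end q8

section minnormal

variable {G : Type u} [Group G] [Finite G]

theorem exists_min_normal_le (M : Subgroup G) (hM : M.Normal) (hM1 : M ≠ ⊥) :
    ∃ N : Subgroup G, N.Normal ∧ N ≠ ⊥ ∧ N ≤ M ∧
      ∀ L : Subgroup G, L.Normal → L ≤ N → L = ⊥ ∨ L = N := by
  have hne : {L : Subgroup G | L.Normal ∧ L ≠ ⊥ ∧ L ≤ M}.Nonempty := ⟨M, hM, hM1, le_rfl⟩
  obtain ⟨N, ⟨hNn, hN, hNM⟩, hmin⟩ := wellFounded_lt.has_min _ hne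
  refine ⟨N, hNn, hN, hNM, fun L hL hLN => ?_⟩
  by_contra hcon
  push Not at hcon
  exact hmin L ⟨hL, hcon.1, hLN.trans hNM⟩ (lt_of_le_of_ne hLN hcon.2)

/-- A minimal normal subgroup of even order of a finite solvable group has exponent 2. -/
theorem exp_two_of_min_normal [Group.IsSolvable G] (N : Subgroup G) (hNn : N.Normal) (hN1 : N ≠ ⊥)
    (hmin : ∀ L : Subgroup G, L.Normal → L ≤ N → L = ⊥ ∨ L = N) (heven : 2 ∣ Nat.card ↥N) :
    ∀ x ∈ N, x ^ 2 = 1 := by
  haveI : Fact (Nat.Prime 2) := ⟨Nat.prime_two⟩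
  haveI := hNn
  have hlt : ⁅N, N⁆ < N := Group.IsSolvable.commutator_lt_of_ne_bot hN1
  have hbot : ⁅N, N⁆ = ⊥ := by
    rcases hmin ⁅N, N⁆ inferInstance hlt.le with h | h
    · exact h
    · exact absurd h hlt.ne
  have hNc : ∀ a ∈ N, ∀ b ∈ N, a * b = b * a := by
    intro a ha b hb
    have h1 := (Subgroup.commutator_eq_bot_iff_le_centralizer.mp hbot) ha
    exact ((Subgroup.mem_centralizer_iff.mp h1) b hb).symm
  let Ω : Subgroup G :=
    { carrier := {x | x ∈ N ∧ x ^ 2 = 1}
      mul_mem' := by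
        rintro a b ⟨ha, ha2⟩ ⟨hb, hb2⟩
        refine ⟨N.mul_mem ha hb, ?_⟩
        have hc : Commute a b := hNc a ha b hb
        rw [hc.mul_pow, ha2, hb2, mul_one]
      one_mem' := ⟨N.one_mem, one_pow 2⟩
      inv_mem' := by
        rintro a ⟨ha, ha2⟩
        exact ⟨N.inv_mem ha, by rw [inv_pow, ha2, inv_one]⟩ }
  have hΩn : Ω.Normal := by
    constructor
    rintro a ⟨ha, ha2⟩ g
    exact ⟨hNn.conj_mem a ha g, by rw [conj_pow, ha2]; group⟩
  have hΩN : Ω ≤ N := fun x hx => hx.1
  have hΩ1 : Ω ≠ ⊥ := by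
    obtain ⟨x, hx⟩ := exists_prime_orderOf_dvd_card' (G := ↥N) 2 heven
    intro h
    have hxΩ : (x : G) ∈ Ω := by
      refine ⟨x.2, ?_⟩
      have : x ^ 2 = 1 := by rw [← hx]; exact pow_orderOf_eq_one x
      have h2 := congrArg Subtype.val this
      simpa using h2
    rw [h, Subgroup.mem_bot] at hxΩ
    have : x = 1 := Subtype.ext hxΩ
    rw [this, orderOf_one] at hx
    omega
  rcases hmin Ω hΩn hΩN with h | h
  · exact absurd h hΩ1
  · intro x hx
    have : x ∈ Ω := h ▸ hx
    exact this.2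

end minnormal

section main

/-- Descent: if `N ≤ M` are normal, `G ⧸ N` is a B-group and the quotient of `G ⧸ N` by the image of
`M` is a B-group, then `G ⧸ M` is a B-group. -/
theorem bprop_quotient_descent {G : Type u} [Group G] [Finite G] (N M : Subgroup G) [N.Normal]
    [M.Normal]
    (hNM : N ≤ M)
    (h : BProp ((G ⧸ N) ⧸ M.map (QuotientGroup.mk' N))) : BProp (G ⧸ M) :=
  h.of_mulEquiv (QuotientGroup.quotientQuotientEquivQuotient N M hNM)

theorem card_map_lt {G : Type u} [Group G] [Finite G] (N M : Subgroup G) [N.Normal]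
    (hNM : N ≤ M) (hN1 : N ≠ ⊥) :
    Nat.card ↥(M.map (QuotientGroup.mk' N)) < Nat.card ↥M := by
  have h1 := card_eq_card_map_mul N M
  rw [card_subgroupOf_eq, inf_of_le_left hNM] at h1
  have h2 : 1 < Nat.card ↥N := by
    rw [Subgroup.one_lt_card_iff_ne_bot]; exact hN1
  have h3 : 0 < Nat.card ↥(M.map (QuotientGroup.mk' N)) := Nat.card_pos
  rw [h1]
  nlinarith

/-- Every quotient of a finite solvable B-group is a B-group. -/
theorem bprop_quotient_of_solvable : ∀ (k : ℕ) (G : Type u) [Group G] [Finite G],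
    BProp G → Group.IsSolvable G → ∀ (M : Subgroup G) [M.Normal], Nat.card ↥M = k →
    BProp (G ⧸ M) := by
  intro k
  induction k using Nat.strong_induction_on with
  | _ k ih =>
  intro G _ _ hB hsol M hMn hMk
  haveI := hsol
  haveI : Fact (Nat.Prime 2) := ⟨Nat.prime_two⟩
  have hstar : ∀ (L : Subgroup G), L.Normal →
      ∀ a : G, (∃ m ∈ L, orderOf m = orderOf a) → a ∈ L := by
    intro L hL
    haveI := hL
    exact (Cfsg.Agent.S3909.result hB L).1
  have h3908 := Cfsg.Agent.S3908.result hB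
  -- odd order: S3911
  by_cases hodd : Odd (Nat.card ↥M)
  · exact Cfsg.Agent.S3911.result hB M hodd
  -- all Sylow subgroups cyclic or of prime exponent
  by_cases hsyl2 : ∀ P : Sylow 2 G, IsCyclic ↥(P : Subgroup G) ∨ ∀ x ∈ (P : Subgroup G), x ^ 2 = 1
  · apply bprop_quotient_of_sylow hB M (hstar M hMn)
    intro p hp P
    by_cases hp2 : p = 2
    · subst hp2
      exact hsyl2 P
    · exact h3908.2 p hp2 P
  -- quaternion case
  push Not at hsyl2
  obtain ⟨S, hScyc, hSexp⟩ := hsyl2
  have hSq : ∃ k' : ℕ, Nonempty (↥(S : Subgroup G) ≃* QuaternionGroup (2 ^ k')) := by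
    rcases h3908.1 S with h | h | h
    · exact absurd h hScyc
    · exfalso
      obtain ⟨x, hx, hx2⟩ := hSexp
      exact hx2 (h.2 x hx)
    · exact h
  obtain ⟨k', ⟨e⟩⟩ := hSq
  have hk' : 1 ≤ k' := by
    by_contra h0
    have hk0 : k' = 0 := by omega
    subst hk0
    apply hScyc
    haveI : IsCyclic (QuaternionGroup (2 ^ 0)) := by
      rw [pow_zero]; exact QuaternionGroup.quaternionGroup_one_isCyclic
    exact isCyclic_of_surjective e.symm e.symm.surjective
  have hk1 : k' = 1 := by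
    apply quaternion_index hsol _ (S : Subgroup G) k' e hk'
    intro L hL ⟨m, hm, hom⟩ a hoa
    exact hstar L hL a ⟨m, hm, by rw [hom, hoa]⟩
  subst hk1
  have h8 : (Nat.card G).factorization 2 = 3 := by
    have h1 := S.card_eq_multiplicity
    have h2 : Nat.card ↥(S : Subgroup G) = 8 := by
      rw [Nat.card_congr e.toEquiv, Nat.card_eq_fintype_card, QuaternionGroup.card]
      norm_num
    rw [h2] at h1
    have : (2 : ℕ) ^ 3 = 2 ^ (Nat.card G).factorization 2 := by rw [← h1]; norm_num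
    exact (Nat.pow_right_injective (le_refl 2) this).symm
  -- a minimal normal subgroup of `G` inside `M`
  have hM1 : M ≠ ⊥ := by
    intro h
    apply hodd
    rw [h, Subgroup.card_bot]
    exact odd_one
  obtain ⟨N, hNn, hN1, hNM, hNmin⟩ := exists_min_normal_le M hMn hM1
  haveI := hNn
  have hBN : BProp (G ⧸ N) := by
    by_cases hNodd : Odd (Nat.card ↥N)
    · exact Cfsg.Agent.S3911.result hB N hNodd
    · have heven : 2 ∣ Nat.card ↥N := by
        rw [← even_iff_two_dvd, ← Nat.not_odd_iff_even]; exact hNodd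
      have hexp := exp_two_of_min_normal N hNn hN1 hNmin heven
      have hNp : IsPGroup 2 ↥N := by
        intro x
        refine ⟨1, ?_⟩
        have := hexp x x.2
        apply Subtype.ext
        simpa using this
      have hNS : N ≤ (S : Subgroup G) := IsPGroup.le_sylow_of_normal hNp S
      have hle := card_le_two_of_exp_two (S : Subgroup G) 1 e N hNS hexp
      have hN2 : Nat.card ↥N = 2 := by
        have h1 : 1 < Nat.card ↥N := by
          rw [Subgroup.one_lt_card_iff_ne_bot]; exact hN1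
        omega
      exact bprop_quotient_card_two hB N hN2 h8
  apply bprop_quotient_descent N M hNM
  have hlt : Nat.card ↥(M.map (QuotientGroup.mk' N)) < k := by
    rw [← hMk]; exact card_map_lt N M hNM hN1
  exact ih _ hlt (G ⧸ N) hBN inferInstance (M.map (QuotientGroup.mk' N)) rfl

end main

end Cfsg.Agent.Lib.Helper66.BGroupQuot
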