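import Mathlib
import Cfsg.Prelude.Def_GeometricClasses

/-!
# BHR row kit (helper66): arithmetic of `IsMinimalFieldFor`
-/

set_option autoImplicit false

namespace Cfsg.Agent.Lib.Helper66.Bhr

open Cfsg Cfsg.Geo

variable {F : Type*} [Field F] [Fintype F]

/-- `e` is the order of `p` modulo `z`: it divides every `d > 0` with `z ∣ p ^ d - 1` -/
theorem minField_dvd {z p e : ℕ} (h : IsMinimalFieldFor z p e F) (d : ℕ) (_hd : 0 < d)
    (hdvd : z ∣ p ^ d - 1) : e ∣ d := by
  obtain ⟨hp, -, hcard, hze, hmin⟩ := h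
  have he : 0 < e := by
    rcases Nat.eq_zero_or_pos e with h0 | h0
    · rw [h0, pow_zero] at hcard
      have := Fintype.one_lt_card (α := F)
      omega
    · exact h0
  have h1 : ∀ k, 1 ≤ p ^ k := fun k => Nat.one_le_pow _ _ hp.pos
  have me : 1 ≡ p ^ e [MOD z] := (Nat.modEq_iff_dvd' (h1 e)).mpr hze
  have md : 1 ≡ p ^ d [MOD z] := (Nat.modEq_iff_dvd' (h1 d)).mpr hdvd
  -- `d = e * a + b`
  have hdecomp : d = e * (d / e) + d % e := (Nat.div_add_mod d e).symm
  have mb : 1 ≡ p ^ (d % e) [MOD z] := by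
    have h2 : p ^ d ≡ p ^ (d % e) [MOD z] := by
      conv_lhs => rw [hdecomp, pow_add, pow_mul]
      have h3 : (p ^ e) ^ (d / e) ≡ 1 [MOD z] := by
        have := (me.symm.pow (d / e))
        rwa [one_pow] at this
      have := h3.mul_right (p ^ (d % e))
      rwa [one_mul] at this
    exact md.trans h2
  have hb : z ∣ p ^ (d % e) - 1 := (Nat.modEq_iff_dvd' (h1 _)).mp mb
  by_contra hnd
  have hpos : 0 < d % e := Nat.pos_of_ne_zero (fun h0 => hnd (Nat.dvd_of_mod_eq_zero h0))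
  exact hmin (d % e) hpos (Nat.mod_lt _ he) hb

/-- for a prime `r ≠ p`: `e ∣ r - 1` -/
theorem minField_dvd_pred {r p e : ℕ} (hr : r.Prime) (hrp : r ≠ p) (h : IsMinimalFieldFor r p e F) :
    e ∣ r - 1 := by
  have hp := h.1
  apply minField_dvd h (r - 1) (by have := hr.two_le; omega)
  have hcop : Nat.Coprime p r := (Nat.coprime_primes hp hr).mpr (Ne.symm hrp)
  have := Nat.ModEq.pow_totient hcop
  rw [Nat.totient_prime hr] at this
  exact (Nat.modEq_iff_dvd' (Nat.one_le_pow _ _ hp.pos)).mp this.symm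

end Cfsg.Agent.Lib.Helper66.Bhr
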