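import Mathlib
import Cfsg.Prelude.Def_GeometricClasses
import Cfsg.Agent.Lib.Helper99.AschDefs
import Cfsg.Agent.Lib.Helper99.AschDefsR
import Cfsg.Agent.Lib.Helper66.BhrMinField

/-!
# BHR row kit (helper66): the case list of a maximal subgroup of `SL_n(q)` for a prime dimension `n`

`MaxCases H` is the conclusion of helper99's `maximal_cases`; `prime_dim_cases_of` prunes it for prime `n`.
-/

set_option autoImplicit false

namespace Cfsg.Agent.Lib.Helper66.Bhr

open Cfsg Cfsg.Geo Cfsg.Agent.Lib.Helper99.Asch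
open scoped MatrixGroups Matrix Kronecker

variable {n : ℕ} {F : Type*} [Field F] [Fintype F]

/-- The conclusion of helper99's `maximal_cases` (BHR-[MAXCASES]), as a predicate. -/
def MaxCases (H : Subgroup (GL (Fin n) F)) : Prop :=
    (∃ W : Submodule F (Fin n → F), W ≠ ⊥ ∧ W ≠ ⊤ ∧
      H = subspaceStabilizer W ⊓ specialLinear (Fin n) F) ∨
    (∃ (t m : ℕ) (D : Fin t → Submodule F (Fin n → F)), IsMDecomposition m D ∧ t * m = n ∧
      (m = 1 → 5 ≤ Fintype.card F) ∧ (m = 2 → 3 ≤ Fintype.card F) ∧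
      H = decompositionStabilizer D ⊓ specialLinear (Fin n) F) ∨
    (∃ (r : ℕ) (K : Subalgebra F (Matrix (Fin n) (Fin n) F)), r.Prime ∧ r ∣ n ∧ IsFieldSubalgebra r K ∧
      H = subalgebraNormalizer K ⊓ specialLinear (Fin n) F) ∨
    (∃ (n₁ n₂ : ℕ) (e : Fin n ≃ Fin n₁ × Fin n₂) (P : GL (Fin n) F), 2 ≤ n₁ ∧ n₁ < n₂ ∧ n₁ * n₂ = n ∧
      (n₁ = 2 → 3 ≤ Fintype.card F) ∧
      H = tensorProductSubgroup n₁ n₂ e P ⊓ specialLinear (Fin n) F) ∨
    (∃ (F₀ : Subfield F) (r : ℕ) (P : GL (Fin n) F), r.Prime ∧ Fintype.card F = Nat.card F₀ ^ r ∧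
      H = subfieldSubgroup F₀ P ⊓ specialLinear (Fin n) F) ∨
    (∃ (r : ℕ) (R : Subgroup (GL (Fin n) F)) (m : ℕ), IsLinearSymplecticTypeData r R ∧ 1 ≤ m ∧ n = r ^ m ∧
      H = subgroupNormalizer R ⊓ specialLinear (Fin n) F) ∨
    (∃ (m t : ℕ) (e : Fin n ≃ (Fin t → Fin m)) (P : GL (Fin n) F), 3 ≤ m ∧ 2 ≤ t ∧ m ^ t = n ∧
      H = tensorWreathSubgroup m t e P ⊓ specialLinear (Fin n) F) ∨
    (∃ f : (Fin n → F) → (Fin n → F) → F, IsSymplecticForm f ∧ Even n ∧
      H = similarityGroup f ⊓ specialLinear (Fin n) F) ∨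
    (∃ (σ : F ≃+* F) (f : (Fin n → F) → (Fin n → F) → F), IsUnitaryForm σ f ∧
      H = similarityGroup f ⊓ specialLinear (Fin n) F) ∨
    (∃ Q : (Fin n → F) → F, IsNondegenerateQuadraticForm Q ∧ Odd (Fintype.card F) ∧
      H = quadSimilarityGroup Q ⊓ specialLinear (Fin n) F) ∨
    InLinearResidualClass H

/-- The case list for a prime dimension `n ≥ 3`: only the classes 1, 2 (lines), 3 (degree `n`), 5, 6 (`r = n`, with the
arithmetic of the minimal field: `|F| = p ^ e`, `e` odd, `e ∣ n - 1`, `e` the order of `p` mod `n`), the quadratic and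
unitary similarity groups and the residual class survive. -/
theorem prime_dim_cases_of (hn : 3 ≤ n) (hnp : n.Prime) (H : Subgroup (GL (Fin n) F))
    (hmax : MaxCases H) :
    (∃ W : Submodule F (Fin n → F), W ≠ ⊥ ∧ W ≠ ⊤ ∧
      H = subspaceStabilizer W ⊓ specialLinear (Fin n) F) ∨
    (5 ≤ Fintype.card F ∧ ∃ D : Fin n → Submodule F (Fin n → F), IsMDecomposition 1 D ∧
      H = decompositionStabilizer D ⊓ specialLinear (Fin n) F) ∨
    (∃ K : Subalgebra F (Matrix (Fin n) (Fin n) F), IsFieldSubalgebra n K ∧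
      H = subalgebraNormalizer K ⊓ specialLinear (Fin n) F) ∨
    (∃ (F₀ : Subfield F) (r : ℕ) (P : GL (Fin n) F), r.Prime ∧ Fintype.card F = Nat.card F₀ ^ r ∧
      H = subfieldSubgroup F₀ P ⊓ specialLinear (Fin n) F) ∨
    ((∃ p e : ℕ, p.Prime ∧ CharP F p ∧ Fintype.card F = p ^ e ∧ Odd e ∧ e ∣ n - 1 ∧ n ∣ p ^ e - 1 ∧
        ∀ d : ℕ, 0 < d → d < e → ¬ n ∣ p ^ d - 1) ∧
      ∃ R : Subgroup (GL (Fin n) F), IsLinearSymplecticTypeData n R ∧
        H = subgroupNormalizer R ⊓ specialLinear (Fin n) F) ∨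
    (Odd (Fintype.card F) ∧ ∃ Q : (Fin n → F) → F, IsNondegenerateQuadraticForm Q ∧
      H = quadSimilarityGroup Q ⊓ specialLinear (Fin n) F) ∨
    (∃ (σ : F ≃+* F) (f : (Fin n → F) → (Fin n → F) → F), IsUnitaryForm σ f ∧
      H = similarityGroup f ⊓ specialLinear (Fin n) F) ∨
    InLinearResidualClass H := by
  have hodd : Odd n := hnp.odd_of_ne_two (by omega)
  rcases hmax with h | h | h | h | h | h | h | h | h | h | h
  · exact Or.inl h
  · -- decompositions: `t * m = n`, `t ≥ 2`, so `t = n`, `m = 1`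
    obtain ⟨t, m, D, hD, htm, hm1, -, hHD⟩ := h
    have ht2 := hD.two_le
    have htn : t = n := by
      rcases (Nat.dvd_prime hnp).mp (Dvd.intro m htm) with h1 | h1
      · omega
      · exact h1
    subst htn
    have hm : m = 1 := by
      have : t * m = t * 1 := by rw [htm, mul_one]
      exact Nat.eq_of_mul_eq_mul_left (by omega) this
    subst hm
    exact Or.inr (Or.inl ⟨hm1 rfl, D, hD, hHD⟩)
  · -- field normalisers: `r ∣ n`, so `r = n`
    obtain ⟨r, K, hr, hrn, hK, hHK⟩ := h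
    have : r = n := (Nat.prime_dvd_prime_iff_eq hr hnp).mp hrn
    subst this
    exact Or.inr (Or.inr (Or.inl ⟨K, hK, hHK⟩))
  · -- tensor products: impossible
    exfalso
    obtain ⟨n₁, n₂, -, -, h1, h12, hmul, -, -⟩ := h
    rcases (Nat.dvd_prime hnp).mp (Dvd.intro n₂ hmul) with h3 | h3
    · omega
    · rw [h3] at hmul h12
      have : n * n₂ = n * 1 := by rw [hmul, mul_one]
      have := Nat.eq_of_mul_eq_mul_left (by omega) this
      omega
  · exact Or.inr (Or.inr (Or.inr (Or.inl h)))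
  · -- symplectic type: `n = r ^ m`, so `r = n` (and `m = 1`)
    obtain ⟨r, R, m, hR, hm, hnrm, hHR⟩ := h
    have hrn : r = n := by
      have hdvd : r ∣ n := by
        rw [hnrm]; exact dvd_pow_self r (by omega)
      rcases (Nat.dvd_prime hnp).mp hdvd with h1 | h1
      · rw [h1, one_pow] at hnrm; omega
      · exact h1
    subst hrn
    refine Or.inr (Or.inr (Or.inr (Or.inr (Or.inl ⟨?_, R, hR, hHR⟩))))
    obtain ⟨p, e, hrp, hmf, hcases⟩ := hR.field
    rcases hcases with ⟨-, hoe, hcen, -⟩ | ⟨h2, -⟩ | ⟨h2, -⟩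
    · rw [hcen] at hmf
      have hmf' := hmf
      obtain ⟨hp, hchar, hcard, hdv, hmin⟩ := hmf
      exact ⟨p, e, hp, hchar, hcard, hoe, minField_dvd_pred hnp hrp hmf', hdv, hmin⟩
    · omega
    · omega
  · -- tensor wreath: `m ^ t = n` with `m ≥ 3`, `t ≥ 2` is impossible
    exfalso
    obtain ⟨m, t, -, -, hm, ht, hmt, -⟩ := h
    have hdvd : m ∣ n := by
      rw [← hmt]; exact dvd_pow_self m (by omega)
    rcases (Nat.dvd_prime hnp).mp hdvd with h1 | h1
    · omega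
    · rw [h1] at hmt
      have h2 : n ^ 2 ≤ n ^ t := Nat.pow_le_pow_right (by omega) ht
      have h3 : n * n = n ^ 2 := (pow_two n).symm
      have h4 : n * 3 ≤ n * n := Nat.mul_le_mul_left n hn
      omega
  · -- symplectic forms: `n` is odd
    exfalso
    obtain ⟨-, -, hev, -⟩ := h
    exact (Nat.not_even_iff_odd.mpr hodd) hev
  · exact Or.inr (Or.inr (Or.inr (Or.inr (Or.inr (Or.inr (Or.inl h))))))
  · obtain ⟨Q, hQ, hq, hHQ⟩ := h
    exact Or.inr (Or.inr (Or.inr (Or.inr (Or.inr (Or.inl ⟨hq, Q, hQ, hHQ⟩)))))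
  · exact Or.inr (Or.inr (Or.inr (Or.inr (Or.inr (Or.inr (Or.inr h))))))

end Cfsg.Agent.Lib.Helper66.Bhr
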