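/-
helper66, project BHRSP phase 2 (helper94, S5787).  Module BHRSP-[3B-R0-CARD] (hedge of helper21's row):
`|Rc P| = 32` and `|Z(Rc P)| = 2` when `|F| = 3`  (`Rc P = P (Q_8 ⊗ O_2) P⁻¹ = 2_-^(1+4)`).
The sixteen matrices `tens q d` (`q ∈ {1, A2, B2, C2}`, `d ∈ {1, J2, T2, S2}`) are a basis of `M_4(F)`.
-/
import Mathlib
import Cfsg.Prelude.Def_GeometricClasses
import Cfsg.Agent.Lib.Helper94.BHRSP.Sp4Kit
import Cfsg.Agent.Lib.Helper11.BhrSp4R0Irr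

set_option autoImplicit false
set_option linter.unusedSimpArgs false
set_option linter.unusedSectionVars false

namespace Cfsg.Agent.Lib.Helper66.BhrSp4R0Card

open Cfsg Cfsg.Geo Cfsg.Agent.Lib.Helper94.BHRSP.Sp4
open scoped MatrixGroups Matrix

variable {F : Type*} [Field F]

/-- the four matrices `1, A2, B2, C2` of `Q_8` up to sign -/
def Qm : Fin 4 → Matrix (Fin 2) (Fin 2) F := ![1, A2, B2, C2]
/-- the four matrices `1, J2, T2, S2` of `O_2` up to sign -/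
def Om : Fin 4 → Matrix (Fin 2) (Fin 2) F := ![1, J2, T2, S2]

/-- the sixteen matrices `tens q d` -/
def X (p : Fin 4 × Fin 4) : Matrix (Fin 2 ⊕ Fin 2) (Fin 2 ⊕ Fin 2) F := tens (Qm p.1) (Om p.2)

theorem span_X (h3 : (3 : F) = 0) : Submodule.span F (Set.range (X (F := F))) = ⊤ := by
  rw [eq_top_iff]
  intro M _
  obtain ⟨W, hW⟩ : ∃ W, W = Submodule.span F (Set.range (X (F := F))) := ⟨_, rfl⟩
  rw [← hW]
  have hX : ∀ a b, tens (Qm a) (Om b) ∈ W := fun a b => by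
    rw [hW]; exact Submodule.subset_span ⟨(a, b), rfl⟩
  have key : ∀ a b : Matrix (Fin 2) (Fin 2) F, tens a b ∈ W := by
    intro a b
    have hd : ∀ j : Fin 4, ∀ a, tens a (Om j) ∈ W := by
      intro j a
      refine Cfsg.Agent.Lib.Helper11.BhrSp4R0Irr.tens_left_mem h3 W _ ?_ ?_ ?_ ?_ a
      · exact hX 0 j
      · exact hX 1 j
      · exact hX 2 j
      · rw [A2_mul_B2]; exact hX 3 j
    refine Cfsg.Agent.Lib.Helper11.BhrSp4R0Irr.tens_right_mem h3 W a ?_ ?_ ?_ ?_ b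
    · exact hd 0 a
    · exact hd 1 a
    · exact hd 2 a
    · rw [J2_mul_T2]; exact hd 3 a
  rw [← Matrix.fromBlocks_toBlocks M, Cfsg.Agent.Lib.Helper11.BhrSp4R0Irr.fromBlocks_eq_tens]
  exact W.add_mem (W.add_mem (W.add_mem (key _ _) (key _ _)) (key _ _)) (key _ _)

theorem linInd_X (h3 : (3 : F) = 0) : LinearIndependent F (X (F := F)) := by
  apply linearIndependent_of_top_le_span_of_card_eq_finrank
  · rw [span_X h3]
  · simp [Module.finrank_matrix]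

theorem smul_X_inj (hli : LinearIndependent F (X (F := F))) {ε ε' : F} {p p' : Fin 4 × Fin 4}
    (hε : ε ≠ 0) (h : ε • X (F := F) p = ε' • X (F := F) p') : p = p' ∧ ε = ε' := by
  have h1 : Finsupp.linearCombination F (X (F := F)) (Finsupp.single p ε) =
      Finsupp.linearCombination F (X (F := F)) (Finsupp.single p' ε') := by
    rw [Finsupp.linearCombination_single, Finsupp.linearCombination_single, h]
  have h2 := hli h1
  rcases (Finsupp.single_eq_single_iff _ _ _ _).mp h2 with h4 | h4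
  · exact h4
  · exact absurd h4.1 hε

/-- signs -/
def IsSign (ε : F) : Prop := ε = 1 ∨ ε = -1

theorem IsSign.ne_zero {ε : F} (h : IsSign ε) : ε ≠ 0 := by
  rcases h with rfl | rfl
  · exact one_ne_zero
  · exact neg_ne_zero.mpr one_ne_zero

theorem IsSign.mul {ε ε' : F} (h : IsSign ε) (h' : IsSign ε') : IsSign (ε * ε') := by
  rcases h with rfl | rfl <;> rcases h' with rfl | rfl <;> simp [IsSign]

theorem exists_sign_Q (M : Matrix (Fin 2) (Fin 2) F) (hM : IsQ8Mat M) :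
    ∃ ε : F, IsSign ε ∧ ∃ a, M = ε • Qm a := by
  rcases hM with h | h | h | h | h | h | h | h
  · exact ⟨1, Or.inl rfl, 0, by simp [h, Qm]⟩
  · exact ⟨-1, Or.inr rfl, 0, by simp [h, Qm]⟩
  · exact ⟨1, Or.inl rfl, 1, by simp [h, Qm]⟩
  · exact ⟨-1, Or.inr rfl, 1, by simp [h, Qm]⟩
  · exact ⟨1, Or.inl rfl, 2, by simp [h, Qm]⟩
  · exact ⟨-1, Or.inr rfl, 2, by simp [h, Qm]⟩
  · exact ⟨1, Or.inl rfl, 3, by simp [h, Qm]⟩
  · exact ⟨-1, Or.inr rfl, 3, by simp [h, Qm]⟩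

theorem exists_sign_O (M : Matrix (Fin 2) (Fin 2) F) (hM : IsO2Mat M) :
    ∃ ε : F, IsSign ε ∧ ∃ a, M = ε • Om a := by
  rcases hM with h | h | h | h | h | h | h | h
  · exact ⟨1, Or.inl rfl, 0, by simp [h, Om]⟩
  · exact ⟨-1, Or.inr rfl, 0, by simp [h, Om]⟩
  · exact ⟨1, Or.inl rfl, 1, by simp [h, Om]⟩
  · exact ⟨-1, Or.inr rfl, 1, by simp [h, Om]⟩
  · exact ⟨1, Or.inl rfl, 2, by simp [h, Om]⟩
  · exact ⟨-1, Or.inr rfl, 2, by simp [h, Om]⟩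
  · exact ⟨1, Or.inl rfl, 3, by simp [h, Om]⟩
  · exact ⟨-1, Or.inr rfl, 3, by simp [h, Om]⟩

/-- every element of `R0` is `± tens q d`. -/
theorem exists_sign_of_mem_R0 [Fintype F] (hq : Fintype.card F = 3) (x : GL (Fin 2 ⊕ Fin 2) F)
    (hx : x ∈ (R0 : Subgroup (GL (Fin 2 ⊕ Fin 2) F))) :
    ∃ ε : F, IsSign ε ∧ ∃ p, (x : Matrix (Fin 2 ⊕ Fin 2) (Fin 2 ⊕ Fin 2) F) = ε • X (F := F) p := by
  obtain ⟨q, hqm, d, hdm, rfl⟩ := (mem_R0_iff x).mp hx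
  obtain ⟨ε, hε, a, ha⟩ := exists_sign_Q _ ((mem_Q8_iff hq q).mp hqm)
  obtain ⟨ε', hε', b, hb⟩ := exists_sign_O _ ((mem_O2_iff' hq d).mp hdm)
  refine ⟨ε * ε', hε.mul hε', (a, b), ?_⟩
  rw [tensGL_val, ha, hb, tens_smul_left, tens_smul_right, smul_smul]
  rfl

/-- the generators in `GL_2` -/
def Qg (h3 : (3 : F) = 0) : Fin 4 → GL (Fin 2) F := ![1, A2gl, B2gl h3, A2gl * B2gl h3]
def Og : Fin 4 → GL (Fin 2) F := ![1, J2gl, T2gl', J2gl * T2gl']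

theorem Qg_val (h3 : (3 : F) = 0) (a : Fin 4) :
    ((Qg h3 a : GL (Fin 2) F) : Matrix (Fin 2) (Fin 2) F) = Qm a := by
  fin_cases a
  · rfl
  · rfl
  · rfl
  · change ((A2gl * B2gl h3 : GL (Fin 2) F) : Matrix (Fin 2) (Fin 2) F) = C2
    rw [Units.val_mul, A2gl_val, B2gl_val, A2_mul_B2]

theorem Og_val (b : Fin 4) :
    ((Og b : GL (Fin 2) F) : Matrix (Fin 2) (Fin 2) F) = Om b := by
  fin_cases b
  · rfl
  · rfl
  · rfl
  · change ((J2gl * T2gl' : GL (Fin 2) F) : Matrix (Fin 2) (Fin 2) F) = S2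
    rw [Units.val_mul, J2gl_val, T2gl'_val, J2_mul_T2]

theorem Qg_mem [Fintype F] (hq : Fintype.card F = 3) (a : Fin 4) :
    Qg (three_eq_zero hq) a ∈ (Q8 : Subgroup (GL (Fin 2) F)) := by
  rw [mem_Q8_iff hq, Qg_val]
  unfold IsQ8Mat
  fin_cases a <;> simp [Qm]

theorem Og_mem [Fintype F] (hq : Fintype.card F = 3) (b : Fin 4) :
    (Og b : GL (Fin 2) F) ∈ (O2 : Subgroup (GL (Fin 2) F)) := by
  rw [mem_O2_iff' hq, Og_val]
  unfold IsO2Mat
  fin_cases b <;> simp [Om]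

/-- the sign as an element of `GL_2` -/
def sg : Fin 2 → GL (Fin 2) F := ![1, -1]
def sgn : Fin 2 → F := ![1, -1]

theorem sg_val (s : Fin 2) : ((sg s : GL (Fin 2) F) : Matrix (Fin 2) (Fin 2) F) =
    (sgn s : F) • (1 : Matrix (Fin 2) (Fin 2) F) := by
  fin_cases s
  · change ((1 : GL (Fin 2) F) : Matrix (Fin 2) (Fin 2) F) = (1 : F) • 1
    simp
  · change ((-1 : GL (Fin 2) F) : Matrix (Fin 2) (Fin 2) F) = (-1 : F) • 1
    simp

theorem sg_mem (s : Fin 2) : (sg s : GL (Fin 2) F) ∈ (Q8 : Subgroup (GL (Fin 2) F)) := by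
  fin_cases s
  · exact Subgroup.one_mem _
  · exact neg_one_mem_Q8

theorem isSign_sgn (s : Fin 2) : IsSign (sgn s : F) := by
  fin_cases s
  · exact Or.inl rfl
  · exact Or.inr rfl

/-- the parametrisation of `R0` -/
def gpar [Fintype F] (hq : Fintype.card F = 3) (t : Fin 2 × Fin 4 × Fin 4) :
    (R0 : Subgroup (GL (Fin 2 ⊕ Fin 2) F)) :=
  ⟨tensGL (sg t.1 * Qg (three_eq_zero hq) t.2.1) (Og t.2.2),
    (mem_R0_iff _).mpr ⟨_, Subgroup.mul_mem _ (sg_mem _) (Qg_mem hq _), _, Og_mem hq _, rfl⟩⟩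

theorem gpar_val [Fintype F] (hq : Fintype.card F = 3) (t : Fin 2 × Fin 4 × Fin 4) :
    (((gpar hq t : (R0 : Subgroup (GL (Fin 2 ⊕ Fin 2) F))) : GL (Fin 2 ⊕ Fin 2) F) :
      Matrix (Fin 2 ⊕ Fin 2) (Fin 2 ⊕ Fin 2) F) = (sgn t.1 : F) • X (F := F) t.2 := by
  change ((tensGL (sg t.1 * Qg (three_eq_zero hq) t.2.1) (Og t.2.2) : GL (Fin 2 ⊕ Fin 2) F) :
    Matrix (Fin 2 ⊕ Fin 2) (Fin 2 ⊕ Fin 2) F) = _
  rw [tensGL_val, Units.val_mul, sg_val, Qg_val, Og_val, Matrix.smul_mul, Matrix.one_mul, tens_smul_left]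
  rfl

theorem one_ne_neg_one3 [Fintype F] (hq : Fintype.card F = 3) : (1 : F) ≠ -1 := by
  intro h
  have h2 := two_ne_zero3 hq
  apply h2
  linear_combination h

theorem gpar_bijective [Fintype F] (hq : Fintype.card F = 3) : Function.Bijective (gpar (F := F) hq) := by
  have hli := linInd_X (three_eq_zero hq)
  constructor
  · intro t t' h
    have h1 := gpar_val hq t
    rw [h, gpar_val hq t'] at h1
    obtain ⟨hp, hs⟩ := smul_X_inj hli (isSign_sgn t'.1).ne_zero h1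
    have hs' : t.1 = t'.1 := by
      have h11 := one_ne_neg_one3 hq
      rcases t with ⟨s, p⟩
      rcases t' with ⟨s', p'⟩
      simp only at hs ⊢
      fin_cases s <;> fin_cases s' <;> simp [sgn] at hs ⊢
      · first | exact h11 hs | exact h11 hs.symm
      · first | exact h11 hs | exact h11 hs.symm
    exact Prod.ext hs' hp.symm
  · rintro ⟨x, hx⟩
    obtain ⟨ε, hε, p, hp⟩ := exists_sign_of_mem_R0 hq x hx
    rcases hε with rfl | rfl
    · refine ⟨(0, p), ?_⟩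
      apply Subtype.ext
      apply Units.ext
      rw [gpar_val, hp]
      rfl
    · refine ⟨(1, p), ?_⟩
      apply Subtype.ext
      apply Units.ext
      rw [gpar_val, hp]
      rfl

theorem card_R0 [Fintype F] (hq : Fintype.card F = 3) :
    Nat.card (R0 : Subgroup (GL (Fin 2 ⊕ Fin 2) F)) = 32 := by
  rw [← Nat.card_congr (Equiv.ofBijective _ (gpar_bijective hq))]
  simp

/-- a unit is not its own negative (characteristic `≠ 2`) -/
theorem unit_ne_neg (h2 : (2 : F) ≠ 0) (u : GL (Fin 2 ⊕ Fin 2) F) :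
    (u : Matrix (Fin 2 ⊕ Fin 2) (Fin 2 ⊕ Fin 2) F) ≠ -(u : Matrix (Fin 2 ⊕ Fin 2) (Fin 2 ⊕ Fin 2) F) := by
  intro h
  have h1 : (2 : F) • (u : Matrix (Fin 2 ⊕ Fin 2) (Fin 2 ⊕ Fin 2) F) = 0 := by
    rw [two_smul]
    nth_rewrite 2 [h]
    exact add_neg_cancel _
  have h0 : (u : Matrix (Fin 2 ⊕ Fin 2) (Fin 2 ⊕ Fin 2) F) = 0 := by
    rcases smul_eq_zero.mp h1 with h | h
    · exact absurd h h2
    · exact h
  have h4 : (1 : Matrix (Fin 2 ⊕ Fin 2) (Fin 2 ⊕ Fin 2) F) = 0 := by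
    rw [← Units.inv_mul u, h0, mul_zero]
  exact one_ne_zero h4

theorem no_anticomm (h2 : (2 : F) ≠ 0) (z y : GL (Fin 2 ⊕ Fin 2) F) (hcomm : z * y = y * z)
    (hanti : (z : Matrix (Fin 2 ⊕ Fin 2) (Fin 2 ⊕ Fin 2) F) * (y : Matrix (Fin 2 ⊕ Fin 2) (Fin 2 ⊕ Fin 2) F) =
      -((y : Matrix (Fin 2 ⊕ Fin 2) (Fin 2 ⊕ Fin 2) F) * (z : Matrix (Fin 2 ⊕ Fin 2) (Fin 2 ⊕ Fin 2) F))) :
    False := by
  apply unit_ne_neg h2 (y * z)
  calc ((y * z : GL (Fin 2 ⊕ Fin 2) F) : Matrix (Fin 2 ⊕ Fin 2) (Fin 2 ⊕ Fin 2) F)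
      = ((z * y : GL (Fin 2 ⊕ Fin 2) F) : Matrix (Fin 2 ⊕ Fin 2) (Fin 2 ⊕ Fin 2) F) := by rw [hcomm]
    _ = (z : Matrix (Fin 2 ⊕ Fin 2) (Fin 2 ⊕ Fin 2) F) * (y : Matrix (Fin 2 ⊕ Fin 2) (Fin 2 ⊕ Fin 2) F) :=
        Units.val_mul _ _
    _ = -((y : Matrix (Fin 2 ⊕ Fin 2) (Fin 2 ⊕ Fin 2) F) * (z : Matrix (Fin 2 ⊕ Fin 2) (Fin 2 ⊕ Fin 2) F)) := hanti
    _ = -((y * z : GL (Fin 2 ⊕ Fin 2) F) : Matrix (Fin 2 ⊕ Fin 2) (Fin 2 ⊕ Fin 2) F) := by rw [Units.val_mul]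

theorem anti_left (ε : F) (M M' N : Matrix (Fin 2) (Fin 2) F) (h : M * M' = -(M' * M)) :
    (ε • tens M N) * tens M' 1 = -(tens M' 1 * (ε • tens M N)) := by
  rw [Matrix.smul_mul, Matrix.mul_smul, tens_mul, tens_mul, h, tens_neg_left, Matrix.mul_one, Matrix.one_mul,
    smul_neg]

theorem anti_right (ε : F) (M N N' : Matrix (Fin 2) (Fin 2) F) (h : N * N' = -(N' * N)) :
    (ε • tens M N) * tens 1 N' = -(tens 1 N' * (ε • tens M N)) := by
  rw [Matrix.smul_mul, Matrix.mul_smul, tens_mul, tens_mul, h, tens_neg_right, Matrix.mul_one, Matrix.one_mul,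
    smul_neg]

/-- a central element of `R0` is `± 1`. -/
theorem central_R0 [Fintype F] (hq : Fintype.card F = 3) (z : GL (Fin 2 ⊕ Fin 2) F)
    (hz : z ∈ (R0 : Subgroup (GL (Fin 2 ⊕ Fin 2) F)))
    (hc : ∀ y ∈ (R0 : Subgroup (GL (Fin 2 ⊕ Fin 2) F)), z * y = y * z) : z = 1 ∨ z = -1 := by
  have h3 := three_eq_zero hq
  have h2 := two_ne_zero3 hq
  obtain ⟨ε, hε, ⟨a, b⟩, hp⟩ := exists_sign_of_mem_R0 hq z hz
  have hQ : ∀ a' : Fin 4, tensGL (Qg h3 a') 1 ∈ (R0 : Subgroup (GL (Fin 2 ⊕ Fin 2) F)) := fun a' =>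
    (mem_R0_iff _).mpr ⟨_, Qg_mem hq a', 1, Subgroup.one_mem _, rfl⟩
  have hO : ∀ b' : Fin 4, tensGL 1 (Og b') ∈ (R0 : Subgroup (GL (Fin 2 ⊕ Fin 2) F)) := fun b' =>
    (mem_R0_iff _).mpr ⟨1, Subgroup.one_mem _, _, Og_mem hq b', rfl⟩
  have hQv : ∀ a' : Fin 4, ((tensGL (Qg h3 a') 1 : GL (Fin 2 ⊕ Fin 2) F) :
      Matrix (Fin 2 ⊕ Fin 2) (Fin 2 ⊕ Fin 2) F) = tens (Qm a') 1 := by
    intro a'; rw [tensGL_val, Qg_val, Units.val_one]
  have hOv : ∀ b' : Fin 4, ((tensGL 1 (Og b') : GL (Fin 2 ⊕ Fin 2) F) :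
      Matrix (Fin 2 ⊕ Fin 2) (Fin 2 ⊕ Fin 2) F) = tens 1 (Om b') := by
    intro b'; rw [tensGL_val, Og_val, Units.val_one]
  have killQ : ∀ a' : Fin 4, Qm (F := F) a * Qm a' = -(Qm a' * Qm a) → False := by
    intro a' h
    refine no_anticomm h2 z _ (hc _ (hQ a')) ?_
    rw [hQv, hp]
    exact anti_left ε _ _ _ h
  have killO : ∀ b' : Fin 4, Om (F := F) b * Om b' = -(Om b' * Om b) → False := by
    intro b' h
    refine no_anticomm h2 z _ (hc _ (hO b')) ?_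
    rw [hOv, hp]
    exact anti_right ε _ _ _ h
  have ha : a = 0 := by
    clear hp
    fin_cases a
    · rfl
    · exact (killQ 2 (by simp [Qm, A2_mul_B2, B2_mul_A2])).elim
    · exact (killQ 1 (by simp [Qm, A2_mul_B2, B2_mul_A2])).elim
    · exact (killQ 1 (by simp [Qm, C2_mul_A2, A2_mul_C2])).elim
  have hb : b = 0 := by
    clear hp
    fin_cases b
    · rfl
    · exact (killO 2 (by simp [Om, J2_mul_T2, T2_mul_J2'])).elim
    · exact (killO 1 (by simp [Om, J2_mul_T2, T2_mul_J2'])).elim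
    · exact (killO 2 (by simp [Om, S2_mul_T2, T2_mul_S2])).elim
  subst ha hb
  have hX0 : X (F := F) (0, 0) = 1 := by
    change tens (1 : Matrix (Fin 2) (Fin 2) F) 1 = 1
    exact tens_one
  rw [hX0] at hp
  rcases hε with rfl | rfl
  · left; apply Units.ext; rw [hp, one_smul, Units.val_one]
  · right; apply Units.ext; rw [hp]; simp

theorem card_center_R0 [Fintype F] (hq : Fintype.card F = 3) :
    Nat.card (Subgroup.center (R0 : Subgroup (GL (Fin 2 ⊕ Fin 2) F))) = 2 := by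
  have h11 := one_ne_neg_one3 hq
  have hneg : (-1 : GL (Fin 2 ⊕ Fin 2) F) ∈ (R0 : Subgroup (GL (Fin 2 ⊕ Fin 2) F)) := by
    refine (mem_R0_iff _).mpr ⟨-1, neg_one_mem_Q8, 1, Subgroup.one_mem _, ?_⟩
    apply Units.ext
    rw [tensGL_val]
    simp [tens_neg_left, tens_one]
  have hnegc : (⟨-1, hneg⟩ : (R0 : Subgroup (GL (Fin 2 ⊕ Fin 2) F))) ∈
      Subgroup.center (R0 : Subgroup (GL (Fin 2 ⊕ Fin 2) F)) := by
    rw [Subgroup.mem_center_iff]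
    rintro ⟨y, hy⟩
    apply Subtype.ext
    simp
  rw [Nat.card_eq_two_iff]
  refine ⟨1, ⟨⟨-1, hneg⟩, hnegc⟩, ?_, ?_⟩
  · intro h
    have h1 : (1 : GL (Fin 2 ⊕ Fin 2) F) = -1 :=
      congrArg (fun w : Subgroup.center (R0 : Subgroup (GL (Fin 2 ⊕ Fin 2) F)) =>
        ((w : (R0 : Subgroup (GL (Fin 2 ⊕ Fin 2) F))) : GL (Fin 2 ⊕ Fin 2) F)) h
    have h2 := congrArg (fun u : GL (Fin 2 ⊕ Fin 2) F =>
      (u : Matrix (Fin 2 ⊕ Fin 2) (Fin 2 ⊕ Fin 2) F) (Sum.inl 0) (Sum.inl 0)) h1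
    simp at h2
    exact h11 h2
  · ext ⟨⟨z, hz⟩, hzc⟩
    simp only [Set.mem_insert_iff, Set.mem_singleton_iff, Set.mem_univ, iff_true]
    rw [Subgroup.mem_center_iff] at hzc
    have hc : ∀ y ∈ (R0 : Subgroup (GL (Fin 2 ⊕ Fin 2) F)), z * y = y * z := by
      intro y hy
      have := hzc ⟨y, hy⟩
      exact (congrArg Subtype.val this).symm
    rcases central_R0 hq z hz hc with rfl | rfl
    · left; rfl
    · right; rfl

end Cfsg.Agent.Lib.Helper66.BhrSp4R0Card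

namespace Cfsg.Agent.Lib.Helper66.BhrSp4

open Cfsg Cfsg.Geo Cfsg.Agent.Lib.Helper94.BHRSP.Sp4 Cfsg.Agent.Lib.Helper66.BhrSp4R0Card
open scoped MatrixGroups Matrix

variable {F : Type*} [Field F] [Fintype F]

/-- **BHRSP-[3B-R0-CARD]** (exact Skel2 statement): `|Rc P| = 32`, `|Z(Rc P)| = 2` for `|F| = 3`. -/
theorem card_Rc (hq : Fintype.card F = 3) (P : GL (Fin 2 ⊕ Fin 2) F) :
    Nat.card (Rc P) = 32 ∧ Nat.card (Subgroup.center (Rc P)) = 2 := by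
  have e : (R0 : Subgroup (GL (Fin 2 ⊕ Fin 2) F)) ≃* Rc P :=
    Subgroup.equivMapOfInjective R0 (MulAut.conj P).toMonoidHom (MulAut.conj P).injective
  constructor
  · rw [← Nat.card_congr e.toEquiv, card_R0 hq]
  · rw [← Nat.card_congr (Subgroup.centerCongr e).toEquiv, card_center_R0 hq]

end Cfsg.Agent.Lib.Helper66.BhrSp4
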