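import Mathlib
import Cfsg.Prelude.Def_GeometricClasses
import Cfsg.Prelude.Def_ClassicalGeometry
import Cfsg.Agent.Lib.Helper37.BHRSU5.Defs
import Cfsg.Agent.Lib.Helper37.BHRSU5.AsmC
import Cfsg.Agent.Lib.Helper37.BHRSU5.A1B
import Cfsg.Agent.Lib.Helper36.Bhrsu5A2COf
import Cfsg.Agent.Lib.Helper36.Bhrsu5UCrit
import Cfsg.Agent.Lib.Helper61.Bhrsu5B3
import Cfsg.Agent.Lib.Helper93.Bhrsu5CX66
import Cfsg.Agent.Lib.Helper66.Bhrsu5B4Of
import Cfsg.Agent.Lib.Helper66.Bhrsu5RowC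

/-!
# BHRSU5 (S5796): final assembly of the exception `q = 2`, class 3 over `F4c` (helper66)

`exists_between_field_five_c_h66`: the statement of BHRSU5-[ASM-C] from helper37's `exists_between_field_five_c_of`, helper36's
`exists_gu_conj_of`, helper37's `isU_of_root`, helper61's `normalizer_K0_le`, helper93's `stabX` memberships, helper36's `mem_SUg_iff`
and my `between_K0_of`.  Then `row5796` = the S5796 row.
-/

set_option autoImplicit false

namespace Cfsg.Agent.Lib.Helper66.Bhrsu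

open Cfsg Cfsg.Geo Cfsg.Agent.Lib.Helper70.AschU Cfsg.Agent.Lib.Helper37.BHRSU Cfsg.Agent.Lib.Helper37.BHRSU5
open scoped MatrixGroups Matrix

theorem exists_between_field_five_c_h66 (K : Subalgebra F4c M5) (hK : IsFieldSubalgebra 5 K)
    (hac : IsAdjointClosedFor (hermForm 5 F4c 2) K) :
    ∃ K' : Subgroup (GL (Fin 5) F4c), subalgebraNormalizer K ⊓ SUg 5 F4c 2 < K' ∧ K' < SUg 5 F4c 2 :=
  exists_between_field_five_c_of
    (fun K hK hac ζ hζ h11 hg => exists_gu_conj_of K hK ζ hζ h11 hg (isU_of_root K hK hac ζ hζ h11 hg))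
    (fun hK0 => Cfsg.Agent.Lib.Helper66.Bhrsu5B4.between_K0_of hK0 (normalizer_K0_le hK0) ZG_mem_stabX PG_mem_stabX
      SG_mem_stabX TG_not_mem_stabX mem_SUg_iff)
    K hK hac

end Cfsg.Agent.Lib.Helper66.Bhrsu
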