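import Mathlib
import Cfsg.Prelude.Def_GeometricClasses
import Cfsg.Prelude.Def_ClassicalGeometry
import Cfsg.Agent.Lib.Helper81.BhrsuMinField

/-!
# BHRSU5-[MINFIELD-5] (helper66, for helper37's BHRSU5 sheet, S5796)

The arithmetic of the class-6 row of `SU_5(q)`: if `F = F_{q²}` is the minimal field for `5` then `q = p ≡ 4 (mod 5)` or
`q = p²` with `p ≡ 2, 3 (mod 5)`.
-/

set_option autoImplicit false

namespace Cfsg.Agent.Lib.Helper66.Bhrsu5MinField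

theorem fin5 : ∀ x : ZMod 5, ∀ a : Fin 8, 0 < a.val → x ^ (2 * a.val) = 1 →
    (∀ d : Fin 16, 0 < d.val → d.val < 2 * a.val → x ^ d.val ≠ 1) →
    (a.val = 1 ∧ x.val = 4) ∨ (a.val = 2 ∧ (x.val = 2 ∨ x.val = 3)) := by
  decide

theorem fermat5 : ∀ x : ZMod 5, x ≠ 0 → x ^ 4 = 1 := by decide

end Cfsg.Agent.Lib.Helper66.Bhrsu5MinField

namespace Cfsg.Agent.Lib.Helper37.BHRSU5

open Cfsg Cfsg.Geo Cfsg.Agent.Lib.Helper81.BhrsuMinField Cfsg.Agent.Lib.Helper66.Bhrsu5MinField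

/-- BHRSU5-[MINFIELD-5] -/
theorem minfield_five {F : Type*} [Field F] [Fintype F] {q p e : ℕ} (h : IsMinimalFieldFor 5 p e F)
    (hF : Fintype.card F = q ^ 2) : (q = p ∧ p % 5 = 4) ∨ (q = p ^ 2 ∧ (p % 5 = 2 ∨ p % 5 = 3)) := by
  obtain ⟨a, ha, -, hq, h1, h2⟩ := core h hF
  have hx0 : (p : ZMod 5) ≠ 0 := by
    intro h0
    rw [h0, zero_pow (by omega)] at h1
    exact absurd h1 (by decide)
  have ha3 : a ≤ 2 := by
    by_contra hcon
    exact h2 4 (by norm_num) (by omega) (fermat5 _ hx0)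
  have hv : (p : ZMod 5).val = p % 5 := ZMod.val_natCast 5 p
  rcases fin5 (p : ZMod 5) ⟨a, by omega⟩ ha h1 (fun d hd hd2 => h2 d.val hd hd2) with ⟨h3, h4⟩ | ⟨h3, h4⟩
  · simp only at h3
    subst h3
    left
    exact ⟨by simpa using hq, by rw [← hv]; exact h4⟩
  · simp only at h3
    subst h3
    right
    exact ⟨hq, by rw [← hv]; exact h4⟩

end Cfsg.Agent.Lib.Helper37.BHRSU5
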