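import Mathlib
import Cfsg.Prelude.Def_GeometricClasses
import Cfsg.Agent.Lib.Helper37.BHRSU.Defs
import Cfsg.Agent.Lib.Helper87.BhrMaxCasesOf
import Cfsg.Agent.Lib.Helper24.BhrC3Div

/-!
# BHRSU prime-dimension kit (helper66): the member list of `InUnitaryClassR n F q` for an odd prime `n`

Used by the rows S5811 (SU_7) and S5856 (SU_11).
-/

set_option autoImplicit false

namespace Cfsg.Agent.Lib.Helper66.Bhrsu

open Cfsg Cfsg.Geo Cfsg.Agent.Lib.Helper70.AschU Cfsg.Agent.Lib.Helper37.BHRSU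
open scoped MatrixGroups Matrix Kronecker

variable {F : Type*} [Field F] [Fintype F] {n q : ℕ}

/-- a prime that is a proper power `r ^ k` forces `k = 1`. -/
theorem prime_pow_eq {n r k : ℕ} (hn : n.Prime) (h : n = r ^ k) : r = n ∧ k = 1 := by
  have h1 : (r ^ k).Prime := h ▸ hn
  have hk : k = 1 := by
    rcases Nat.eq_zero_or_pos k with rfl | hk0
    · rw [pow_zero] at h1; exact absurd h1 Nat.not_prime_one
    · by_contra hk1
      exact Nat.Prime.not_prime_pow (by omega : 2 ≤ k) h1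
  subst hk
  rw [pow_one] at h
  exact ⟨h.symm, rfl⟩

/-- The case list for an odd prime dimension. -/
theorem prime_dim_cases_of (hn : n.Prime) (hodd : Odd n) (H : Subgroup (GL (Fin n) F))
    (hmax : (∃ M : Subgroup (GL (Fin n) F), InUnitaryClassR n F q M ∧ H = M ⊓ specialLinear (Fin n) F) ∨
      InUnitaryResidualClass H) :
    (∃ W : Submodule F (Fin n → F), W ≠ ⊥ ∧ IsTotallySingularFor (hermForm n F q) W ∧
      H = subspaceStabilizer W ⊓ (GU n F q ⊓ specialLinear (Fin n) F)) ∨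
    (∃ W : Submodule F (Fin n → F), W ≠ ⊥ ∧ IsNondegenerateOn (hermForm n F q) W ∧
      2 * Module.finrank F W < n ∧ H = subspaceStabilizer W ⊓ (GU n F q ⊓ specialLinear (Fin n) F)) ∨
    (∃ D : Fin n → Submodule F (Fin n → F), IsNondegenerateMDecomposition (hermForm n F q) 1 D ∧
      H = decompositionStabilizer D ⊓ (GU n F q ⊓ specialLinear (Fin n) F)) ∨
    (∃ K : Subalgebra F (Matrix (Fin n) (Fin n) F), IsFieldSubalgebra n K ∧
      IsAdjointClosedFor (hermForm n F q) K ∧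
      H = subalgebraNormalizer K ⊓ (GU n F q ⊓ specialLinear (Fin n) F)) ∨
    (∃ (F₀ : Subfield F) (r : ℕ) (P : GL (Fin n) F), r.Prime ∧ Odd r ∧
      Fintype.card F = Nat.card F₀ ^ r ∧ IsFormRationalStructure (hermForm n F q) F₀ 1 P ∧
      H = subfieldSubgroup F₀ P ⊓ (GU n F q ⊓ specialLinear (Fin n) F)) ∨
    (Odd q ∧ ∃ (F₀ : Subfield F) (P : GL (Fin n) F), Fintype.card F = Nat.card F₀ ^ 2 ∧
      IsFormRationalStructure (hermForm n F q) F₀ 1 P ∧
      H = subfieldSubgroup F₀ P ⊓ (GU n F q ⊓ specialLinear (Fin n) F)) ∨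
    (∃ (p e : ℕ) (R : Subgroup (GL (Fin n) F)), n ≠ p ∧ IsMinimalFieldFor n p e F ∧
      IsSymplecticTypeGroup n R ∧ ActsAbsolutelyIrreducibly (matrixSet R) ∧
      R ≤ similarityGroup (hermForm n F q) ∧ Nat.card R = n ^ 3 ∧ Nat.card (Subgroup.center R) = n ∧
      H = subgroupNormalizer R ⊓ (GU n F q ⊓ specialLinear (Fin n) F)) ∨
    InUnitaryResidualClass H := by
  have hn2 : 2 ≤ n := hn.two_le
  have hnot_even : ¬ Even n := Nat.not_even_iff_odd.mpr hodd
  rcases hmax with ⟨M, hM, rfl⟩ | hres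
  swap
  · exact Or.inr (Or.inr (Or.inr (Or.inr (Or.inr (Or.inr (Or.inr hres))))))
  rcases hM with hM | hM
  · rcases hM with h | h | h | h | h | h | h | h | h | h
    · -- totally singular subspace
      obtain ⟨W, hW, hts, rfl⟩ := h
      exact Or.inl ⟨W, hW, hts, inf_assoc _ _ _⟩
    · obtain ⟨W, hW, hnd, hlt, rfl⟩ := h
      exact Or.inr (Or.inl ⟨W, hW, hnd, hlt, inf_assoc _ _ _⟩)
    · -- nondegenerate decomposition
      obtain ⟨t, k, D, hD, rfl⟩ := h
      have htk : t * k = n :=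
        Cfsg.Agent.Lib.Helper87.BhrMaxCases.mul_eq_of_isMDecomposition D hD.decomp
      have ht2 : 2 ≤ t := hD.decomp.two_le
      have hk1 : k = 1 := by
        have hdvd : t ∣ n := ⟨k, htk.symm⟩
        rcases (Nat.dvd_prime hn).mp hdvd with h1 | h1
        · omega
        · subst h1
          have : t * k = t * 1 := by rw [mul_one]; exact htk
          exact Nat.eq_of_mul_eq_mul_left (by omega) this
      subst hk1
      rw [mul_one] at htk
      subst htk
      exact Or.inr (Or.inr (Or.inl ⟨D, hD, inf_assoc _ _ _⟩))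
    · -- pair of totally singular subspaces: `2 * k = n`
      obtain ⟨k, D, hk, -⟩ := h
      exact absurd ⟨k, by omega⟩ hnot_even
    · obtain ⟨F₀, r, P, hr, hro, hc, hrat, rfl⟩ := h
      exact Or.inr (Or.inr (Or.inr (Or.inr (Or.inl ⟨F₀, r, P, hr, hro, hc, hrat, inf_assoc _ _ _⟩))))
    · obtain ⟨F₀, P, hq, hc, hrat, rfl⟩ := h
      exact Or.inr (Or.inr (Or.inr (Or.inr (Or.inr (Or.inl ⟨hq, F₀, P, hc, hrat, inf_assoc _ _ _⟩)))))
    · obtain ⟨F₀, P, ζ, hev, -⟩ := h
      exact absurd hev hnot_even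
    · -- class 3
      obtain ⟨r, K, hr, hro, hK, hadj, rfl⟩ := h
      have hdvd : r ∣ n := Cfsg.Agent.Lib.Helper99.Asch.dvd_of_isFieldSubalgebra r K hK
      have hrn : r = n := by
        rcases (Nat.dvd_prime hn).mp hdvd with h1 | h1
        · exact absurd (h1 ▸ hr) Nat.not_prime_one
        · exact h1
      subst hrn
      exact Or.inr (Or.inr (Or.inr (Or.inl ⟨K, hK, hadj, inf_assoc _ _ _⟩)))
    · -- class 4
      obtain ⟨n₁, n₂, e, P, f₁, f₂, h1, h2, -⟩ := h
      exfalso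
      have hmul : n₁ * n₂ = n := Cfsg.Agent.Lib.Helper87.BhrMaxCases.mul_eq_of_equiv_prod e
      have hdvd : n₁ ∣ n := ⟨n₂, hmul.symm⟩
      rcases (Nat.dvd_prime hn).mp hdvd with h3 | h3
      · omega
      · subst h3
        have : n₁ * n₂ = n₁ * 1 := by rw [mul_one]; exact hmul
        have : n₂ = 1 := Nat.eq_of_mul_eq_mul_left (by omega) this
        omega
    · -- class 7
      obtain ⟨k, t, e, P, f₁, hk, ht, -⟩ := h
      exfalso
      have hpow : k ^ t = n := Cfsg.Agent.Lib.Helper87.BhrMaxCases.pow_eq_of_equiv_fun e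
      have := (prime_pow_eq hn hpow.symm).2
      omega
  · -- class 6
    obtain ⟨r, R, p, e, k, hst, habs, hsim, hrp, hmin, hcases, hnrk, rfl⟩ := hM
    obtain ⟨hrn, hk1⟩ := prime_pow_eq hn hnrk
    subst hk1
    subst hrn
    rcases hcases with ⟨-, hZ, -, hcard⟩ | ⟨hr2, -⟩
    · refine Or.inr (Or.inr (Or.inr (Or.inr (Or.inr (Or.inr (Or.inl
        ⟨p, e, R, hrp, ?_, hst, habs, hsim, ?_, hZ, inf_assoc _ _ _⟩))))))
      · rw [hZ] at hmin; exact hmin
      · rw [hcard]
    · exfalso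
      subst hr2
      exact hnot_even ⟨1, rfl⟩

end Cfsg.Agent.Lib.Helper66.Bhrsu
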