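import Mathlib
import Cfsg.Prelude.Def_GeometricClasses
import Cfsg.Prelude.Def_ClassicalGeometry
import Cfsg.Agent.Lib.Helper37.BHRSU.Defs
import Cfsg.Agent.Lib.Helper13.Herm

/-!
# BHRSU-[C6-ISO] (hedge by helper66): an `r`-group of similitudes of the unitary form with
`r ∤ q - 1` consists of isometries
-/

set_option autoImplicit false

namespace Cfsg.Agent.Lib.Helper66.Bhrsu

open Cfsg Cfsg.Geo Cfsg.Agent.Lib.Helper70.AschU Cfsg.Agent.Lib.Helper37.BHRSU
open scoped MatrixGroups Matrix Kronecker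

variable {F : Type*} [Field F] [Fintype F] {n q : ℕ}

theorem le_GU_of_pGroup (hF : Fintype.card F = q ^ 2) (hn : 1 ≤ n) (r : ℕ) (hr : r.Prime) (hrq : ¬ r ∣ q - 1)
    (R : Subgroup (GL (Fin n) F)) (hR : IsPGroup r R) (hsim : R ≤ similarityGroup (hermForm n F q)) :
    R ≤ GU n F q := by
  intro x hx
  obtain ⟨c, hc⟩ := hsim hx
  have hq2 : 2 ≤ q := Cfsg.Agent.Lib.Helper13.two_le_of_card_eq_sq hF
  -- the basis vector
  set e₀ : Fin n → F := Pi.single ⟨0, hn⟩ 1 with he₀
  have hee : hermForm n F q e₀ e₀ = 1 := by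
    rw [he₀, Cfsg.Agent.Lib.Helper13.hermForm_single_left]
    simp
  -- `c ^ q = c`
  have hcq : (c : F) ^ q = c := by
    have h1 := hc e₀ e₀
    rw [hee, mul_one] at h1
    rw [← h1]
    exact Cfsg.Agent.Lib.Helper13.hermForm_conj hF _ _
  have hc0 : (c : F) ≠ 0 := c.ne_zero
  have hcq1 : (c : F) ^ (q - 1) = 1 := by
    have h2 : (c : F) ^ (q - 1) * c = 1 * c := by
      rw [← pow_succ, Nat.sub_add_cancel (by omega), hcq, one_mul]
    exact mul_right_cancel₀ hc0 h2
  -- powers of `x`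
  have hpow : ∀ m : ℕ, ∀ u v, hermForm n F q (((x ^ m : GL (Fin n) F) : Matrix (Fin n) (Fin n) F) *ᵥ u)
      (((x ^ m : GL (Fin n) F) : Matrix (Fin n) (Fin n) F) *ᵥ v) = (c : F) ^ m * hermForm n F q u v := by
    intro m
    induction m with
    | zero => intro u v; simp
    | succ m ih =>
      intro u v
      rw [pow_succ, Units.val_mul, ← Matrix.mulVec_mulVec, ← Matrix.mulVec_mulVec, ih, hc, pow_succ]
      ring
  obtain ⟨k, hk⟩ := hR ⟨x, hx⟩
  have hxk : x ^ (r ^ k) = 1 := by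
    have := congrArg Subtype.val hk
    simpa using this
  have hcrk : (c : F) ^ (r ^ k) = 1 := by
    have h3 := hpow (r ^ k) e₀ e₀
    rw [hxk, hee, mul_one] at h3
    simp only [Units.val_one, Matrix.one_mulVec] at h3
    rw [← h3, hee]
  -- coprimality
  have hcop : Nat.Coprime (r ^ k) (q - 1) :=
    Nat.Coprime.pow_left k ((Nat.Prime.coprime_iff_not_dvd hr).mpr hrq)
  have hord1 : orderOf (c : F) ∣ r ^ k := orderOf_dvd_of_pow_eq_one hcrk
  have hord2 : orderOf (c : F) ∣ q - 1 := orderOf_dvd_of_pow_eq_one hcq1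
  have hord : orderOf (c : F) = 1 := by
    have := Nat.dvd_gcd hord1 hord2
    rw [hcop] at this
    exact Nat.dvd_one.mp this
  have hc1 : (c : F) = 1 := orderOf_eq_one_iff.mp hord
  intro u v
  have := hc u v
  rw [hc1, one_mul] at this
  exact this

end Cfsg.Agent.Lib.Helper66.Bhrsu
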