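import Mathlib
import Cfsg.Agent.Lib.Helper94.Blk.Ex

/-!
# S5634 part 2, module [BLK-3A] (helper66)

From one cross transvection (centre in `D i`, functional supported on `D j`, `i ≠ j`) in `M ≥ N` to all of
them.
-/

set_option autoImplicit false

namespace Cfsg.Agent.Lib.Helper66.Blk3A

open Cfsg.Agent.Lib.Helper94 Cfsg.Agent.Lib.Helper94.SympData Cfsg.Agent.Lib.Helper94.Blk

variable {K V : Type*} [Field K] [AddCommGroup V] [Module K V] [FiniteDimensional K V]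
  {t m : ℕ} {D : Fin t → Submodule K V}

/-- (P1) moving the centre inside `D i` -/
theorem h66_p1 (hD : LDecomp m D) {M : Subgroup (V ≃ₗ[K] V)}
    (hNM : stabDec D ⊓ SLe K V ≤ M) {i j : Fin t} (hij : i ≠ j)
    {f₀ : Module.Dual K V} {u₀ : V} (h₀ : TvIn M f₀ u₀) (hf₀ : SuppOn D f₀ j)
    {u' : V} (hu' : u' ∈ D i) {φ' : Module.Dual K V} (hφ' : SuppOn D φ' i)
    (h1 : φ' u' = 0) (h2 : φ' u₀ = 1) : TvIn M f₀ u' := by
  have β : TvIn M φ' u' := (hD.blockTv_mem hu' hφ' h1).mono hNM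
  have hz : f₀ u' = 0 := hf₀ i hij u' hu'
  have h3 := (h₀.comm_right β hz).neg_left
  rw [h2] at h3
  have h4 : -(-(1 : K) • f₀) = f₀ := by
    ext x
    simp
  rw [h4] at h3
  exact h3

/-- (P2) moving the functional among those supported on `D j` -/
theorem h66_p2 (hD : LDecomp m D) {M : Subgroup (V ≃ₗ[K] V)}
    (hNM : stabDec D ⊓ SLe K V ≤ M) {i j : Fin t} (hij : i ≠ j)
    {f₀ : Module.Dual K V} {u : V} (h₀ : TvIn M f₀ u) (hu : u ∈ D i)
    {φ' : Module.Dual K V} (hφ' : SuppOn D φ' j) {u'' : V} (hu'' : u'' ∈ D j)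
    (h1 : f₀ u'' = 1) (h2 : φ' u'' = 0) : TvIn M φ' u := by
  have β : TvIn M φ' u'' := (hD.blockTv_mem hu'' hφ' h2).mono hNM
  have hz : φ' u = 0 := hφ' i hij u hu
  have h3 := h₀.comm_left β hz
  rw [h1, one_smul] at h3
  exact h3

/-- [BLK-3A] -/
theorem cross_all_of_cross (hD : LDecomp m D) (hm : 2 ≤ m) {M : Subgroup (V ≃ₗ[K] V)}
    (hNM : stabDec D ⊓ SLe K V ≤ M) {i j : Fin t} (hij : i ≠ j) (h : CrossIn D M i j) :
    ∀ v ∈ D i, ∀ f : Module.Dual K V, SuppOn D f j → TvIn M f v := by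
  obtain ⟨f₀, u₀, h₀, hu₀, hu₀0, hf₀, hf₀0⟩ := h
  -- Step 1: all centres
  have step1 : ∀ u' ∈ D i, TvIn M f₀ u' := by
    intro u' hu'
    obtain ⟨φ₁, hφ₁, hφ₁u⟩ := exists_suppOn_eq_one hD (i := i) (u := u₀)
      (by rw [hD.pr_of_mem hu₀]; exact hu₀0)
    obtain ⟨ζ, hζ, hζu, w₀, hw₀, hζw⟩ := exists_suppOn_ker hD hm i u₀
    have hA : TvIn M f₀ (u' - φ₁ u' • u₀) :=
      h66_p1 hD hNM hij h₀ hf₀ ((D i).sub_mem hu' ((D i).smul_mem _ hu₀)) hφ₁
        (by rw [map_sub, map_smul, hφ₁u, smul_eq_mul, mul_one, sub_self]) hφ₁u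
    have hw₁ : φ₁ u' • (w₀ - φ₁ w₀ • u₀) ∈ D i :=
      (D i).smul_mem _ ((D i).sub_mem hw₀ ((D i).smul_mem _ hu₀))
    have hB : TvIn M f₀ (φ₁ u' • (w₀ - φ₁ w₀ • u₀)) :=
      h66_p1 hD hNM hij h₀ hf₀ hw₁ hφ₁
        (by rw [map_smul, map_sub, map_smul, hφ₁u, smul_eq_mul, smul_eq_mul, mul_one, sub_self,
          mul_zero]) hφ₁u
    have hC : TvIn M f₀ (φ₁ u' • u₀ - φ₁ u' • (w₀ - φ₁ w₀ • u₀)) :=
      h66_p1 hD hNM hij h₀ hf₀ ((D i).sub_mem ((D i).smul_mem _ hu₀) hw₁) (hφ₁.add hζ)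
        (by
          simp only [LinearMap.add_apply, map_sub, map_smul, smul_eq_mul, hφ₁u, hζu, hζw]
          ring)
        (by rw [LinearMap.add_apply, hφ₁u, hζu, add_zero])
    have hsum := hA.add_right (hB.add_right hC)
    have heq : u' - φ₁ u' • u₀ + (φ₁ u' • (w₀ - φ₁ w₀ • u₀) +
        (φ₁ u' • u₀ - φ₁ u' • (w₀ - φ₁ w₀ • u₀))) = u' := by abel
    rw [heq] at hsum
    exact hsum
  -- Step 2: all functionals
  intro v hv f hf
  have hv0 := step1 v hv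
  obtain ⟨u₁, hu₁, hfu₁⟩ := exists_mem_eq_one hD hf₀ hf₀0
  obtain ⟨z, hz, hz0, hfz⟩ := exists_mem_ker hD hm j f₀
  have hzu : z ∉ Submodule.span K {u₁} := by
    intro hmem
    obtain ⟨c, rfl⟩ := Submodule.mem_span_singleton.mp hmem
    rw [map_smul, hfu₁, smul_eq_mul, mul_one] at hfz
    rw [hfz, zero_smul] at hz0
    exact hz0 rfl
  obtain ⟨χ, hχ, hχu, hχz⟩ := exists_suppOn_sep hD hz hu₁ hzu
  have hA : TvIn M (f + -(f u₁ • f₀)) v :=
    h66_p2 hD hNM hij hv0 hv (hf.add (hf₀.smul _).neg) hu₁ hfu₁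
      (by simp only [LinearMap.add_apply, LinearMap.neg_apply, LinearMap.smul_apply, hfu₁,
        smul_eq_mul, mul_one, add_neg_cancel])
  have hB : TvIn M (f u₁ • χ) v :=
    h66_p2 hD hNM hij hv0 hv (hχ.smul _) hu₁ hfu₁
      (by rw [LinearMap.smul_apply, hχu, smul_zero])
  have hC : TvIn M (f u₁ • f₀ + -(f u₁ • χ)) v :=
    h66_p2 hD hNM hij hv0 hv ((hf₀.smul _).add (hχ.smul _).neg) ((D j).add_mem hu₁ hz)
      (by rw [map_add, hfu₁, hfz, add_zero])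
      (by
        simp only [LinearMap.add_apply, LinearMap.neg_apply, LinearMap.smul_apply, map_add, hfu₁,
          hfz, hχu, hχz, smul_eq_mul]
        ring)
  have hsum := hA.add_left (hB.add_left hC)
  have heq : f + -(f u₁ • f₀) + (f u₁ • χ + (f u₁ • f₀ + -(f u₁ • χ))) = f := by abel
  rw [heq] at hsum
  exact hsum

end Cfsg.Agent.Lib.Helper66.Blk3A
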