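import Mathlib
import Cfsg.Agent.Lib.Helper77.CenterIrr
import Cfsg.Agent.Lib.Helper78.CharMore

set_option autoImplicit false

namespace Cfsg.Agent.Lib.Helper66

open Cfsg Cfsg.Agent.Lib.Helper77 Cfsg.Agent.Lib.Helper78
open scoped commutatorElement

/-- A central element `a ∈ X'` of order `p ^ k`, lying in a central subgroup `Z`, forces
`|Z| p^(2k) ≤ |X|` (an irreducible character faithful on `⟨a⟩` has degree divisible by `p ^ k`,
by the determinant, and `|Z| χ(1)² ≤ |X|`). -/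
theorem card_mul_pow_le_of_mem_commutator_center {X : Type*} [Group X] [Finite X]
    (Z : Subgroup X) (hZ : Z ≤ Subgroup.center X) (a : X) (haZ : a ∈ Z) (hac : a ∈ commutator X)
    (p k : ℕ) (hp : p.Prime) (hord : orderOf a = p ^ k) :
    Nat.card Z * p ^ (2 * k) ≤ Nat.card X := by
  classical
  haveI : Fact p.Prime := ⟨hp⟩
  letI : Fintype X := Fintype.ofFinite X
  rcases Nat.eq_zero_or_pos k with hk | hk
  · subst hk
    rw [mul_zero, pow_zero, mul_one]
    exact Subgroup.card_le_card_group Z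
  obtain ⟨k', rfl⟩ : ∃ k', k = k' + 1 := ⟨k - 1, by omega⟩
  -- the element b = a ^ p ^ k' is nontrivial
  have hb1 : a ^ p ^ k' ≠ 1 := by
    intro h
    have := orderOf_dvd_of_pow_eq_one h
    rw [hord] at this
    have h2 := Nat.le_of_dvd (pow_pos hp.pos _) this
    exact absurd h2 (not_le.2 (Nat.pow_lt_pow_right hp.one_lt (Nat.lt_succ_self k')))
  -- an irreducible character not containing b in its kernel
  obtain ⟨χ, hχ⟩ : ∃ χ : IrrCharacter X, (χ : X → ℂ) (a ^ p ^ k') ≠ (χ : X → ℂ) 1 := by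
    by_contra hcon
    push Not at hcon
    have := isConj_of_forall_irr_eq hcon
    exact hb1 (isConj_one_left.1 this)
  -- central elements lie in Z(χ)
  have hcenter : ∀ z ∈ Subgroup.center X, z ∈ irrCenter χ := by
    intro z hz
    rw [mem_irrCenter_iff_commutator]
    intro h
    have : ⁅z, h⁆ = 1 := by
      rw [commutatorElement_eq_one_iff_mul_comm]
      exact (Subgroup.mem_center_iff.1 hz h).symm
    rw [this]; exact Subgroup.one_mem _
  have haC : a ∈ irrCenter χ := hcenter a (hZ haZ)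
  set s : ℂ := irrCenterScalar χ ⟨a, haC⟩ with hs
  have hd0 : irrDim χ ≠ 0 := irrDim_ne_zero χ
  have hχ1 : (χ : X → ℂ) 1 ≠ 0 := by
    rw [irr_apply_one]; exact_mod_cast hd0
  -- order of s
  have hs1 : ¬ s ^ p ^ k' = 1 := by
    intro h
    rw [hs, ← map_pow, irrCenterScalar_apply] at h
    apply hχ
    have h2 : (χ : X → ℂ) (((⟨a, haC⟩ : irrCenter χ) ^ p ^ k' : irrCenter χ) : X) =
        (χ : X → ℂ) 1 := by
      field_simp at h
      exact h
    exact h2
  have hs2 : s ^ p ^ (k' + 1) = 1 := by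
    rw [hs, ← map_pow]
    have : (⟨a, haC⟩ : irrCenter χ) ^ p ^ (k' + 1) = 1 := by
      apply Subtype.ext
      show a ^ p ^ (k' + 1) = 1
      rw [← hord]; exact pow_orderOf_eq_one a
    rw [this, map_one]
  have hsord : orderOf s = p ^ (k' + 1) := orderOf_eq_prime_pow hs1 hs2
  -- the determinant
  have hρa : irrRep χ a = s • (LinearMap.id : (Fin (irrDim χ) → ℂ) →ₗ[ℂ] (Fin (irrDim χ) → ℂ)) :=
    apply_eq_centerScalar_smul (irrRep χ) _ ⟨a, haC⟩
  have hdet1 : LinearMap.det (irrRep χ a) = s ^ irrDim χ := by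
    rw [hρa, LinearMap.det_smul, LinearMap.det_id, mul_one]
    simp
  have hdet2 : LinearMap.det (irrRep χ a) = 1 := by
    let D : X →* ℂ := (LinearMap.det : ((Fin (irrDim χ) → ℂ) →ₗ[ℂ] (Fin (irrDim χ) → ℂ)) →* ℂ).comp
      (irrRep χ)
    have : a ∈ D.toHomUnits.ker := Abelianization.commutator_subset_ker _ hac
    rw [MonoidHom.mem_ker] at this
    have h2 := congrArg Units.val this
    exact h2
  have hsd : s ^ irrDim χ = 1 := by rw [← hdet1, hdet2]
  have hdvd : p ^ (k' + 1) ∣ irrDim χ := by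
    rw [← hsord]; exact orderOf_dvd_of_pow_eq_one hsd
  have hle : p ^ (k' + 1) ≤ irrDim χ := Nat.le_of_dvd (Nat.pos_of_ne_zero hd0) hdvd
  -- the inequality |Z| χ(1)² ≤ |X|
  have hineq := card_mul_sq_le χ Z (fun z hz => (mem_irrCenter χ z).1 (hcenter z (hZ hz)))
  rw [irr_apply_one] at hineq
  have hnorm : ‖(irrDim χ : ℂ)‖ = (irrDim χ : ℝ) := by
    rw [Complex.norm_natCast]
  rw [hnorm] at hineq
  have h3 : (Nat.card Z * p ^ (2 * (k' + 1)) : ℝ) ≤ (Nat.card Z : ℝ) * (irrDim χ : ℝ) ^ 2 := by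
    apply mul_le_mul_of_nonneg_left _ (Nat.cast_nonneg _)
    rw [pow_mul', sq]
    have : ((p ^ (k' + 1) : ℕ) : ℝ) ≤ (irrDim χ : ℝ) := by exact_mod_cast hle
    push_cast at this
    rw [sq]
    exact mul_le_mul this this (by positivity) (by positivity)
  have h4 : ((Nat.card Z * p ^ (2 * (k' + 1)) : ℕ) : ℝ) ≤ ((Nat.card X : ℕ) : ℝ) := by
    push_cast
    exact h3.trans hineq
  exact_mod_cast h4

end Cfsg.Agent.Lib.Helper66
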