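import Mathlib

set_option autoImplicit false

namespace Cfsg.Agent.Lib.Helper66


section lucas

/-- `C(p^β m - 1, p^β - 1) ≡ 1 mod p`. -/
theorem choose_pred_modEq_one (p : ℕ) [hp : Fact p.Prime] (m : ℕ) (hm : 0 < m) (β : ℕ) :
    Nat.choose (p ^ β * m - 1) (p ^ β - 1) ≡ 1 [MOD p] := by
  induction β with
  | zero => simp [Nat.ModEq]
  | succ β ih =>
    have hp1 : 1 ≤ p := hp.out.one_le
    have hpos : 0 < p ^ β * m := Nat.mul_pos (pow_pos hp.out.pos β) hm
    have hposk : 0 < p ^ β := pow_pos hp.out.pos β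
    have h := Choose.choose_modEq_choose_mod_mul_choose_div_nat (p := p)
      (n := p ^ (β + 1) * m - 1) (k := p ^ (β + 1) - 1)
    have e1 : p ^ (β + 1) * m - 1 = p * (p ^ β * m - 1) + (p - 1) := by
      have : p ^ (β + 1) * m = p * (p ^ β * m) := by ring
      rw [this]
      obtain ⟨a, ha⟩ : ∃ a, p ^ β * m = a + 1 := ⟨p ^ β * m - 1, by omega⟩
      rw [ha]
      have : p * (a + 1) = p * a + p := by ring
      rw [this]
      simp
      omega
    have e2 : p ^ (β + 1) - 1 = p * (p ^ β - 1) + (p - 1) := by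
      have : p ^ (β + 1) = p * p ^ β := by ring
      rw [this]
      obtain ⟨a, ha⟩ : ∃ a, p ^ β = a + 1 := ⟨p ^ β - 1, by omega⟩
      rw [ha]
      have : p * (a + 1) = p * a + p := by ring
      rw [this]
      simp
      omega
    have hlt : p - 1 < p := by have := hp.out.pos; omega
    have m1 : (p ^ (β + 1) * m - 1) % p = p - 1 := by
      rw [e1, Nat.mul_add_mod, Nat.mod_eq_of_lt hlt]
    have d1 : (p ^ (β + 1) * m - 1) / p = p ^ β * m - 1 := by
      rw [e1, Nat.mul_add_div hp.out.pos, Nat.div_eq_of_lt hlt, add_zero]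
    have m2 : (p ^ (β + 1) - 1) % p = p - 1 := by
      rw [e2, Nat.mul_add_mod, Nat.mod_eq_of_lt hlt]
    have d2 : (p ^ (β + 1) - 1) / p = p ^ β - 1 := by
      rw [e2, Nat.mul_add_div hp.out.pos, Nat.div_eq_of_lt hlt, add_zero]
    rw [m1, d1, m2, d2, Nat.choose_self, one_mul] at h
    exact h.trans ih

/-- `C(p^β m, p^β) = m * C(p^β m - 1, p^β - 1)`. -/
theorem choose_eq_mul (p : ℕ) [hp : Fact p.Prime] (m : ℕ) (hm : 0 < m) (β : ℕ) :
    Nat.choose (p ^ β * m) (p ^ β) = m * Nat.choose (p ^ β * m - 1) (p ^ β - 1) := by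
  have hposk : 0 < p ^ β := pow_pos hp.out.pos β
  have hpos : 0 < p ^ β * m := Nat.mul_pos hposk hm
  have h := Nat.add_one_mul_choose_eq (p ^ β * m - 1) (p ^ β - 1)
  have e1 : (p ^ β * m - 1) + 1 = p ^ β * m := by omega
  have e2 : (p ^ β - 1) + 1 = p ^ β := by omega
  rw [e1, e2] at h
  -- p^β * m * c = C * p^β
  have : p ^ β * (m * Nat.choose (p ^ β * m - 1) (p ^ β - 1)) = p ^ β * Nat.choose (p ^ β * m) (p ^ β) := by
    rw [← mul_assoc, h, mul_comm]
  exact (Nat.eq_of_mul_eq_mul_left hposk this).symm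

end lucas

end Cfsg.Agent.Lib.Helper66

namespace Cfsg.Agent.Lib.Helper66

/-- `C(p^β m, p^β) ≡ m mod p m` (the binomial congruence behind Wielandt's proof of Sylow/Frobenius). -/
theorem choose_modEq_mul (p : ℕ) [hp : Fact p.Prime] (m : ℕ) (hm : 0 < m) (β : ℕ) :
    Nat.choose (p ^ β * m) (p ^ β) ≡ m [MOD p * m] := by
  rw [choose_eq_mul p m hm β]
  have h := choose_pred_modEq_one p m hm β
  have h2 := Nat.ModEq.mul_left' m h
  rw [mul_one, mul_comm m p] at h2
  exact h2

end Cfsg.Agent.Lib.Helper66
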