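/-
helper66: modules DSQW-[DALL], DSQW-[QALL] for helper84's project S5248.
Finite groups with dihedral (resp. generalized quaternion) Sylow 2-subgroups of every order in which all
involutions (resp. all elements of order four) are conjugate: `PSL₂(q)` resp. `SL₂(q)`.
-/
import Mathlib
import Cfsg.Agent.Lib.Helper84.SSDihedral
import Cfsg.Agent.Lib.Helper84.SSQuat

set_option autoImplicit false

namespace Cfsg.Agent.Lib.Helper66.DSQWAll

open Cfsg

/-- **[QALL]** -/
theorem exists_group_quaternion_all (k : ℕ) (hk : 1 ≤ k) :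
    ∃ (G : Type) (_ : Group G) (_ : Finite G) (T : Sylow 2 G),
      Nonempty ((T : Subgroup G) ≃* QuaternionGroup (2 ^ k)) ∧
      ∀ a b : G, orderOf a = 4 → orderOf b = 4 → IsConj a b := by
  obtain ⟨q, hqp, hodd, hQ⟩ := Cfsg.Agent.Lib.Helper84.exists_prime_sylow_sl2_quaternion k hk
  have hF : Fintype.card (ZMod q) = q := ZMod.card q
  have hodd' : Fintype.card (ZMod q) % 2 = 1 := by rw [hF]; exact hodd
  have h2 : (2 : ZMod q) ≠ 0 := Cfsg.Agent.Lib.Helper98.PSL2Fusion.two_ne_zero_of_odd_card hodd'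
  refine ⟨Matrix.SpecialLinearGroup (Fin 2) (ZMod q), inferInstance, inferInstance, default,
    hQ default, ?_⟩
  intro a b oa ob
  have key : ∀ c : Matrix.SpecialLinearGroup (Fin 2) (ZMod q), orderOf c = 4 →
      c * c = Cfsg.Agent.Lib.Helper41.negOne := by
    intro c oc
    apply Cfsg.Agent.Lib.Helper98.SL2Quat.eq_negOne_of_sq h2
    · have := pow_orderOf_eq_one c
      rw [oc] at this
      rw [← this]
      simp only [pow_succ, pow_zero, one_mul, mul_assoc]
    · intro h
      have h4 : orderOf c ∣ 2 := orderOf_dvd_of_pow_eq_one (by rw [pow_two]; exact h)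
      rw [oc] at h4
      omega
  obtain ⟨g, hg⟩ := Cfsg.Agent.Lib.Helper98.SL2Quat.exists_conj_of_sq h2 a b (key a oa) (key b ob)
  exact isConj_iff.2 ⟨g, hg⟩

/-- **[DALL]** -/
theorem exists_group_dihedral_all (n : ℕ) (hn : 2 ≤ n) :
    ∃ (G : Type) (_ : Group G) (_ : Finite G) (T : Sylow 2 G),
      Nonempty ((T : Subgroup G) ≃* DihedralGroup (2 ^ n)) ∧
      ∀ a b : G, orderOf a = 2 → orderOf b = 2 → IsConj a b := by
  have : NeZero (2 ^ n) := ⟨by positivity⟩
  obtain ⟨q, hqp, hodd, hQ⟩ := Cfsg.Agent.Lib.Helper84.exists_prime_sylow_sl2_quaternion n (by omega)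
  have hF : Fintype.card (ZMod q) = q := ZMod.card q
  have hodd' : Fintype.card (ZMod q) % 2 = 1 := by rw [hF]; exact hodd
  have h2 : (2 : ZMod q) ≠ 0 := Cfsg.Agent.Lib.Helper98.PSL2Fusion.two_ne_zero_of_odd_card hodd'
  let T : Sylow 2 (Matrix.ProjectiveSpecialLinearGroup (Fin 2) (ZMod q)) := default
  obtain ⟨e₂⟩ := hQ (Cfsg.Agent.Lib.Helper98.PSL2Fusion.liftSylow T)
  have hT := Cfsg.Agent.Lib.Helper84.nonempty_sylow_psl2_equiv_dihedral h2 T (2 ^ n) e₂
  have hfin : Finite (Matrix.ProjectiveSpecialLinearGroup (Fin 2) (ZMod q)) := by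
    unfold Matrix.ProjectiveSpecialLinearGroup
    infer_instance
  refine ⟨Matrix.ProjectiveSpecialLinearGroup (Fin 2) (ZMod q), inferInstance, hfin, T, hT, ?_⟩
  intro a b oa ob
  exact Cfsg.Agent.Lib.Helper98.PSL2Fusion.isConj_of_orderOf_eq_two hodd' a b oa ob

end Cfsg.Agent.Lib.Helper66.DSQWAll
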