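/-
helper66: module DSQW-[AUTTOP] for helper84's project S5248.
In a saturated fusion system over a finite `p`-group `S` whose automorphism group is a `p`-group,
`Aut_F(S) = Inn(S)`.
-/
import Mathlib
import Cfsg.Agent.Lib.Helper84.DSQW.Defs
import Cfsg.Agent.Lib.Helper84.FTr.Derived
import Cfsg.Agent.Lib.Helper87.FusionCore
import Cfsg.Agent.Lib.Helper87.FusionFully
import Cfsg.Agent.Lib.Helper88.FusionEssential

set_option autoImplicit false

namespace Cfsg.Agent.Lib.Helper66.DSQWAutTop

open Cfsg Cfsg.FusionSystem Cfsg.Agent.Lib.Helper87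

variable {Ω : Type*} [Group Ω] {S : Subgroup Ω}

/-- `S` itself is fully normalized in any fusion system over the finite group `S`. -/
theorem isFullyNormalized_self (F : FusionSystem S) [Finite S] : F.IsFullyNormalized S := by
  refine ⟨le_rfl, fun Q hQ => ?_⟩
  have hQS : Q ≤ S := IsConj_le_right hQ
  have hQ' : Q = S := (Subgroup.eq_of_le_of_card_ge hQS (le_of_eq (IsConj_card_eq hQ)))
  rw [hQ']

/-- **[AUTTOP]** If `Aut(S)` is a `p`-group then `Aut_F(S) = Inn(S)` in a saturated fusion system. -/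
theorem autGroup_top_eq_inn (F : FusionSystem S) [Finite S] {p : ℕ} [Fact p.Prime] (hS : IsPGroup p S)
    (hF : F.IsSaturated p) (hA : IsPGroup p (MulAut S)) : F.autGroup S = Inn S := by
  have hSn : F.IsFullyNormalized S := isFullyNormalized_self F
  obtain ⟨⟨-, R, hR⟩, -⟩ := fullyAutomized_receptive_of_fullyNormalized F hS hF hSn
  rw [Cfsg.Agent.Lib.Helper88.autInducedBy_self_eq_inn] at hR
  have hpA : IsPGroup p (F.autGroup S) := hA.to_subgroup _
  have hRtop : (⊤ : Subgroup (F.autGroup S)) = (R : Subgroup (F.autGroup S)) :=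
    R.is_maximal' (hpA.to_subgroup ⊤) le_top
  have h1 : (Inn S).subgroupOf (F.autGroup S) = ⊤ := by rw [← hR, ← hRtop]
  have h2 : F.autGroup S ≤ Inn S := Subgroup.subgroupOf_eq_top.1 h1
  have h3 : Inn S ≤ F.autGroup S := by
    have := autInducedBy_le_autGroup F (le_refl S)
    rwa [Cfsg.Agent.Lib.Helper88.autInducedBy_self_eq_inn] at this
  exact le_antisymm h2 h3

end Cfsg.Agent.Lib.Helper66.DSQWAutTop
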