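/-
helper66: module DSQW-[EXTC] for helper84's project S5248.
In a saturated fusion system, an `F`-automorphism of a fully normalized subgroup `P` that commutes with
`Aut_S(P)` extends to a map of the system defined on `N_S(P)`.
-/
import Mathlib
import Cfsg.Agent.Lib.Helper84.DSQW.Defs
import Cfsg.Agent.Lib.Helper84.FTr.Derived
import Cfsg.Agent.Lib.Helper87.FusionCore
import Cfsg.Agent.Lib.Helper87.FusionFully
import Cfsg.Agent.Lib.Helper85.FusionBasic

set_option autoImplicit false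

namespace Cfsg.Agent.Lib.Helper66.DSQWExtC

open Cfsg Cfsg.FusionSystem Cfsg.Agent.Lib.Helper87

variable {Ω : Type*} [Group Ω] {S : Subgroup Ω}

/-- **[EXTC]** An `F`-automorphism of a fully normalized `P` commuting with `Aut_S(P)` extends to `N_S(P)`. -/
theorem exists_extension_of_commute (F : FusionSystem S) [Finite S] {p : ℕ} [Fact p.Prime]
    (hS : IsPGroup p S) (hF : F.IsSaturated p) {P : Subgroup Ω} (hP : F.IsFullyNormalized P)
    (σ : MulAut P) (hσ : σ ∈ F.autGroup P)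
    (hc : ∀ τ ∈ autInducedBy S P, σ * τ = τ * σ) :
    ∃ ψ ∈ F.Hom (normalizerIn S P), ∀ (u : Ω) (hu : u ∈ P) (hu' : u ∈ normalizerIn S P),
      ψ ⟨u, hu'⟩ = ((σ ⟨u, hu⟩ : P) : Ω) := by
  have hPS : P ≤ S := hP.1
  obtain ⟨-, hrec⟩ := fullyAutomized_receptive_of_fullyNormalized F hS hF hP
  have hφmem : P.subtype.comp σ.toMonoidHom ∈ F.Hom P := (mem_autGroup_iff F hPS).1 hσ
  have hrange : (P.subtype.comp σ.toMonoidHom).range = P := range_subtype_comp σ
  obtain ⟨ψ, hψ, hψe⟩ := hrec.2 P _ hφmem hrange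
  have hle : normalizerIn S P ≤ extender S P (P.subtype.comp σ.toMonoidHom) := by
    intro g hg
    have hgS : g ∈ S := hg.1
    have hgN : g ∈ Subgroup.normalizer (P : Set Ω) := hg.2
    rw [Cfsg.Agent.Lib.Helper85.mem_extender_iff]
    refine ⟨hgS, hgN, g, hgS, fun x hx => ?_⟩
    have hτ : P.normalizerMonoidHom ⟨g, hgN⟩ ∈ autInducedBy S P :=
      mem_autInducedBy_iff.2 ⟨g, hgS, fun y => rfl⟩
    have h1 := hc _ hτ
    have h2 := congrArg (fun α : MulAut P => ((α x : P) : Ω)) h1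
    simp only [MulAut.mul_apply] at h2
    -- h2 : σ (τ x) = τ (σ x)
    have h3 : (⟨g * (x : Ω) * g⁻¹, hx⟩ : P) = P.normalizerMonoidHom ⟨g, hgN⟩ x := Subtype.ext rfl
    rw [h3]
    exact h2
  refine ⟨ψ.comp (Subgroup.inclusion hle), restrict_mem F hψ hle, fun u hu hu' => ?_⟩
  exact hψe u hu (hle hu')

end Cfsg.Agent.Lib.Helper66.DSQWExtC
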