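import Mathlib

/-!
# Discrete Fourier transform relations for the dihedral character-theoretic argument

Module `S4481-[DFT]` (requested by helper81).  Pure finite Fourier analysis over `ZMod m`.
-/

set_option autoImplicit false
set_option linter.unusedSectionVars false

namespace Cfsg.Agent.Lib.Helper66.Dih

open scoped ComplexConjugate
open Finset

variable {m : ℕ} [NeZero m] {ζ : ℂ}

/-- the character `i ↦ ζ ^ i.val` of `ZMod m`. -/
noncomputable def chi (ζ : ℂ) (i : ZMod m) : ℂ := ζ ^ i.val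

theorem chi_zero : chi ζ (0 : ZMod m) = 1 := by
  simp [chi, ZMod.val_zero]

theorem chi_add (hζ : ζ ^ m = 1) (i j : ZMod m) :
    chi ζ (i + j) = chi ζ i * chi ζ j := by
  unfold chi
  rw [ZMod.val_add, ← pow_add, ← pow_eq_pow_mod _ hζ]

theorem chi_pow_card (hζ : ζ ^ m = 1) (i : ZMod m) : chi ζ i ^ m = 1 := by
  unfold chi
  rw [← pow_mul, mul_comm, pow_mul, hζ, one_pow]

theorem chi_neg (hζ : ζ ^ m = 1) (i : ZMod m) : chi ζ (-i) = (chi ζ i)⁻¹ := by
  have h : chi ζ (-i) * chi ζ i = 1 := by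
    rw [← chi_add hζ, neg_add_cancel, chi_zero]
  exact eq_inv_of_mul_eq_one_left h

theorem chi_ne_zero (hζ : ζ ^ m = 1) (i : ZMod m) : chi ζ i ≠ 0 := by
  intro h
  have := chi_pow_card hζ i
  rw [h, zero_pow (NeZero.ne m)] at this
  exact zero_ne_one this

theorem chi_eq_one_iff (hζ : IsPrimitiveRoot ζ m) (i : ZMod m) : chi ζ i = 1 ↔ i = 0 := by
  constructor
  · intro h
    unfold chi at h
    have hd : m ∣ i.val := (hζ.pow_eq_one_iff_dvd _).1 h
    have hlt : i.val < m := ZMod.val_lt i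
    have h0 : i.val = 0 := Nat.eq_zero_of_dvd_of_lt hd hlt
    exact (ZMod.val_eq_zero i).1 h0
  · rintro rfl
    exact chi_zero

theorem norm_chi (hζ : ζ ^ m = 1) (i : ZMod m) : ‖chi ζ i‖ = 1 :=
  Complex.norm_eq_one_of_pow_eq_one (chi_pow_card hζ i) (NeZero.ne m)

theorem conj_chi (hζ : ζ ^ m = 1) (i : ZMod m) : conj (chi ζ i) = (chi ζ i)⁻¹ :=
  (Complex.inv_eq_conj (norm_chi hζ i)).symm

theorem geom_sum_root (r : ℂ) (hr : r ^ m = 1) :
    ∑ s ∈ range m, r ^ s = if r = 1 then (m : ℂ) else 0 := by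
  split_ifs with h
  · subst h
    simp
  · rw [geom_sum_eq h, hr, sub_self, zero_div]

theorem sum_chi_pow (hζ : IsPrimitiveRoot ζ m) (j : ZMod m) :
    ∑ s ∈ range m, chi ζ j ^ s = if j = 0 then (m : ℂ) else 0 := by
  rw [geom_sum_root _ (chi_pow_card hζ.pow_eq_one j)]
  simp only [chi_eq_one_iff hζ]

theorem sum_zmod_eq_sum_range (g : ℕ → ℂ) :
    ∑ i : ZMod m, g i.val = ∑ j ∈ range m, g j := by
  obtain ⟨n, rfl⟩ := Nat.exists_eq_succ_of_ne_zero (NeZero.ne m)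
  exact Fin.sum_univ_eq_sum_range g (n + 1)

theorem sum_chi_mul_inv (hζ : IsPrimitiveRoot ζ m) (l s : ℕ) (hl : l < m) (hs : s < m) :
    ∑ i : ZMod m, chi ζ i ^ l * ((chi ζ i)⁻¹) ^ s = if s = l then (m : ℂ) else 0 := by
  have h1 : ∀ i : ZMod m, chi ζ i ^ l * ((chi ζ i)⁻¹) ^ s = (ζ ^ l * (ζ ^ s)⁻¹) ^ i.val := by
    intro i
    unfold chi
    rw [mul_pow, inv_pow, inv_pow, ← pow_mul, ← pow_mul, ← pow_mul, ← pow_mul,
      mul_comm l, mul_comm s]
  rw [Finset.sum_congr rfl (fun i _ => h1 i),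
    sum_zmod_eq_sum_range (fun j => (ζ ^ l * (ζ ^ s)⁻¹) ^ j), geom_sum_root]
  · have hs0 : ζ ^ s ≠ 0 := pow_ne_zero _ (hζ.ne_zero (NeZero.ne m))
    have : (ζ ^ l * (ζ ^ s)⁻¹ = 1) ↔ s = l := by
      rw [mul_inv_eq_one₀ hs0]
      constructor
      · intro h
        exact (hζ.pow_inj hl hs h).symm
      · rintro rfl
        rfl
    simp only [this]
  · rw [mul_pow, inv_pow, ← pow_mul, ← pow_mul, mul_comm l, mul_comm s, pow_mul, pow_mul,
      hζ.pow_eq_one, one_pow, one_pow, inv_one, mul_one]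

theorem sum_chi_pow_eq_zero (hζ : IsPrimitiveRoot ζ m) (l : ℕ) (hl0 : 0 < l) (hl : l < m) :
    ∑ i : ZMod m, chi ζ i ^ l = 0 := by
  have := sum_chi_mul_inv hζ l 0 hl (Nat.pos_of_ne_zero (NeZero.ne m))
  simp only [pow_zero, mul_one] at this
  rw [this, if_neg (Nat.ne_of_lt hl0)]

/-- the Fourier formula for the integer differences `c x i - c x 0`. -/
theorem diff_formula (hζ : IsPrimitiveRoot ζ m)
    {X : Type*} (v : X → ℕ → ℂ) (c : X → ZMod m → ℤ)
    (hc : ∀ (x : X) (i : ZMod m), ((c x i : ℤ) : ℂ) =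
      (m : ℂ)⁻¹ * ∑ s ∈ Finset.range m, ((ζ ^ i.val)⁻¹) ^ s * v x s)
    (x : X) (i : ZMod m) :
    ((c x i - c x 0 : ℤ) : ℂ) =
      (m : ℂ)⁻¹ * ∑ s ∈ range m, (((chi ζ i)⁻¹) ^ s - 1) * v x s := by
  rw [Int.cast_sub, hc x i, hc x 0, ← mul_sub, ← Finset.sum_sub_distrib]
  congr 1
  refine Finset.sum_congr rfl (fun s _ => ?_)
  simp only [ZMod.val_zero, pow_zero, inv_one, one_pow, chi]
  ring

theorem part_C (hζ : IsPrimitiveRoot ζ m)
    {X : Type*} (v : X → ℕ → ℂ) (c : X → ZMod m → ℤ)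
    (hc : ∀ (x : X) (i : ZMod m), ((c x i : ℤ) : ℂ) =
      (m : ℂ)⁻¹ * ∑ s ∈ Finset.range m, ((ζ ^ i.val)⁻¹) ^ s * v x s)
    (x : X) (l : ℕ) (hl0 : 0 < l) (hl : l < m) :
    v x l = ∑ i : ZMod m, ((c x i - c x 0 : ℤ) : ℂ) * ζ ^ (i.val * l) := by
  have hm : (m : ℂ) ≠ 0 := Nat.cast_ne_zero.2 (NeZero.ne m)
  have h1 : ∀ i : ZMod m, ((c x i - c x 0 : ℤ) : ℂ) * ζ ^ (i.val * l) =
      (m : ℂ)⁻¹ * ∑ s ∈ range m, v x s *
        (chi ζ i ^ l * ((chi ζ i)⁻¹) ^ s - chi ζ i ^ l) := by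
    intro i
    rw [diff_formula hζ v c hc x i, pow_mul, mul_assoc, Finset.sum_mul]
    congr 1
    refine Finset.sum_congr rfl (fun s _ => ?_)
    unfold chi
    ring
  rw [Finset.sum_congr rfl (fun i _ => h1 i), ← Finset.mul_sum, Finset.sum_comm]
  have h2 : ∀ s ∈ range m, ∑ i : ZMod m, v x s *
        (chi ζ i ^ l * ((chi ζ i)⁻¹) ^ s - chi ζ i ^ l) =
      if s = l then v x s * (m : ℂ) else 0 := by
    intro s hs
    rw [← Finset.mul_sum, Finset.sum_sub_distrib, sum_chi_mul_inv hζ l s hl (mem_range.1 hs),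
      sum_chi_pow_eq_zero hζ l hl0 hl, sub_zero]
    split_ifs <;> simp
  rw [Finset.sum_congr rfl h2, Finset.sum_ite_eq' (range m) l, if_pos (mem_range.2 hl)]
  field_simp

theorem part_B (hζ : IsPrimitiveRoot ζ m)
    {X : Type*} [Fintype X] (v : X → ℕ → ℂ) (c : X → ZMod m → ℤ)
    (hc : ∀ (x : X) (i : ZMod m), ((c x i : ℤ) : ℂ) =
      (m : ℂ)⁻¹ * ∑ s ∈ Finset.range m, ((ζ ^ i.val)⁻¹) ^ s * v x s)
    (w : X → ℂ) (hw : ∀ l : ℕ, 0 < l → l < m → ∑ x, v x l * w x = 0) (i : ZMod m) :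
    ∑ x, ((c x i - c x 0 : ℤ) : ℂ) * w x = 0 := by
  have h1 : ∀ x : X, ((c x i - c x 0 : ℤ) : ℂ) * w x =
      (m : ℂ)⁻¹ * ∑ s ∈ range m, (((chi ζ i)⁻¹) ^ s - 1) * (v x s * w x) := by
    intro x
    rw [diff_formula hζ v c hc x i, mul_assoc, Finset.sum_mul]
    congr 1
    refine Finset.sum_congr rfl (fun s _ => ?_)
    ring
  rw [Finset.sum_congr rfl (fun x _ => h1 x), ← Finset.mul_sum, Finset.sum_comm]
  have h2 : ∀ s ∈ range m, ∑ x : X, (((chi ζ i)⁻¹) ^ s - 1) * (v x s * w x) = 0 := by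
    intro s hs
    rw [← Finset.mul_sum]
    rcases Nat.eq_zero_or_pos s with h0 | h0
    · subst h0
      simp
    · rw [hw s h0 (mem_range.1 hs), mul_zero]
  rw [Finset.sum_eq_zero h2, mul_zero]

theorem double_sum (a β : ℕ → ℂ) (G : ℕ → ℕ → ℂ) (ha : a 0 = 0) (hβ : β 0 = 0)
    (hG : ∀ s t : ℕ, 0 < s → s < m → 0 < t → t < m →
      G s t = (if t = s then (m : ℂ) else 0) + (if t = m - s then (m : ℂ) else 0)) :
    ∑ s ∈ range m, ∑ t ∈ range m, a s * β t * G s t =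
      (m : ℂ) * ∑ s ∈ range m, a s * (β s + β (m - s)) := by
  rw [Finset.mul_sum]
  refine Finset.sum_congr rfl (fun s hs => ?_)
  rcases Nat.eq_zero_or_pos s with h0 | h0
  · subst h0
    simp [ha]
  · have hs' := mem_range.1 hs
    have h1 : ∀ t ∈ range m, a s * β t * G s t =
        (if t = s then a s * β s * (m : ℂ) else 0) +
          (if t = m - s then a s * β (m - s) * (m : ℂ) else 0) := by
      intro t ht
      rcases Nat.eq_zero_or_pos t with ht0 | ht0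
      · subst ht0
        have e1 : ¬ (0 = s) := by omega
        have e2 : ¬ (0 = m - s) := by omega
        rw [if_neg e1, if_neg e2, hβ]
        ring
      · rw [hG s t h0 hs' ht0 (mem_range.1 ht), mul_add]
        congr 1
        · split_ifs with h
          · rw [h]
          · rw [mul_zero]
        · split_ifs with h
          · rw [h]
          · rw [mul_zero]
    have hms : m - s ∈ range m := mem_range.2 (by omega)
    rw [Finset.sum_congr rfl h1, Finset.sum_add_distrib, Finset.sum_ite_eq' (range m) s,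
      Finset.sum_ite_eq' (range m) (m - s), if_pos hs, if_pos hms]
    ring

theorem part_A (hζ : IsPrimitiveRoot ζ m)
    {X : Type*} [Fintype X] (v : X → ℕ → ℂ) (c : X → ZMod m → ℤ)
    (hc : ∀ (x : X) (i : ZMod m), ((c x i : ℤ) : ℂ) =
      (m : ℂ)⁻¹ * ∑ s ∈ Finset.range m, ((ζ ^ i.val)⁻¹) ^ s * v x s)
    (hcol : ∀ l l' : ℕ, 0 < l → l < m → 0 < l' → l' < m →
      ∑ x, v x l * conj (v x l') =
        (if l' = l then (m : ℂ) else 0) + (if l' = m - l then (m : ℂ) else 0))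
    (i k : ZMod m) (hi : i ≠ 0) (hk : k ≠ 0) :
    ∑ x, (c x i - c x 0) * (c x k - c x 0) =
        (if i = k then 1 else 0) + (if i = -k then 1 else 0) + 2 := by
  have hm : (m : ℂ) ≠ 0 := Nat.cast_ne_zero.2 (NeZero.ne m)
  have h1 : ζ ^ m = 1 := hζ.pow_eq_one
  apply Int.cast_injective (α := ℂ)
  have hx : ∀ x : X, (((c x i - c x 0) * (c x k - c x 0) : ℤ) : ℂ) =
      (m : ℂ)⁻¹ * (m : ℂ)⁻¹ * ∑ s ∈ range m, ∑ t ∈ range m,
        (((chi ζ i)⁻¹) ^ s - 1) * ((chi ζ k) ^ t - 1) * (v x s * conj (v x t)) := by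
    intro x
    have hk' : ((c x k - c x 0 : ℤ) : ℂ) =
        (m : ℂ)⁻¹ * ∑ t ∈ range m, ((chi ζ k) ^ t - 1) * conj (v x t) := by
      rw [← map_intCast (starRingEnd ℂ) (c x k - c x 0), diff_formula hζ v c hc x k, map_mul, map_inv₀,
        Complex.conj_natCast, map_sum]
      congr 1
      refine Finset.sum_congr rfl (fun t _ => ?_)
      rw [map_mul, map_sub, map_pow, map_inv₀, conj_chi h1, inv_inv, map_one]
    rw [Int.cast_mul, diff_formula hζ v c hc x i, hk', mul_mul_mul_comm, Finset.sum_mul_sum]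
    congr 1
    refine Finset.sum_congr rfl (fun s _ => Finset.sum_congr rfl (fun t _ => ?_))
    ring
  rw [Int.cast_sum, Finset.sum_congr rfl (fun x _ => hx x), ← Finset.mul_sum, Finset.sum_comm]
  have hswap : ∀ s ∈ range m, ∑ x : X, ∑ t ∈ range m,
        (((chi ζ i)⁻¹) ^ s - 1) * ((chi ζ k) ^ t - 1) * (v x s * conj (v x t)) =
      ∑ t ∈ range m, (((chi ζ i)⁻¹) ^ s - 1) * ((chi ζ k) ^ t - 1) *
        (∑ x : X, v x s * conj (v x t)) := by
    intro s _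
    rw [Finset.sum_comm]
    refine Finset.sum_congr rfl (fun t _ => ?_)
    rw [Finset.mul_sum]
  rw [Finset.sum_congr rfl hswap,
    double_sum (fun s => ((chi ζ i)⁻¹) ^ s - 1) (fun t => (chi ζ k) ^ t - 1)
      (fun s t => ∑ x : X, v x s * conj (v x t)) (by simp) (by simp) hcol]
  have hterm : ∀ s ∈ range m,
      (((chi ζ i)⁻¹) ^ s - 1) * (((chi ζ k) ^ s - 1) + ((chi ζ k) ^ (m - s) - 1)) =
        chi ζ (k - i) ^ s + chi ζ (-i - k) ^ s - 2 * chi ζ (-i) ^ s - chi ζ k ^ s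
          - chi ζ (-k) ^ s + 2 := by
    intro s hs
    have hs' := mem_range.1 hs
    have e : (chi ζ k) ^ (m - s) = ((chi ζ k)⁻¹) ^ s := by
      rw [inv_pow]
      apply eq_inv_of_mul_eq_one_left
      rw [← pow_add, Nat.sub_add_cancel hs'.le, chi_pow_card h1]
    rw [e, sub_eq_add_neg k i, sub_eq_add_neg (-i) k, chi_add h1, chi_add h1, chi_neg h1,
      chi_neg h1]
    ring
  rw [Finset.sum_congr rfl hterm]
  simp only [Finset.sum_add_distrib, Finset.sum_sub_distrib, ← Finset.mul_sum,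
    sum_chi_pow hζ, Finset.sum_const, card_range, nsmul_eq_mul]
  have e1 : (k - i = 0) ↔ (i = k) := by
    rw [sub_eq_zero]
    exact eq_comm
  have e2 : (-i - k = 0) ↔ (i = -k) := by
    rw [sub_eq_zero, neg_eq_iff_eq_neg]
  simp only [e1, e2, neg_eq_zero, hi, hk, if_false]
  push_cast
  by_cases hik : i = k <;> by_cases hik' : i = -k
  · rw [if_pos hik, if_pos hik', if_pos hik, if_pos hik']
    field_simp
    ring
  · rw [if_pos hik, if_neg hik', if_pos hik, if_neg hik']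
    field_simp
    ring
  · rw [if_neg hik, if_pos hik', if_neg hik, if_pos hik']
    field_simp
    ring
  · rw [if_neg hik, if_neg hik', if_neg hik, if_neg hik']
    field_simp
    ring

/-- **S4481-[DFT]**: the discrete-Fourier-transform relations. -/
theorem dft_relations (m : ℕ) [NeZero m] (ζ : ℂ) (hζ : IsPrimitiveRoot ζ m)
    {X : Type*} [Fintype X] (v : X → ℕ → ℂ) (c : X → ZMod m → ℤ)
    (hc : ∀ (x : X) (i : ZMod m), ((c x i : ℤ) : ℂ) =
      (m : ℂ)⁻¹ * ∑ s ∈ Finset.range m, ((ζ ^ i.val)⁻¹) ^ s * v x s)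
    (hcol : ∀ l l' : ℕ, 0 < l → l < m → 0 < l' → l' < m →
      ∑ x, v x l * conj (v x l') =
        (if l' = l then (m : ℂ) else 0) + (if l' = m - l then (m : ℂ) else 0)) :
    (∀ i k : ZMod m, i ≠ 0 → k ≠ 0 → ∑ x, (c x i - c x 0) * (c x k - c x 0) =
        (if i = k then 1 else 0) + (if i = -k then 1 else 0) + 2) ∧
    (∀ w : X → ℂ, (∀ l : ℕ, 0 < l → l < m → ∑ x, v x l * w x = 0) →
        ∀ i : ZMod m, ∑ x, ((c x i - c x 0 : ℤ) : ℂ) * w x = 0) ∧
    (∀ (x : X) (l : ℕ), 0 < l → l < m →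
        v x l = ∑ i : ZMod m, ((c x i - c x 0 : ℤ) : ℂ) * ζ ^ (i.val * l)) :=
  ⟨fun i k hi hk => part_A hζ v c hc hcol i k hi hk,
   fun w hw i => part_B hζ v c hc w hw i,
   fun x l hl0 hl => part_C hζ v c hc x l hl0 hl⟩

end Cfsg.Agent.Lib.Helper66.Dih
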