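import Mathlib

set_option autoImplicit false

namespace Cfsg.Agent.Lib.Helper66

open scoped commutatorElement

universe u v

/-- A central extension with divisible kernel meeting the commutator subgroup trivially splits. -/
theorem exists_section_of_divisible_ker {P : Type u} {Γ : Type v} [Group P] [Group Γ]
    (ξ : P →* Γ) (hξ : Function.Surjective ξ) (hξc : ξ.ker ≤ Subgroup.center P)
    (hdiv : ∀ z ∈ ξ.ker, ∀ n : ℕ, 0 < n → ∃ w ∈ ξ.ker, w ^ n = z)
    (hbot : commutator P ⊓ ξ.ker = ⊥) : ∃ s : Γ →* P, ξ.comp s = MonoidHom.id Γ := by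
  letI instZ : CommGroup ↥ξ.ker :=
    { (inferInstance : Group ↥ξ.ker) with
      mul_comm := fun a b => Subtype.ext (Subgroup.mem_center_iff.1 (hξc b.2) a) }
  -- divisibility of the additive version
  have hsurj : ∀ {n : ℤ}, n ≠ 0 → Function.Surjective (fun a : Additive ↥ξ.ker => n • a) := by
    intro n hn a
    have hz : ((Additive.toMul a : ↥ξ.ker) : P) ∈ ξ.ker := (Additive.toMul a).2
    set z : P := ((Additive.toMul a : ↥ξ.ker) : P) with hzdef
    have haz : a = Additive.ofMul (⟨z, hz⟩ : ↥ξ.ker) := rfl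
    rcases lt_or_gt_of_ne hn with hneg | hpos
    · -- negative
      obtain ⟨k, hk⟩ := Int.exists_eq_neg_ofNat hneg.le
      have hkpos : 0 < k := by omega
      obtain ⟨w, hw, hwz⟩ := hdiv z⁻¹ (Subgroup.inv_mem _ hz) k hkpos
      refine ⟨Additive.ofMul ⟨w, hw⟩, ?_⟩
      show Additive.ofMul ((⟨w, hw⟩ : ↥ξ.ker) ^ n) = a
      have : (⟨w, hw⟩ : ↥ξ.ker) ^ n = ⟨z, hz⟩ := by
        apply Subtype.ext
        rw [hk]
        show w ^ (-(k : ℤ)) = z
        rw [zpow_neg, zpow_natCast, hwz, inv_inv]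
      rw [this, haz]
    · obtain ⟨k, hk⟩ := Int.eq_ofNat_of_zero_le hpos.le
      have hkpos : 0 < k := by omega
      obtain ⟨w, hw, hwz⟩ := hdiv z hz k hkpos
      refine ⟨Additive.ofMul ⟨w, hw⟩, ?_⟩
      show Additive.ofMul ((⟨w, hw⟩ : ↥ξ.ker) ^ n) = a
      have : (⟨w, hw⟩ : ↥ξ.ker) ^ n = ⟨z, hz⟩ := by
        apply Subtype.ext
        rw [hk]
        show w ^ ((k : ℕ) : ℤ) = z
        rw [zpow_natCast, hwz]
      rw [this, haz]
  letI : DivisibleBy (Additive ↥ξ.ker) ℤ := divisibleByOfSMulRightSurj _ _ hsurj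
  have hbaer : Module.Baer ℤ (Additive ↥ξ.ker) := Module.Baer.of_divisible _
  -- the embedding of the kernel into the abelianization
  let f0 : ↥ξ.ker →* Abelianization P := Abelianization.of.comp ξ.ker.subtype
  have hf0 : Function.Injective f0 := by
    rw [injective_iff_map_eq_one]
    intro z hz
    have h1 : (z : P) ∈ commutator P := by
      rw [← Abelianization.ker_of]; exact hz
    have h2 : (z : P) ∈ commutator P ⊓ ξ.ker := ⟨h1, z.2⟩
    rw [hbot, Subgroup.mem_bot] at h2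
    exact Subtype.ext h2
  obtain ⟨h, hh⟩ := hbaer.extension_property_addMonoidHom (MonoidHom.toAdditive f0) hf0
    (AddMonoidHom.id (Additive ↥ξ.ker))
  let χ : P →* ↥ξ.ker := (MonoidHom.toAdditive.symm h).comp Abelianization.of
  have hχ : ∀ z : ↥ξ.ker, χ (z : P) = z := by
    intro z
    have := congrArg (fun g : Additive ↥ξ.ker →+ Additive ↥ξ.ker => g (Additive.ofMul z)) hh
    exact this
  -- the retraction-corrected map
  let r : P →* P :=
    { toFun := fun p => p * ((χ p : ↥ξ.ker) : P)⁻¹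
      map_one' := by simp
      map_mul' := fun p q => by
        have hc := Subgroup.mem_center_iff.1 (hξc (χ p).2)
        rw [map_mul]
        show p * q * (((χ p : ↥ξ.ker) : P) * ((χ q : ↥ξ.ker) : P))⁻¹ =
          p * ((χ p : ↥ξ.ker) : P)⁻¹ * (q * ((χ q : ↥ξ.ker) : P)⁻¹)
        have hc' : ∀ g : P, g * ((χ p : ↥ξ.ker) : P)⁻¹ = ((χ p : ↥ξ.ker) : P)⁻¹ * g := by
          intro g
          have := hc g
          calc g * ((χ p : ↥ξ.ker) : P)⁻¹
              = ((χ p : ↥ξ.ker) : P)⁻¹ * (((χ p : ↥ξ.ker) : P) * g) * ((χ p : ↥ξ.ker) : P)⁻¹ := by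
                group
            _ = ((χ p : ↥ξ.ker) : P)⁻¹ * (g * ((χ p : ↥ξ.ker) : P)) * ((χ p : ↥ξ.ker) : P)⁻¹ := by
                rw [this]
            _ = ((χ p : ↥ξ.ker) : P)⁻¹ * g := by group
        rw [mul_inv_rev]
        calc p * q * (((χ q : ↥ξ.ker) : P)⁻¹ * ((χ p : ↥ξ.ker) : P)⁻¹)
            = p * ((q * ((χ q : ↥ξ.ker) : P)⁻¹) * ((χ p : ↥ξ.ker) : P)⁻¹) := by group
          _ = p * (((χ p : ↥ξ.ker) : P)⁻¹ * (q * ((χ q : ↥ξ.ker) : P)⁻¹)) := by rw [hc']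
          _ = p * ((χ p : ↥ξ.ker) : P)⁻¹ * (q * ((χ q : ↥ξ.ker) : P)⁻¹) := by group }
  have hr : ∀ p, r p = p * ((χ p : ↥ξ.ker) : P)⁻¹ := fun p => rfl
  have hker : ξ.ker ≤ r.ker := by
    intro z hz
    rw [MonoidHom.mem_ker, hr]
    have := hχ ⟨z, hz⟩
    rw [this]
    exact mul_inv_cancel z
  let s : Γ →* P := ξ.liftOfRightInverse (Function.surjInv hξ) (Function.rightInverse_surjInv hξ)
    ⟨r, hker⟩
  have hs : ∀ p, s (ξ p) = r p := fun p =>
    ξ.liftOfRightInverse_comp_apply (Function.surjInv hξ) (Function.rightInverse_surjInv hξ)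
      ⟨r, hker⟩ p
  refine ⟨s, ?_⟩
  ext g
  obtain ⟨p, rfl⟩ := hξ g
  show ξ (s (ξ p)) = ξ p
  rw [hs, hr, map_mul, map_inv, MonoidHom.mem_ker.1 (χ p).2, inv_one, mul_one]

end Cfsg.Agent.Lib.Helper66
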