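import Mathlib
import Cfsg.Agent.Lib.Helper88.GlaubSubDefs3

/-!
# S5278 module [G-L3a]: `lift_centralizes_pow` (helper88 #4132)
-/

set_option autoImplicit false
set_option linter.unusedSectionVars false

universe u

namespace Cfsg.Agent.Lib.Helper66.GlaubSub

open Cfsg Cfsg.Agent.Lib.Helper47 Cfsg.Agent.Lib.Helper88.GlaubSub Cfsg.Agent.Lib.Helper88.StabWC

/-- if `a` commutes with `c = a v a⁻¹ v⁻¹`, then `a^j v a^-j = c^j v`. -/
theorem conj_pow_eq {G : Type*} [Group G] (a v : G)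
    (hc : a * (a * v * a⁻¹ * v⁻¹) = (a * v * a⁻¹ * v⁻¹) * a) (j : ℕ) :
    a ^ j * v * (a ^ j)⁻¹ = (a * v * a⁻¹ * v⁻¹) ^ j * v := by
  induction j with
  | zero => simp
  | succ j ih =>
    have hcj : a * (a * v * a⁻¹ * v⁻¹) ^ j = (a * v * a⁻¹ * v⁻¹) ^ j * a :=
      (Commute.pow_right (show Commute a (a * v * a⁻¹ * v⁻¹) from hc) j).eq
    calc a ^ (j + 1) * v * (a ^ (j + 1))⁻¹
        = a * (a ^ j * v * (a ^ j)⁻¹) * a⁻¹ := by rw [pow_succ']; group
      _ = a * ((a * v * a⁻¹ * v⁻¹) ^ j * v) * a⁻¹ := by rw [ih]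
      _ = (a * (a * v * a⁻¹ * v⁻¹) ^ j) * v * a⁻¹ := by group
      _ = (a * v * a⁻¹ * v⁻¹) ^ j * a * v * a⁻¹ := by rw [hcj]
      _ = (a * v * a⁻¹ * v⁻¹) ^ j * (a * v * a⁻¹ * v⁻¹) * v := by group
      _ = (a * v * a⁻¹ * v⁻¹) ^ (j + 1) * v := by rw [pow_succ]

/-- quadratic action: an element `a` with `[[V, a], a] = 1`, `a ^ p` centralizing the abelian normal
subgroup `V`, centralizes all `p`-th powers of `V`. -/
theorem commute_pow_of_quadratic {G : Type*} [Group G] (V : Subgroup G) [V.Normal]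
    (hV : ∀ x ∈ V, ∀ y ∈ V, x * y = y * x) (p : ℕ) (a : G)
    (hquad : ∀ v ∈ V, a * (a * v * a⁻¹ * v⁻¹) = (a * v * a⁻¹ * v⁻¹) * a)
    (hap : ∀ v ∈ V, a ^ p * v = v * a ^ p) (v : G) (hv : v ∈ V) :
    a * v ^ p = v ^ p * a := by
  set c := a * v * a⁻¹ * v⁻¹ with hc
  have hcV : c ∈ V := V.mul_mem (Subgroup.Normal.conj_mem inferInstance v hv a) (V.inv_mem hv)
  have h1 := conj_pow_eq a v (hquad v hv) p
  have h2 : a ^ p * v * (a ^ p)⁻¹ = v := by rw [hap v hv, mul_inv_cancel_right]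
  rw [h2] at h1
  have hcp : c ^ p = 1 := by
    have : c ^ p * v = 1 * v := by rw [← h1, one_mul]
    exact mul_right_cancel this
  have h3 : a * v * a⁻¹ = c * v := by rw [hc]; group
  have h4 : a * v ^ p * a⁻¹ = v ^ p := by
    rw [← conj_pow, h3, (show Commute c v from hV c hcV v hv).mul_pow, hcp, one_mul]
  calc a * v ^ p = (a * v ^ p * a⁻¹) * a := by group
    _ = v ^ p * a := by rw [h4]

variable {G : Type u} [Group G] [Finite G] {p : ℕ} [Fact p.Prime] {R : Sylow p G} {T : Subgroup G}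
variable {Hh : Type u} [Group Hh] [MulDistribMulAction Hh ↥(om p T)] {f : G →* Hh}

/-- **S5278-[G-L3a]**. -/
theorem lift_centralizes_pow (h : MinimalHyp p R T) (hD : ActData p T f) {A0 : Subgroup G}
    (hA0 : A0 ∈ maxAbIn (R : Subgroup G)) (hq : ⁅⁅nc T, A0⁆, A0⁆ = ⊥)
    (hA0p : ∀ a ∈ A0.map f, a ^ p = 1)
    (d0 : G) (hd0 : f d0 ∈ Subgroup.normalClosure ((A0.map f : Subgroup Hh) : Set Hh)) :
    ∀ v ∈ nc T, d0 * v ^ p = v ^ p * d0 := by
  have hVc := nc_comm h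
  -- the subgroup K
  let K : Subgroup G := Subgroup.centralizer {w : G | ∃ v ∈ nc T, w = v ^ p}
  have hKmem : ∀ x : G, x ∈ K ↔ ∀ v ∈ nc T, x * v ^ p = v ^ p * x := by
    intro x
    constructor
    · intro hx v hv
      exact ((Subgroup.mem_centralizer_iff.1 hx) (v ^ p) ⟨v, hv, rfl⟩).symm
    · intro hx
      rw [Subgroup.mem_centralizer_iff]
      rintro w ⟨v, hv, rfl⟩
      exact (hx v hv).symm
  have hKn : K.Normal := by
    refine ⟨fun x hx g => ?_⟩
    rw [hKmem] at hx ⊢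
    intro v hv
    have hv' : g⁻¹ * v * g ∈ nc T := by
      have := Subgroup.Normal.conj_mem (inferInstance : (nc T).Normal) v hv g⁻¹
      rwa [inv_inv] at this
    have hx' := hx _ hv'
    have e : (g⁻¹ * v * g) ^ p = g⁻¹ * v ^ p * g := by
      have := conj_pow (a := g⁻¹) (b := v) (i := p)
      rw [inv_inv] at this
      exact this
    rw [e] at hx'
    calc g * x * g⁻¹ * v ^ p = g * (x * (g⁻¹ * v ^ p * g)) * g⁻¹ := by group
      _ = g * ((g⁻¹ * v ^ p * g) * x) * g⁻¹ := by rw [hx']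
      _ = v ^ p * (g * x * g⁻¹) := by group
  -- ker f ≤ K
  have hker : f.ker ≤ K := by
    intro x hx
    rw [hD.ker] at hx
    rw [hKmem]
    intro v hv
    exact ((Subgroup.mem_centralizer_iff.1 hx) (v ^ p) ((nc T).pow_mem hv p)).symm
  -- A0 ≤ K
  have hA0K : A0 ≤ K := by
    intro a ha
    rw [hKmem]
    have hcomm : ⁅nc T, A0⁆ ≤ Subgroup.centralizer (A0 : Set G) :=
      Subgroup.commutator_eq_bot_iff_le_centralizer.1 hq
    have hquad : ∀ v ∈ nc T, a * (a * v * a⁻¹ * v⁻¹) = (a * v * a⁻¹ * v⁻¹) * a := by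
      intro v hv
      have hmem : v * a * v⁻¹ * a⁻¹ ∈ ⁅nc T, A0⁆ := Subgroup.commutator_mem_commutator hv ha
      have hinv : a * v * a⁻¹ * v⁻¹ = (v * a * v⁻¹ * a⁻¹)⁻¹ := by group
      have hmem' : a * v * a⁻¹ * v⁻¹ ∈ Subgroup.centralizer (A0 : Set G) := by
        rw [hinv]
        exact hcomm (Subgroup.inv_mem _ hmem)
      exact (Subgroup.mem_centralizer_iff.1 hmem') a ha
    have hap : ∀ v ∈ nc T, a ^ p * v = v * a ^ p := by
      intro v hv
      have h1 : f (a ^ p) = 1 := by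
        rw [map_pow]
        exact hA0p _ (Subgroup.mem_map_of_mem f ha)
      have h2 : a ^ p ∈ cc T := by
        rw [← hD.ker]
        exact h1
      exact ((Subgroup.mem_centralizer_iff.1 h2) v hv).symm
    exact fun v hv => commute_pow_of_quadratic (nc T) hVc p a hquad hap v hv
  -- normal closure
  have hKmapn : (K.map f).Normal := hKn.map f hD.surj
  have hle : Subgroup.normalClosure ((A0.map f : Subgroup Hh) : Set Hh) ≤ K.map f :=
    Subgroup.normalClosure_le_normal (Subgroup.map_mono hA0K)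
  obtain ⟨k, hk, hkd⟩ := hle hd0
  have hd0K : d0 ∈ K := by
    have h1 : d0 * k⁻¹ ∈ f.ker := by
      rw [MonoidHom.mem_ker, map_mul, map_inv, hkd, mul_inv_cancel]
    have h2 : d0 * k⁻¹ * k ∈ K := K.mul_mem (hker h1) hk
    rwa [inv_mul_cancel_right] at h2
  exact (hKmem d0).1 hd0K

end Cfsg.Agent.Lib.Helper66.GlaubSub
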