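import Mathlib
import Cfsg.Agent.Lib.Helper88.GlaubSubDefs3

/-!
# S5278 module [G-L3b]: `commOn_facts` (helper88 #4132)
-/

set_option autoImplicit false

universe u

namespace Cfsg.Agent.Lib.Helper66.GlaubSub

open Cfsg Cfsg.Agent.Lib.Helper88.GlaubSub

/-- the norm map of an endomorphism `σ` with `σ^[m] = id` of a commutative group. -/
theorem exists_norm_hom {A : Type*} [CommGroup A] (σ : A →* A) (m : ℕ) (hσ : ∀ a, σ^[m] a = a) :
    ∃ N : A →* A, (∀ a, N (σ a) = N a) ∧ (∀ a, σ a = a → N a = a ^ m) := by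
  refine ⟨{ toFun := fun a => ∏ i ∈ Finset.range m, σ^[i] a
            map_one' := ?_
            map_mul' := ?_ }, ?_, ?_⟩
  · apply Finset.prod_eq_one
    intro i _
    exact iterate_map_one σ i
  · intro a b
    rw [← Finset.prod_mul_distrib]
    refine Finset.prod_congr rfl (fun i _ => ?_)
    exact iterate_map_mul σ i a b
  · intro a
    change ∏ i ∈ Finset.range m, σ^[i] (σ a) = ∏ i ∈ Finset.range m, σ^[i] a
    have h1 : ∀ i, σ^[i] (σ a) = σ^[i + 1] a := fun i => (Function.iterate_succ_apply σ i a).symm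
    simp only [h1]
    have h2 := Finset.prod_range_succ' (fun i => σ^[i] a) m
    have h3 := Finset.prod_range_succ (fun i => σ^[i] a) m
    rw [h2] at h3
    simp only [Function.iterate_zero, id_eq, hσ a] at h3
    exact mul_right_cancel h3
  · intro a ha
    change ∏ i ∈ Finset.range m, σ^[i] a = a ^ m
    have : ∀ i, σ^[i] a = a := fun i => Function.iterate_fixed ha i
    simp only [this, Finset.prod_const, Finset.card_range]

/-- conjugation by an integer power is conjugation by a natural power when `d ^ m` centralizes. -/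
theorem exists_nat_conj {G : Type*} [Group G] (T : Subgroup G) (d : G) (m : ℕ) (hm0 : m ≠ 0)
    (hdm : ∀ t ∈ T, d ^ m * t * (d ^ m)⁻¹ = t) (z : ℤ) :
    ∃ n : ℕ, ∀ t ∈ T, d ^ z * t * (d ^ z)⁻¹ = d ^ n * t * (d ^ n)⁻¹ := by
  have hmz : (m : ℤ) ≠ 0 := by exact_mod_cast hm0
  have hnn : 0 ≤ z % (m : ℤ) := Int.emod_nonneg z hmz
  refine ⟨(z % (m : ℤ)).toNat, fun t ht => ?_⟩
  have hcen : d ^ m ∈ Subgroup.centralizer (T : Set G) := by
    rw [Subgroup.mem_centralizer_iff]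
    intro h hh
    have := hdm h hh
    calc h * d ^ m = d ^ m * h * (d ^ m)⁻¹ * d ^ m := by rw [this]
      _ = d ^ m * h := by group
  have hc : (d ^ m) ^ (z / (m : ℤ)) ∈ Subgroup.centralizer (T : Set G) :=
    Subgroup.zpow_mem _ hcen _
  have hc' : (d ^ m) ^ (z / (m : ℤ)) * t * ((d ^ m) ^ (z / (m : ℤ)))⁻¹ = t := by
    have := (Subgroup.mem_centralizer_iff.1 hc) t ht
    rw [← this]
    group
  have hz : d ^ z = d ^ (z % (m : ℤ)).toNat * (d ^ m) ^ (z / (m : ℤ)) := by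
    rw [← zpow_natCast d (z % (m : ℤ)).toNat, Int.toNat_of_nonneg hnn, ← zpow_natCast d m,
      ← zpow_mul, ← zpow_add, Int.emod_add_mul_ediv]
  rw [hz, mul_inv_rev]
  calc d ^ (z % (m : ℤ)).toNat * (d ^ m) ^ (z / (m : ℤ)) * t *
        (((d ^ m) ^ (z / (m : ℤ)))⁻¹ * (d ^ (z % (m : ℤ)).toNat)⁻¹)
      = d ^ (z % (m : ℤ)).toNat * ((d ^ m) ^ (z / (m : ℤ)) * t *
        ((d ^ m) ^ (z / (m : ℤ)))⁻¹) * (d ^ (z % (m : ℤ)).toNat)⁻¹ := by group
    _ = _ := by rw [hc']

section Main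

open scoped IsMulCommutative

variable {G : Type u} [Group G]

theorem zpow_mem_normalizer {T : Subgroup G} {d : G} (hd : d ∈ Subgroup.normalizer (T : Set G))
    (k : ℤ) {t : G} (ht : t ∈ T) : d ^ k * t * (d ^ k)⁻¹ ∈ T :=
  (Subgroup.mem_normalizer_iff.1 (Subgroup.zpow_mem _ hd k) t).1 ht

/-- **S5278-[G-L3b]**. -/
theorem commOn_facts [Finite G] {p : ℕ} [Fact p.Prime] (T : Subgroup G)
    (hTc : ∀ a ∈ T, ∀ b ∈ T, a * b = b * a) (hTp : IsPGroup p T) (d : G)
    (hd : d ∈ Subgroup.normalizer (T : Set G)) (m : ℕ) (hm : m.Coprime p)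
    (hdm : ∀ t ∈ T, d ^ m * t * (d ^ m)⁻¹ = t)
    (hpow : ∀ t ∈ T, d * t ^ p = t ^ p * d) :
    commOn T d ≤ T ∧ (∀ y ∈ commOn T d, y ^ p = 1) ∧
      (∀ y ∈ commOn T d, ∀ k : ℤ, d ^ k * y * (d ^ k)⁻¹ ∈ commOn T d) ∧
      (∀ y ∈ commOn T d, d * y * d⁻¹ = y → y = 1) := by
  have hp : p.Prime := Fact.out
  -- (1)
  have h1 : commOn T d ≤ T := by
    unfold commOn
    rw [Subgroup.closure_le]
    rintro y ⟨k, t, ht, rfl⟩
    exact T.mul_mem (zpow_mem_normalizer hd k ht) (T.inv_mem ht)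
  -- (2)
  have h2 : ∀ y ∈ commOn T d, y ^ p = 1 := by
    intro y hy
    have key : y ∈ T ∧ y ^ p = 1 := by
      unfold commOn at hy
      induction hy using Subgroup.closure_induction with
      | mem y hy =>
        obtain ⟨k, t, ht, rfl⟩ := hy
        refine ⟨T.mul_mem (zpow_mem_normalizer hd k ht) (T.inv_mem ht), ?_⟩
        have hcomm : Commute (d ^ k * t * (d ^ k)⁻¹) t⁻¹ :=
          hTc _ (zpow_mem_normalizer hd k ht) _ (T.inv_mem ht)
        rw [hcomm.mul_pow, conj_pow]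
        have hc1 : Commute d (t ^ p) := hpow t ht
        have hc2 : Commute (d ^ k) (t ^ p) := hc1.zpow_left k
        have : d ^ k * t ^ p * (d ^ k)⁻¹ = t ^ p := by
          rw [hc2.eq, mul_inv_cancel_right]
        rw [this, inv_pow, mul_inv_cancel]
      | one => exact ⟨T.one_mem, one_pow p⟩
      | mul a b _ _ ha hb =>
        refine ⟨T.mul_mem ha.1 hb.1, ?_⟩
        have hcomm : Commute a b := hTc a ha.1 b hb.1
        rw [hcomm.mul_pow, ha.2, hb.2, one_mul]
      | inv a _ ha =>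
        exact ⟨T.inv_mem ha.1, by rw [inv_pow, ha.2, inv_one]⟩
    exact key.2
  -- (3)
  have h3 : ∀ y ∈ commOn T d, ∀ k : ℤ, d ^ k * y * (d ^ k)⁻¹ ∈ commOn T d := by
    intro y hy j
    have hy' := hy
    unfold commOn at hy
    induction hy using Subgroup.closure_induction with
    | mem y hy =>
      obtain ⟨k, t, ht, rfl⟩ := hy
      have e : d ^ j * (d ^ k * t * (d ^ k)⁻¹ * t⁻¹) * (d ^ j)⁻¹ =
          (d ^ (j + k) * t * (d ^ (j + k))⁻¹ * t⁻¹) * (d ^ j * t * (d ^ j)⁻¹ * t⁻¹)⁻¹ := by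
        rw [zpow_add]
        group
      rw [e]
      refine (commOn T d).mul_mem ?_ ((commOn T d).inv_mem ?_)
      · exact Subgroup.subset_closure ⟨j + k, t, ht, rfl⟩
      · exact Subgroup.subset_closure ⟨j, t, ht, rfl⟩
    | one =>
      rw [mul_one, mul_inv_cancel]
      exact (commOn T d).one_mem
    | mul a b ha hb iha ihb =>
      have e : d ^ j * (a * b) * (d ^ j)⁻¹ = (d ^ j * a * (d ^ j)⁻¹) * (d ^ j * b * (d ^ j)⁻¹) := by
        group
      rw [e]
      exact (commOn T d).mul_mem (iha ha) (ihb hb)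
    | inv a ha iha =>
      have e : d ^ j * a⁻¹ * (d ^ j)⁻¹ = (d ^ j * a * (d ^ j)⁻¹)⁻¹ := by group
      rw [e]
      exact (commOn T d).inv_mem (iha ha)
  refine ⟨h1, h2, h3, ?_⟩
  -- (4)
  have hm0 : m ≠ 0 := by
    rintro rfl
    rw [Nat.coprime_zero_left] at hm
    exact hp.one_lt.ne' hm
  have : IsMulCommutative ↥T := ⟨⟨fun a b => Subtype.ext (hTc a a.2 b b.2)⟩⟩
  let σ : ↥T →* ↥T :=
    { toFun := fun t => ⟨d * t * d⁻¹, (Subgroup.mem_normalizer_iff.1 hd t).1 t.2⟩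
      map_one' := by
        apply Subtype.ext
        simp
      map_mul' := by
        intro a b
        apply Subtype.ext
        simp }
  have hσn : ∀ (n : ℕ) (t : ↥T), ((σ^[n] t : ↥T) : G) = d ^ n * t * (d ^ n)⁻¹ := by
    intro n
    induction n with
    | zero => intro t; simp
    | succ n ih =>
      intro t
      rw [Function.iterate_succ_apply', pow_succ']
      change d * ((σ^[n] t : ↥T) : G) * d⁻¹ = _
      rw [ih t]
      group
  have hσm : ∀ t : ↥T, σ^[m] t = t := by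
    intro t
    apply Subtype.ext
    rw [hσn m t]
    exact hdm t t.2
  obtain ⟨N, hN1, hN2⟩ := exists_norm_hom σ m hσm
  have hNn : ∀ (n : ℕ) (t : ↥T), N (σ^[n] t) = N t := by
    intro n
    induction n with
    | zero => intro t; rfl
    | succ n ih =>
      intro t
      rw [Function.iterate_succ_apply', hN1, ih]
  have hkill : ∀ y ∈ commOn T d, ∀ h : y ∈ T, N ⟨y, h⟩ = 1 := by
    intro y hy
    have hy' := hy
    unfold commOn at hy
    induction hy using Subgroup.closure_induction with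
    | mem y hy =>
      intro h
      obtain ⟨k, t, ht, rfl⟩ := hy
      obtain ⟨n, hn⟩ := exists_nat_conj T d m hm0 hdm k
      have e : (⟨d ^ k * t * (d ^ k)⁻¹ * t⁻¹, h⟩ : ↥T) = σ^[n] ⟨t, ht⟩ * (⟨t, ht⟩ : ↥T)⁻¹ := by
        apply Subtype.ext
        rw [Subgroup.coe_mul, hσn, Subgroup.coe_inv]
        change d ^ k * t * (d ^ k)⁻¹ * t⁻¹ = d ^ n * t * (d ^ n)⁻¹ * t⁻¹
        rw [hn t ht]
      rw [e, map_mul, map_inv, hNn, mul_inv_cancel]
    | one =>
      intro h
      exact map_one N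
    | mul a b ha hb iha ihb =>
      intro h
      have haT : a ∈ T := h1 ha
      have hbT : b ∈ T := h1 hb
      have e : (⟨a * b, h⟩ : ↥T) = ⟨a, haT⟩ * ⟨b, hbT⟩ := rfl
      rw [e, map_mul, iha ha haT, ihb hb hbT, one_mul]
    | inv a ha iha =>
      intro h
      have haT : a ∈ T := h1 ha
      have e : (⟨a⁻¹, h⟩ : ↥T) = (⟨a, haT⟩ : ↥T)⁻¹ := rfl
      rw [e, map_inv, iha ha haT, inv_one]
  intro y hy hfix
  have hyT : y ∈ T := h1 hy
  have hσy : σ ⟨y, hyT⟩ = ⟨y, hyT⟩ := Subtype.ext hfix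
  have hNy := hN2 ⟨y, hyT⟩ hσy
  rw [hkill y hy hyT] at hNy
  have hym : y ^ m = 1 := by
    have := congrArg (fun t : ↥T => (t : G)) hNy
    simpa using this.symm
  have hyp : y ^ p = 1 := h2 y hy
  have : y ^ Nat.gcd m p = 1 := pow_gcd_eq_one.2 ⟨hym, hyp⟩
  rwa [Nat.Coprime.gcd_eq_one hm, pow_one] at this

end Main

end Cfsg.Agent.Lib.Helper66.GlaubSub
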