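import Mathlib
import Cfsg.Prelude.Def_HallClasses

/-!
# S2538 / S2535 (Hall subgroups of `A_n`), modules [F-A] and [PS-A] (helper71, board #3614)

Passing from a Hall subgroup `M` of `Alt(β)` to the group `M ∩ Sym(β \ {y})` inside
`Alt(β \ {y})`, when `M` fixes `y` ([F-A]) or when `M` is transitive ([PS-A]).
-/

set_option autoImplicit false

namespace Cfsg.Agent.Lib.Helper66.HallAlt

open Cfsg Equiv

variable {β : Type} [Fintype β] [DecidableEq β]

/-- the embedding `Sym(β \ {y}) → Sym(β)` -/
abbrev psi (y : β) : Perm {z // z ≠ y} →* Perm β := Perm.ofSubtype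

omit [Fintype β] in
lemma psi_injective (y : β) : Function.Injective (psi y) := Equiv.Perm.ofSubtype_injective

omit [Fintype β] in
lemma psi_apply_self (y : β) (f : Perm {z // z ≠ y}) : psi y f y = y :=
  Equiv.Perm.ofSubtype_apply_of_not_mem f (by simp)

omit [Fintype β] in
lemma mem_range_psi_iff (y : β) (σ : Perm β) : σ ∈ (psi y).range ↔ σ y = y := by
  constructor
  · rintro ⟨f, rfl⟩
    exact psi_apply_self y f
  · intro hσy
    have h₁ : ∀ z, (σ z ≠ y) ↔ (z ≠ y) := by
      intro z
      constructor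
      · intro h hz; apply h; rw [hz, hσy]
      · intro h hz; apply h; rw [← hσy] at hz; exact σ.injective hz
    have h₂ : ∀ z, σ z ≠ z → z ≠ y := by
      intro z h hz; apply h; rw [hz, hσy]
    exact ⟨Equiv.Perm.subtypePerm σ h₁, Equiv.Perm.ofSubtype_subtypePerm h₁ h₂⟩

omit [Fintype β] in
lemma range_psi_eq (y : β) : (psi y).range = MulAction.stabilizer (Perm β) y := by
  ext σ
  rw [mem_range_psi_iff, MulAction.mem_stabilizer_iff]
  rfl

lemma map_alt (y : β) :
    (alternatingGroup {z // z ≠ y}).map (psi y) = alternatingGroup β ⊓ (psi y).range := by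
  ext σ
  rw [Subgroup.mem_map, Subgroup.mem_inf, MonoidHom.mem_range]
  constructor
  · rintro ⟨f, hf, rfl⟩
    refine ⟨?_, ⟨f, rfl⟩⟩
    rw [Equiv.Perm.mem_alternatingGroup] at hf ⊢
    rw [← hf]
    exact Equiv.Perm.sign_ofSubtype f
  · rintro ⟨hσ, f, rfl⟩
    refine ⟨f, ?_, rfl⟩
    rw [Equiv.Perm.mem_alternatingGroup] at hσ ⊢
    rw [← hσ]
    exact (Equiv.Perm.sign_ofSubtype f).symm

lemma comap_psi_le_alt (M : Subgroup (Perm β)) (hMA : M ≤ alternatingGroup β) (y : β) :
    M.comap (psi y) ≤ alternatingGroup {z // z ≠ y} := by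
  intro f hf
  have h1 : psi y f ∈ alternatingGroup β := hMA hf
  rw [Equiv.Perm.mem_alternatingGroup] at h1 ⊢
  rw [← h1]
  exact (Equiv.Perm.sign_ofSubtype f).symm

/-- **[F-A]** -/
theorem alt_fixed_point (π : Set ℕ) (M : Subgroup (Perm β))
    (hM : IsPiHallOf π M (alternatingGroup β)) (y : β) (hy : ∀ h ∈ M, h y = y) :
    IsPiHallOf π (M.comap (Perm.ofSubtype : Perm {z // z ≠ y} →* Perm β))
        (alternatingGroup {z // z ≠ y}) ∧
      ∀ K' : Subgroup (Perm {z // z ≠ y}),
        M.comap (Perm.ofSubtype : Perm {z // z ≠ y} →* Perm β) ≤ K' →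
        M ≤ K'.map (Perm.ofSubtype : Perm {z // z ≠ y} →* Perm β) := by
  have hMr : M ≤ (psi y).range := fun h hh => (mem_range_psi_iff y h).2 (hy h hh)
  have hmap : (M.comap (psi y)).map (psi y) = M := Subgroup.map_comap_eq_self hMr
  refine ⟨⟨comap_psi_le_alt M hM.1 y, ?_, ?_⟩, ?_⟩
  · intro p hp hd
    apply hM.2.1 p hp
    rw [← hmap, Subgroup.card_map_of_injective (psi_injective y)]
    exact hd
  · intro p hp hpπ hd
    apply hM.2.2 p hp hpπ
    rw [Subgroup.relIndex_comap, map_alt] at hd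
    have h1 := Subgroup.relIndex_mul_relIndex M (alternatingGroup β ⊓ (psi y).range)
      (alternatingGroup β) (le_inf hM.1 hMr) inf_le_left
    exact hd.trans (Dvd.intro _ h1)
  · intro K' hK' h hh
    obtain ⟨f, rfl⟩ := hMr hh
    exact ⟨f, hK' hh, rfl⟩

/-- **[PS-A]** -/
theorem alt_stabilizer (π : Set ℕ) (M : Subgroup (Perm β))
    (hM : IsPiHallOf π M (alternatingGroup β)) (htr : ∀ a b : β, ∃ h ∈ M, h a = b) (x : β) :
    IsPiHallOf π (M.comap (Perm.ofSubtype : Perm {z // z ≠ x} →* Perm β))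
        (alternatingGroup {z // z ≠ x}) ∧
      Nat.card M =
        Fintype.card β * Nat.card (M.comap (Perm.ofSubtype : Perm {z // z ≠ x} →* Perm β)) ∧
      ∀ r : ℕ, r.Prime → r ∣ Fintype.card β → r ∈ π := by
  set S : Subgroup (Perm β) := (psi x).range with hSdef
  have hS : S = MulAction.stabilizer (Perm β) x := range_psi_eq x
  have hMA : M ≤ alternatingGroup β := hM.1
  -- a transitive subgroup has `S.relIndex = n`
  have hrel : ∀ H : Subgroup (Perm β), (∀ a b : β, ∃ h ∈ H, h a = b) →
      S.relIndex H = Nat.card β := by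
    intro H hH
    have hpre : MulAction.IsPretransitive H β := by
      constructor
      intro a b
      obtain ⟨h, hh, hab⟩ := hH a b
      exact ⟨⟨h, hh⟩, hab⟩
    have h1 := MulAction.index_stabilizer_of_transitive H x
    have h2 : MulAction.stabilizer H x = S.subgroupOf H := by
      ext h
      rw [MulAction.mem_stabilizer_iff, Subgroup.mem_subgroupOf, hS,
        MulAction.mem_stabilizer_iff]
      rfl
    rw [h2] at h1
    exact h1
  have hrelM : S.relIndex M = Nat.card β := hrel M htr
  have hrelA : S.relIndex (alternatingGroup β) = Nat.card β := by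
    apply hrel
    intro a b
    obtain ⟨h, hh, hab⟩ := htr a b
    exact ⟨h, hMA hh, hab⟩
  have hcardpos : 0 < Nat.card β := Nat.card_pos_iff.mpr ⟨⟨x⟩, inferInstance⟩
  -- the relative index is unchanged
  have hkey : M.relIndex (alternatingGroup β ⊓ S) = M.relIndex (alternatingGroup β) := by
    have e1 := Subgroup.relIndex_mul_relIndex (M ⊓ S) M (alternatingGroup β) inf_le_left hMA
    have e2 := Subgroup.relIndex_mul_relIndex (M ⊓ S) (alternatingGroup β ⊓ S)
      (alternatingGroup β) (inf_le_inf_right S hMA) inf_le_left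
    rw [Subgroup.inf_relIndex_left, hrelM] at e1
    rw [Subgroup.inf_relIndex_left, hrelA] at e2
    have e3 : (M ⊓ S).relIndex (alternatingGroup β ⊓ S) =
        M.relIndex (alternatingGroup β ⊓ S) := by
      rw [← Subgroup.inf_relIndex_right M (alternatingGroup β ⊓ S)]
      congr 1
      rw [← inf_assoc, inf_eq_left.mpr hMA]
    rw [e3] at e2
    have e4 : Nat.card β * M.relIndex (alternatingGroup β ⊓ S) =
        Nat.card β * M.relIndex (alternatingGroup β) := by
      rw [e1, ← e2, mul_comm]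
    exact Nat.eq_of_mul_eq_mul_left hcardpos e4
  have hmap : (M.comap (psi x)).map (psi x) = S ⊓ M := Subgroup.map_comap_eq (psi x) M
  have hcard' : Nat.card (M.comap (psi x)) = Nat.card ↥(S ⊓ M) := by
    rw [← hmap, Subgroup.card_map_of_injective (psi_injective x)]
  have hcardM : Nat.card M = Fintype.card β * Nat.card (M.comap (psi x)) := by
    rw [hcard', ← Nat.card_eq_fintype_card, ← hrelM, ← Subgroup.inf_relIndex_right S M, mul_comm]
    have h1 := (Subgroup.subgroupOf (S ⊓ M) M).card_mul_index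
    rw [Nat.card_congr (Subgroup.subgroupOfEquivOfLe (inf_le_right : S ⊓ M ≤ M)).toEquiv] at h1
    exact h1.symm
  refine ⟨⟨comap_psi_le_alt M hMA x, ?_, ?_⟩, hcardM, ?_⟩
  · intro p hp hd
    apply hM.2.1 p hp
    rw [hcard'] at hd
    exact hd.trans (Subgroup.card_dvd_of_le inf_le_right)
  · intro p hp hpπ hd
    apply hM.2.2 p hp hpπ
    rw [Subgroup.relIndex_comap, map_alt, hkey] at hd
    exact hd
  · intro r hr hd
    apply hM.2.1 r hr
    rw [hcardM]
    exact Dvd.dvd.mul_right hd _

end Cfsg.Agent.Lib.Helper66.HallAlt
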