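import Mathlib
import Cfsg.Prelude.Def_KGroupFacts

set_option autoImplicit false

namespace Cfsg.Agent.Lib.Helper66

open scoped commutatorElement

/-- Underlying type of the Heisenberg-like central extension of `ZMod m × ZMod n` by `ZMod n`. -/
@[ext] structure Heis (m n : ℕ) : Type where
  c : ZMod n
  i : ZMod m
  j : ZMod n

namespace Heis

variable {m n : ℕ}

/-- reduction `ZMod m → ZMod n` (a ring hom when `n ∣ m`). -/
def red (x : ZMod m) : ZMod n := ZMod.cast x

theorem red_add (hnm : n ∣ m) (x y : ZMod m) : (red (x + y) : ZMod n) = red x + red y :=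
  ZMod.cast_add hnm x y

theorem red_zero : (red (0 : ZMod m) : ZMod n) = 0 := ZMod.cast_zero

theorem red_neg (hnm : n ∣ m) (x : ZMod m) : (red (-x) : ZMod n) = - red x :=
  ZMod.cast_neg hnm x

theorem red_one (hnm : n ∣ m) : (red (1 : ZMod m) : ZMod n) = 1 := ZMod.cast_one hnm

/-- the group structure -/
@[reducible] def group (hnm : n ∣ m) : Group (Heis m n) where
  mul x y := ⟨x.c + y.c + x.j * red y.i, x.i + y.i, x.j + y.j⟩
  one := ⟨0, 0, 0⟩
  inv x := ⟨-x.c + x.j * red x.i, -x.i, -x.j⟩
  mul_assoc x y z := by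
    apply Heis.ext
    · show x.c + y.c + x.j * red y.i + z.c + (x.j + y.j) * red z.i =
        x.c + (y.c + z.c + y.j * red z.i) + x.j * red (y.i + z.i)
      rw [red_add hnm]; ring
    · show x.i + y.i + z.i = x.i + (y.i + z.i)
      ring
    · show x.j + y.j + z.j = x.j + (y.j + z.j)
      ring
  one_mul x := by
    apply Heis.ext
    · show (0 : ZMod n) + x.c + 0 * red x.i = x.c
      ring
    · show (0 : ZMod m) + x.i = x.i
      ring
    · show (0 : ZMod n) + x.j = x.j
      ring
  mul_one x := by
    apply Heis.ext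
    · show x.c + 0 + x.j * red (0 : ZMod m) = x.c
      rw [red_zero]; ring
    · show x.i + 0 = x.i
      ring
    · show x.j + 0 = x.j
      ring
  inv_mul_cancel x := by
    apply Heis.ext
    · show -x.c + x.j * red x.i + x.c + (-x.j) * red x.i = 0
      ring
    · show -x.i + x.i = 0
      ring
    · show -x.j + x.j = 0
      ring

instance instGroupHeis [h : Fact (n ∣ m)] : Group (Heis m n) := Heis.group h.out

section

variable [h : Fact (n ∣ m)]

theorem mul_c (x y : Heis m n) : (x * y).c = x.c + y.c + x.j * red y.i := rfl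
theorem mul_i (x y : Heis m n) : (x * y).i = x.i + y.i := rfl
theorem mul_j (x y : Heis m n) : (x * y).j = x.j + y.j := rfl
theorem one_c : (1 : Heis m n).c = 0 := rfl
theorem one_i : (1 : Heis m n).i = 0 := rfl
theorem one_j : (1 : Heis m n).j = 0 := rfl
theorem inv_c (x : Heis m n) : (x⁻¹).c = -x.c + x.j * red x.i := rfl
theorem inv_i (x : Heis m n) : (x⁻¹).i = -x.i := rfl
theorem inv_j (x : Heis m n) : (x⁻¹).j = -x.j := rfl

/-- The equivalence with a product, for finiteness. -/
def equivProd : Heis m n ≃ ZMod n × ZMod m × ZMod n where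
  toFun x := (x.c, x.i, x.j)
  invFun t := ⟨t.1, t.2.1, t.2.2⟩
  left_inv _ := rfl
  right_inv _ := rfl

instance instFiniteHeis [NeZero m] [NeZero n] : Finite (Heis m n) :=
  Finite.of_equiv _ (equivProd (m := m) (n := n)).symm

/-- The projection onto `ZMod m × ZMod n`. -/
def proj : Heis m n →* Multiplicative (ZMod m × ZMod n) where
  toFun x := Multiplicative.ofAdd (x.i, x.j)
  map_one' := rfl
  map_mul' _ _ := rfl

theorem proj_surjective : Function.Surjective (proj (m := m) (n := n)) := by
  intro y
  exact ⟨⟨0, (Multiplicative.toAdd y).1, (Multiplicative.toAdd y).2⟩, rfl⟩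

theorem mem_ker_proj (x : Heis m n) : x ∈ (proj (m := m) (n := n)).ker ↔ x.i = 0 ∧ x.j = 0 := by
  rw [MonoidHom.mem_ker]
  constructor
  · intro hx
    have : (x.i, x.j) = (0, 0) := hx
    exact ⟨congrArg Prod.fst this, congrArg Prod.snd this⟩
  · rintro ⟨h1, h2⟩
    show Multiplicative.ofAdd (x.i, x.j) = 1
    rw [h1, h2]; rfl

/-- the central element `(c, 0, 0)` -/
def cen (c : ZMod n) : Heis m n := ⟨c, 0, 0⟩

theorem cen_add (a b : ZMod n) : (cen (a + b) : Heis m n) = cen a * cen b := by
  apply Heis.ext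
  · rw [mul_c]; simp [cen]
  · rw [mul_i]; simp [cen]
  · rw [mul_j]; simp [cen]

/-- the kernel is `ZMod n` -/
def kerHom : Multiplicative (ZMod n) →* (proj (m := m) (n := n)).ker where
  toFun a := ⟨cen (Multiplicative.toAdd a), (mem_ker_proj _).2 ⟨rfl, rfl⟩⟩
  map_one' := by
    apply Subtype.ext
    rfl
  map_mul' a b := by
    apply Subtype.ext
    exact cen_add _ _

theorem kerHom_bijective : Function.Bijective (kerHom (m := m) (n := n)) := by
  constructor
  · intro a b hab
    have h1 := congrArg (fun x : (proj (m := m) (n := n)).ker => (x : Heis m n).c) hab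
    exact h1
  · rintro ⟨x, hx⟩
    obtain ⟨h1, h2⟩ := (mem_ker_proj x).1 hx
    refine ⟨Multiplicative.ofAdd x.c, ?_⟩
    apply Subtype.ext
    apply Heis.ext
    · rfl
    · exact h1.symm
    · exact h2.symm

theorem cen_mem_center (c : ZMod n) : (cen c : Heis m n) ∈ Subgroup.center (Heis m n) := by
  rw [Subgroup.mem_center_iff]
  intro g
  apply Heis.ext
  · rw [mul_c, mul_c]
    simp only [cen]
    rw [red_zero]; ring
  · rw [mul_i, mul_i]; simp [cen]
  · rw [mul_j, mul_j]; simp [cen, add_comm]

theorem cen_one_eq_comm :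
    (cen 1 : Heis m n) = ⁅(⟨0, 0, 1⟩ : Heis m n), (⟨0, 1, 0⟩ : Heis m n)⁆ := by
  rw [commutatorElement_def]
  apply Heis.ext
  · simp only [mul_c, mul_i, mul_j, inv_c, inv_i, inv_j, cen]
    rw [red_zero]
    ring_nf
    rw [red_one (m := m) (n := n) h.out, red_zero (m := m) (n := n)]
    ring
  · simp only [mul_i, inv_i, cen]; ring
  · simp only [mul_j, inv_j, cen]; ring

theorem cen_natCast (k : ℕ) : (cen (k : ZMod n) : Heis m n) = (cen 1) ^ k := by
  induction k with
  | zero =>
    rw [pow_zero]; apply Heis.ext <;> simp [cen, one_c, one_i, one_j]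
  | succ k ih =>
    rw [pow_succ, ← ih, ← cen_add]; push_cast; rfl

theorem cen_mem_commutator [NeZero n] (c : ZMod n) : (cen c : Heis m n) ∈ commutator (Heis m n) := by
  have : c = ((c.val : ℕ) : ZMod n) := (ZMod.natCast_zmod_val c).symm
  rw [this, cen_natCast]
  apply Subgroup.pow_mem
  rw [cen_one_eq_comm]
  exact Subgroup.commutator_mem_commutator (Subgroup.mem_top _) (Subgroup.mem_top _)

theorem proj_isStem [NeZero n] : Cfsg.IsStemExtension (proj (m := m) (n := n)) := by
  refine ⟨proj_surjective, ?_, ?_⟩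
  · intro x hx
    obtain ⟨h1, h2⟩ := (mem_ker_proj x).1 hx
    have : x = cen x.c := by
      apply Heis.ext
      · rfl
      · exact h1
      · exact h2
    rw [this]; exact cen_mem_center _
  · intro x hx
    obtain ⟨h1, h2⟩ := (mem_ker_proj x).1 hx
    have : x = cen x.c := by
      apply Heis.ext
      · rfl
      · exact h1
      · exact h2
    rw [this]; exact cen_mem_commutator _

end

end Heis

end Cfsg.Agent.Lib.Helper66
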