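import Mathlib
import Cfsg.Prelude.Def_KGroupFacts
import Cfsg.Agent.Lib.Helper66.Hopf

set_option autoImplicit false

namespace Cfsg.Agent.Lib.Helper66

universe u w

/-- Every stem extension `τ : Δ →* Q` of a finite group (in any universe) is a homomorphic image,
over `Q`, of a Schur cover attached to a given finite free presentation. -/
theorem exists_cover_over {α : Type u} {Q : Type u} [Group Q] [Finite Q] [Finite α]
    (ρ : FreeGroup α →* Q) (hρ : Function.Surjective ρ) {Δ : Type w} [Group Δ] (τ : Δ →* Q)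
    (hτ : Cfsg.IsStemExtension τ) :
    ∃ (Γ : Type u) (_ : Group Γ) (_ : Finite Γ) (σ : Γ →* Q), Cfsg.IsStemExtension σ ∧
      Nonempty (σ.ker ≃* ↥(hopfM ρ)) ∧ ∃ β : Γ →* Δ, Function.Surjective β ∧ τ.comp β = σ := by
  obtain ⟨β0, hβ0, hβ0M⟩ := exists_lift_central ρ hρ τ hτ.1 hτ.2.1
  have hβ0' : ∀ x, τ (β0 x) = uceMap ρ x := fun x =>
    congrArg (fun f : (FreeGroup α ⧸ uceK ρ) →* Q => f x) hβ0
  have hM : (hopfM ρ).map β0 = τ.ker := by
    rw [hβ0M]; exact inf_eq_right.2 hτ.2.2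
  have hβ0surj : Function.Surjective β0 := by
    intro d
    obtain ⟨e0, he0⟩ := uceMap_surjective ρ hρ (τ d)
    have hk : d * (β0 e0)⁻¹ ∈ τ.ker := by
      rw [MonoidHom.mem_ker, map_mul, map_inv, hβ0', he0, mul_inv_cancel]
    rw [← hM] at hk
    obtain ⟨m, _, hm⟩ := hk
    refine ⟨m * e0, ?_⟩
    rw [map_mul, hm, inv_mul_cancel_right]
  obtain ⟨S, hSN, hSM, hS2⟩ := exists_hopf_complement ρ ((uceMap ρ).ker ⊓ β0.ker) inf_le_left
  have hSker : S ≤ (uceMap ρ).ker := hSN.trans inf_le_left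
  have hSβ : S ≤ β0.ker := hSN.trans inf_le_right
  haveI : S.Normal := normal_of_le_center S (hSker.trans (uceMap_ker_le_center _))
  have hdecomp : ∀ x ∈ (uceMap ρ).ker, ∃ s ∈ S, ∃ m ∈ hopfM ρ, x = s * m := by
    intro x hx
    have hk : β0 x ∈ τ.ker := by
      rw [MonoidHom.mem_ker, hβ0']; exact MonoidHom.mem_ker.1 hx
    rw [← hM] at hk
    obtain ⟨m0, hm0, hm0x⟩ := hk
    have hxN : x * m0⁻¹ ∈ (uceMap ρ).ker ⊓ β0.ker := by
      refine ⟨Subgroup.mul_mem _ hx (Subgroup.inv_mem _ (hopfM_le_ker _ hm0)), ?_⟩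
      show x * m0⁻¹ ∈ β0.ker
      rw [MonoidHom.mem_ker, map_mul, map_inv, hm0x, mul_inv_cancel]
    obtain ⟨s, hs, m1, hm1, hxsm⟩ := hS2 _ hxN
    refine ⟨s, hs, m1 * m0, Subgroup.mul_mem _ hm1.2 hm0, ?_⟩
    rw [← mul_assoc, ← hxsm, inv_mul_cancel_right]
  obtain ⟨h1, ⟨eM⟩, h3⟩ := cover_of_complement ρ hρ S hSker hSM hdecomp
  refine ⟨(FreeGroup α ⧸ uceK ρ) ⧸ S, inferInstance, h3,
    QuotientGroup.lift S (uceMap ρ) hSker, h1, ⟨eM⟩,
    QuotientGroup.lift S β0 hSβ, ?_, ?_⟩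
  · intro d
    obtain ⟨x, hx⟩ := hβ0surj d
    exact ⟨QuotientGroup.mk x, hx⟩
  · apply MonoidHom.ext
    intro y
    obtain ⟨x, rfl⟩ := QuotientGroup.mk_surjective y
    exact hβ0' x

end Cfsg.Agent.Lib.Helper66
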