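import Mathlib

/-!
# From a free linear action to an irreducible free matrix representation (helper66)
-/

set_option autoImplicit false

namespace Cfsg.Agent.Lib.Helper66.IrrMatrixRep

open Matrix

section

variable {k : Type*} [Field k] {G : Type*} [Group G] {V : Type*} [AddCommGroup V] [Module k V]

/-- A minimal nonzero invariant subspace. -/
theorem exists_minimal_invariant [FiniteDimensional k V] [Nontrivial V] (ρ : G →* Module.End k V) :
    ∃ S : Submodule k V, S ≠ ⊥ ∧ (∀ g : G, ∀ x ∈ S, ρ g x ∈ S) ∧
      ∀ T : Submodule k V, T ≤ S → (∀ g : G, ∀ x ∈ T, ρ g x ∈ T) → T = ⊥ ∨ T = S := by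
  let 𝒮 : Set (Submodule k V) := {S | S ≠ ⊥ ∧ ∀ g : G, ∀ x ∈ S, ρ g x ∈ S}
  have hne : 𝒮.Nonempty := ⟨⊤, top_ne_bot, fun _ _ _ => Submodule.mem_top⟩
  obtain ⟨S, hS, hmin⟩ := (wellFounded_lt (α := Submodule k V)).has_min 𝒮 hne
  refine ⟨S, hS.1, hS.2, ?_⟩
  intro T hTS hT
  by_cases h : T = ⊥
  · exact Or.inl h
  · right
    by_contra hne
    exact hmin T ⟨h, hT⟩ (lt_of_le_of_ne hTS hne)

/-- The restriction of a representation to an invariant subspace. -/
noncomputable def restrictRep (ρ : G →* Module.End k V) (S : Submodule k V)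
    (hS : ∀ g : G, ∀ x ∈ S, ρ g x ∈ S) : G →* Module.End k S where
  toFun g := (ρ g).restrict (hS g)
  map_one' := by
    ext x
    simp
  map_mul' a b := by
    ext x
    simp

@[simp] theorem restrictRep_apply_coe (ρ : G →* Module.End k V) (S : Submodule k V)
    (hS : ∀ g : G, ∀ x ∈ S, ρ g x ∈ S) (g : G) (x : S) :
    ((restrictRep ρ S hS g x : S) : V) = ρ g (x : V) := rfl

/-- The matrix representation attached to a representation on a space with a finite basis. -/
noncomputable def matrixRep {n : ℕ} (b : Module.Basis (Fin n) k V) (σ : G →* Module.End k V) :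
    G →* GL (Fin n) k :=
  (Units.map ((LinearMap.toMatrixAlgEquiv b : Module.End k V ≃ₐ[k] Matrix (Fin n) (Fin n) k) :
    Module.End k V →* Matrix (Fin n) (Fin n) k)).comp σ.toHomUnits

theorem matrixRep_coe {n : ℕ} (b : Module.Basis (Fin n) k V) (σ : G →* Module.End k V) (g : G) :
    ((matrixRep b σ g : GL (Fin n) k) : Matrix (Fin n) (Fin n) k) = LinearMap.toMatrix b b (σ g) := by
  simp [matrixRep, LinearMap.toMatrixAlgEquiv]

theorem matrixRep_mulVec {n : ℕ} (b : Module.Basis (Fin n) k V) (σ : G →* Module.End k V) (g : G)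
    (x : V) :
    ((matrixRep b σ g : GL (Fin n) k) : Matrix (Fin n) (Fin n) k).mulVec (b.equivFun x)
      = b.equivFun (σ g x) := by
  rw [matrixRep_coe]
  exact LinearMap.toMatrix_mulVec_repr b b (σ g) x

/-- A free linear action on a nonzero finite-dimensional space yields a faithful irreducible
matrix representation in which nonidentity elements have no nonzero fixed vector. -/
theorem exists_irreducible_free_matrixRep [FiniteDimensional k V] [Nontrivial V]
    (ρ₀ : G →* Module.End k V) (hfree : ∀ g : G, g ≠ 1 → ∀ v : V, ρ₀ g v = v → v = 0) :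
    ∃ (n : ℕ) (ρ : G →* GL (Fin n) k), 0 < n ∧ Function.Injective ρ ∧
      (∀ W : Submodule k (Fin n → k),
        (∀ g : G, ∀ w ∈ W, ((ρ g : GL (Fin n) k) : Matrix (Fin n) (Fin n) k).mulVec w ∈ W) →
          W = ⊥ ∨ W = ⊤) ∧
      ∀ g : G, g ≠ 1 → ∀ v : Fin n → k,
        ((ρ g : GL (Fin n) k) : Matrix (Fin n) (Fin n) k).mulVec v = v → v = 0 := by
  obtain ⟨S, hS0, hSinv, hSmin⟩ := exists_minimal_invariant ρ₀
  set σ := restrictRep ρ₀ S hSinv with hσ
  set n := Module.finrank k S with hn
  let b : Module.Basis (Fin n) k S := Module.finBasis k S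
  have hSnt : Nontrivial S := (Submodule.nontrivial_iff_ne_bot).mpr hS0
  have hnpos : 0 < n := Module.finrank_pos
  have hfix : ∀ g : G, g ≠ 1 → ∀ v : Fin n → k,
      ((matrixRep b σ g : GL (Fin n) k) : Matrix (Fin n) (Fin n) k).mulVec v = v → v = 0 := by
    intro g hg v hv
    obtain ⟨x, rfl⟩ := b.equivFun.surjective v
    rw [matrixRep_mulVec] at hv
    have hx : σ g x = x := b.equivFun.injective hv
    have hx' : ρ₀ g (x : V) = x := by
      have := congrArg Subtype.val hx
      simpa [hσ] using this
    have : (x : V) = 0 := hfree g hg _ hx'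
    have hx0 : x = 0 := Subtype.ext this
    rw [hx0, map_zero]
  refine ⟨n, matrixRep b σ, hnpos, ?_, ?_, hfix⟩
  · rw [injective_iff_map_eq_one]
    intro g hg
    by_contra hg1
    have h1 := hfix g hg1 (Pi.single ⟨0, hnpos⟩ 1) (by
      rw [hg, Units.val_one, Matrix.one_mulVec])
    have := congrFun h1 ⟨0, hnpos⟩
    simp at this
  · intro W hW
    -- pull `W` back to a subspace of `S`, then push into `V`
    set T : Submodule k S := W.comap b.equivFun.toLinearMap with hT
    have hTinv : ∀ g : G, ∀ x ∈ T, σ g x ∈ T := by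
      intro g x hx
      rw [hT, Submodule.mem_comap] at hx ⊢
      have := hW g _ hx
      rw [LinearEquiv.coe_coe, matrixRep_mulVec] at this
      exact this
    have hT' : ∀ g : G, ∀ y ∈ T.map S.subtype, ρ₀ g y ∈ T.map S.subtype := by
      rintro g _ ⟨x, hx, rfl⟩
      exact ⟨σ g x, hTinv g x hx, rfl⟩
    have hle : T.map S.subtype ≤ S := by
      rintro _ ⟨x, -, rfl⟩
      exact x.2
    have hWT : W = T.map b.equivFun.toLinearMap := by
      rw [hT, Submodule.map_comap_eq_of_surjective b.equivFun.surjective]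
    rcases hSmin _ hle hT' with h | h
    · left
      have hTbot : T = ⊥ := by
        rw [eq_bot_iff]
        intro x hx
        have : (x : V) ∈ T.map S.subtype := ⟨x, hx, rfl⟩
        rw [h, Submodule.mem_bot] at this
        rw [Submodule.mem_bot]
        exact Subtype.ext this
      rw [hWT, hTbot, Submodule.map_bot]
    · right
      have hTtop : T = ⊤ := by
        rw [eq_top_iff]
        intro x _
        have : (x : V) ∈ T.map S.subtype := by rw [h]; exact x.2
        obtain ⟨y, hy, hyx⟩ := this
        have : y = x := Subtype.ext hyx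
        rwa [← this]
      rw [hWT, hTtop, Submodule.map_top, LinearMap.range_eq_top]
      exact b.equivFun.surjective

end

end Cfsg.Agent.Lib.Helper66.IrrMatrixRep
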