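import Mathlib
import Cfsg.Prelude.Def_KGroupFacts

set_option autoImplicit false

namespace Cfsg.Agent.Lib.Helper66

open scoped commutatorElement TensorProduct

universe u v u' v'

theorem finite_tensorProduct (M N : Type*) [AddCommGroup M] [AddCommGroup N] [Finite M] [Finite N] :
    Finite (M ⊗[ℤ] N) := by
  haveI : Module.Finite ℤ (M ⊗[ℤ] N) := Module.Finite.tensorProduct ℤ M N
  apply Module.finite_of_fg_torsion
  intro x
  have hpos : 0 < Nat.card M := Nat.card_pos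
  have hne : (Nat.card M : ℤ) ≠ 0 := by exact_mod_cast hpos.ne'
  refine ⟨⟨(Nat.card M : ℤ), mem_nonZeroDivisors_of_ne_zero hne⟩, ?_⟩
  show (Nat.card M : ℤ) • x = 0
  induction x using TensorProduct.induction_on with
  | zero => simp
  | tmul m n =>
    rw [TensorProduct.smul_tmul', Nat.cast_smul_eq_nsmul, card_nsmul_eq_zero',
      TensorProduct.zero_tmul]
  | add x y hx hy => rw [smul_add, hx, hy, add_zero]

section abar

variable {Γ : Type*} {Q : Type*} [Group Γ] [Group Q] (σ : Γ →* Q)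

/-- the class of `σ x` in the additive commutator quotient of `Q` -/
def abar (x : Γ) : Additive (Abelianization Q) := Additive.ofMul (Abelianization.of (σ x))

theorem abar_mul (x y : Γ) : abar σ (x * y) = abar σ x + abar σ y := by
  unfold abar
  rw [map_mul, map_mul]
  rfl

theorem abar_one : abar σ 1 = 0 := by
  unfold abar
  rw [map_one, map_one]
  rfl

theorem abar_inv (x : Γ) : abar σ x⁻¹ = - abar σ x := by
  unfold abar
  rw [map_inv, map_inv]
  rfl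

theorem abar_of_mem_ker {x : Γ} (h : x ∈ σ.ker) : abar σ x = 0 := by
  unfold abar
  rw [MonoidHom.mem_ker.1 h, map_one]
  rfl

theorem abar_surjective (hσ : Function.Surjective σ) : Function.Surjective (abar σ) := by
  intro a
  obtain ⟨q, hq⟩ := QuotientGroup.mk_surjective (Additive.toMul a)
  obtain ⟨x, rfl⟩ := hσ q
  exact ⟨x, congrArg Additive.ofMul hq⟩

end abar

variable {Γ₁ : Type u} {Γ₂ : Type v} {Q₁ : Type u'} {Q₂ : Type v'}
  [Group Γ₁] [Group Γ₂] [Group Q₁] [Group Q₂]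

/-- Underlying type of the twisted product of two extensions. -/
@[ext] structure KProd (σ₁ : Γ₁ →* Q₁) (σ₂ : Γ₂ →* Q₂) : Type (max u v u' v') where
  t : Additive (Abelianization Q₁) ⊗[ℤ] Additive (Abelianization Q₂)
  x : Γ₁
  y : Γ₂

namespace KProd

variable {σ₁ : Γ₁ →* Q₁} {σ₂ : Γ₂ →* Q₂}

instance instGroupKProd : Group (KProd σ₁ σ₂) where
  mul a b := ⟨a.t + b.t + abar σ₁ b.x ⊗ₜ[ℤ] abar σ₂ a.y, a.x * b.x, a.y * b.y⟩
  one := ⟨0, 1, 1⟩
  inv a := ⟨-a.t + abar σ₁ a.x ⊗ₜ[ℤ] abar σ₂ a.y, a.x⁻¹, a.y⁻¹⟩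
  mul_assoc a b c := by
    apply KProd.ext
    · show a.t + b.t + abar σ₁ b.x ⊗ₜ[ℤ] abar σ₂ a.y + c.t + abar σ₁ c.x ⊗ₜ[ℤ] abar σ₂ (a.y * b.y) =
        a.t + (b.t + c.t + abar σ₁ c.x ⊗ₜ[ℤ] abar σ₂ b.y) + abar σ₁ (b.x * c.x) ⊗ₜ[ℤ] abar σ₂ a.y
      rw [abar_mul, abar_mul, TensorProduct.tmul_add, TensorProduct.add_tmul]
      abel
    · show a.x * b.x * c.x = a.x * (b.x * c.x)
      rw [mul_assoc]
    · show a.y * b.y * c.y = a.y * (b.y * c.y)
      rw [mul_assoc]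
  one_mul a := by
    apply KProd.ext
    · show (0 : Additive (Abelianization Q₁) ⊗[ℤ] Additive (Abelianization Q₂)) + a.t +
        abar σ₁ a.x ⊗ₜ[ℤ] abar σ₂ 1 = a.t
      rw [abar_one, TensorProduct.tmul_zero]
      abel
    · show 1 * a.x = a.x
      rw [one_mul]
    · show 1 * a.y = a.y
      rw [one_mul]
  mul_one a := by
    apply KProd.ext
    · show a.t + 0 + abar σ₁ 1 ⊗ₜ[ℤ] abar σ₂ a.y = a.t
      rw [abar_one, TensorProduct.zero_tmul]
      abel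
    · show a.x * 1 = a.x
      rw [mul_one]
    · show a.y * 1 = a.y
      rw [mul_one]
  inv_mul_cancel a := by
    apply KProd.ext
    · show -a.t + abar σ₁ a.x ⊗ₜ[ℤ] abar σ₂ a.y + a.t + abar σ₁ a.x ⊗ₜ[ℤ] abar σ₂ a.y⁻¹ = 0
      rw [abar_inv, TensorProduct.tmul_neg]
      abel
    · show a.x⁻¹ * a.x = 1
      rw [inv_mul_cancel]
    · show a.y⁻¹ * a.y = 1
      rw [inv_mul_cancel]

theorem mul_t (a b : KProd σ₁ σ₂) :
    (a * b).t = a.t + b.t + abar σ₁ b.x ⊗ₜ[ℤ] abar σ₂ a.y := rfl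
theorem mul_x (a b : KProd σ₁ σ₂) : (a * b).x = a.x * b.x := rfl
theorem mul_y (a b : KProd σ₁ σ₂) : (a * b).y = a.y * b.y := rfl
theorem one_t : (1 : KProd σ₁ σ₂).t = 0 := rfl
theorem one_x : (1 : KProd σ₁ σ₂).x = 1 := rfl
theorem one_y : (1 : KProd σ₁ σ₂).y = 1 := rfl

/-- The equivalence with a product, for finiteness. -/
def equivProd : KProd σ₁ σ₂ ≃
    (Additive (Abelianization Q₁) ⊗[ℤ] Additive (Abelianization Q₂)) × Γ₁ × Γ₂ where
  toFun a := (a.t, a.x, a.y)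
  invFun p := ⟨p.1, p.2.1, p.2.2⟩
  left_inv _ := rfl
  right_inv _ := rfl

instance instFiniteKProd [Finite Γ₁] [Finite Γ₂] [Finite Q₁] [Finite Q₂] :
    Finite (KProd σ₁ σ₂) := by
  haveI := finite_tensorProduct (Additive (Abelianization Q₁)) (Additive (Abelianization Q₂))
  exact Finite.of_equiv _ (equivProd (σ₁ := σ₁) (σ₂ := σ₂)).symm

/-- The projection onto `Q₁ × Q₂`. -/
def proj : KProd σ₁ σ₂ →* Q₁ × Q₂ where
  toFun a := (σ₁ a.x, σ₂ a.y)
  map_one' := by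
    show (σ₁ 1, σ₂ 1) = 1
    rw [map_one, map_one]; rfl
  map_mul' a b := by
    show (σ₁ (a.x * b.x), σ₂ (a.y * b.y)) = (σ₁ a.x, σ₂ a.y) * (σ₁ b.x, σ₂ b.y)
    rw [map_mul, map_mul]; rfl

theorem proj_apply (a : KProd σ₁ σ₂) : proj a = (σ₁ a.x, σ₂ a.y) := rfl

theorem proj_surjective (h₁ : Function.Surjective σ₁) (h₂ : Function.Surjective σ₂) :
    Function.Surjective (proj (σ₁ := σ₁) (σ₂ := σ₂)) := by
  rintro ⟨q₁, q₂⟩
  obtain ⟨x, rfl⟩ := h₁ q₁
  obtain ⟨y, rfl⟩ := h₂ q₂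
  exact ⟨⟨0, x, y⟩, rfl⟩

theorem mem_ker_proj (a : KProd σ₁ σ₂) :
    a ∈ (proj (σ₁ := σ₁) (σ₂ := σ₂)).ker ↔ a.x ∈ σ₁.ker ∧ a.y ∈ σ₂.ker := by
  rw [MonoidHom.mem_ker, proj_apply, Prod.ext_iff, MonoidHom.mem_ker, MonoidHom.mem_ker]
  rfl

/-- the embedding of the tensor product -/
def inT : Multiplicative (Additive (Abelianization Q₁) ⊗[ℤ] Additive (Abelianization Q₂)) →*
    KProd σ₁ σ₂ where
  toFun t := ⟨Multiplicative.toAdd t, 1, 1⟩
  map_one' := rfl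
  map_mul' s t := by
    apply KProd.ext
    · show Multiplicative.toAdd (s * t) =
        Multiplicative.toAdd s + Multiplicative.toAdd t + abar σ₁ 1 ⊗ₜ[ℤ] abar σ₂ 1
      rw [abar_one, TensorProduct.zero_tmul, add_zero]
      rfl
    · show (1 : Γ₁) = 1 * 1
      rw [mul_one]
    · show (1 : Γ₂) = 1 * 1
      rw [mul_one]

/-- the embedding of the first factor -/
def inX : Γ₁ →* KProd σ₁ σ₂ where
  toFun x := ⟨0, x, 1⟩
  map_one' := rfl
  map_mul' x x' := by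
    apply KProd.ext
    · show (0 : Additive (Abelianization Q₁) ⊗[ℤ] Additive (Abelianization Q₂)) =
        0 + 0 + abar σ₁ x' ⊗ₜ[ℤ] abar σ₂ 1
      rw [abar_one, TensorProduct.tmul_zero, add_zero, add_zero]
    · rfl
    · show (1 : Γ₂) = 1 * 1
      rw [mul_one]

/-- the embedding of the second factor -/
def inY : Γ₂ →* KProd σ₁ σ₂ where
  toFun y := ⟨0, 1, y⟩
  map_one' := rfl
  map_mul' y y' := by
    apply KProd.ext
    · show (0 : Additive (Abelianization Q₁) ⊗[ℤ] Additive (Abelianization Q₂)) =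
        0 + 0 + abar σ₁ 1 ⊗ₜ[ℤ] abar σ₂ y
      rw [abar_one, TensorProduct.zero_tmul, add_zero, add_zero]
    · show (1 : Γ₁) = 1 * 1
      rw [mul_one]
    · rfl

theorem inT_t (t : Multiplicative (Additive (Abelianization Q₁) ⊗[ℤ] Additive (Abelianization Q₂))) :
    (inT (σ₁ := σ₁) (σ₂ := σ₂) t).t = Multiplicative.toAdd t := rfl

/-- decomposition of an element -/
theorem eq_inT_mul_inX_mul_inY (a : KProd σ₁ σ₂) :
    a = inT (Multiplicative.ofAdd a.t) * inX a.x * inY a.y := by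
  apply KProd.ext
  · show a.t = a.t + 0 + abar σ₁ a.x ⊗ₜ[ℤ] abar σ₂ 1 + 0 + abar σ₁ 1 ⊗ₜ[ℤ] abar σ₂ (1 * 1)
    rw [abar_one, abar_one, TensorProduct.tmul_zero, TensorProduct.zero_tmul]
    abel
  · show a.x = 1 * a.x * 1
    rw [one_mul, mul_one]
  · show a.y = 1 * 1 * a.y
    rw [one_mul, one_mul]

/-- pure tensors are commutators -/
theorem inT_tmul_eq_commutator (x : Γ₁) (y : Γ₂) :
    inT (σ₁ := σ₁) (σ₂ := σ₂) (Multiplicative.ofAdd (abar σ₁ x ⊗ₜ[ℤ] abar σ₂ y)) =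
      ⁅(inY y : KProd σ₁ σ₂), inX x⁆ := by
  rw [commutatorElement_def, eq_mul_inv_iff_mul_eq, eq_mul_inv_iff_mul_eq]
  apply KProd.ext
  · show abar σ₁ x ⊗ₜ[ℤ] abar σ₂ y + 0 + abar σ₁ x ⊗ₜ[ℤ] abar σ₂ 1 + 0 +
      abar σ₁ 1 ⊗ₜ[ℤ] abar σ₂ (1 * 1) = 0 + 0 + abar σ₁ x ⊗ₜ[ℤ] abar σ₂ y
    rw [abar_one, abar_one, TensorProduct.tmul_zero, TensorProduct.zero_tmul]
    abel
  · show 1 * x * 1 = 1 * x
    rw [mul_one]
  · show 1 * 1 * y = y * 1
    rw [one_mul, one_mul, mul_one]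

theorem inT_mem_commutator (h₁ : Function.Surjective σ₁) (h₂ : Function.Surjective σ₂)
    (t : Multiplicative (Additive (Abelianization Q₁) ⊗[ℤ] Additive (Abelianization Q₂))) :
    inT (σ₁ := σ₁) (σ₂ := σ₂) t ∈ commutator (KProd σ₁ σ₂) := by
  have key : ∀ s : Additive (Abelianization Q₁) ⊗[ℤ] Additive (Abelianization Q₂),
      inT (σ₁ := σ₁) (σ₂ := σ₂) (Multiplicative.ofAdd s) ∈ commutator (KProd σ₁ σ₂) := by
    intro s
    induction s using TensorProduct.induction_on with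
    | zero =>
      rw [ofAdd_zero, map_one]
      exact Subgroup.one_mem _
    | tmul m n =>
      obtain ⟨x, rfl⟩ := abar_surjective σ₁ h₁ m
      obtain ⟨y, rfl⟩ := abar_surjective σ₂ h₂ n
      rw [inT_tmul_eq_commutator]
      exact Subgroup.commutator_mem_commutator (Subgroup.mem_top _) (Subgroup.mem_top _)
    | add s s' hs hs' =>
      rw [ofAdd_add, map_mul]
      exact Subgroup.mul_mem _ hs hs'
  exact key (Multiplicative.toAdd t)

theorem inX_mem_commutator {x : Γ₁} (hx : x ∈ commutator Γ₁) :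
    inX (σ₁ := σ₁) (σ₂ := σ₂) x ∈ commutator (KProd σ₁ σ₂) := by
  have : inX (σ₁ := σ₁) (σ₂ := σ₂) x ∈ (commutator Γ₁).map (inX (σ₁ := σ₁) (σ₂ := σ₂)) :=
    ⟨x, hx, rfl⟩
  rw [commutator_def, Subgroup.map_commutator] at this
  exact Subgroup.commutator_mono le_top le_top this

theorem inY_mem_commutator {y : Γ₂} (hy : y ∈ commutator Γ₂) :
    inY (σ₁ := σ₁) (σ₂ := σ₂) y ∈ commutator (KProd σ₁ σ₂) := by
  have : inY (σ₁ := σ₁) (σ₂ := σ₂) y ∈ (commutator Γ₂).map (inY (σ₁ := σ₁) (σ₂ := σ₂)) :=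
    ⟨y, hy, rfl⟩
  rw [commutator_def, Subgroup.map_commutator] at this
  exact Subgroup.commutator_mono le_top le_top this

/-- the twisted product of two stem extensions is a stem extension -/
theorem proj_isStem (h₁ : Cfsg.IsStemExtension σ₁) (h₂ : Cfsg.IsStemExtension σ₂) :
    Cfsg.IsStemExtension (proj (σ₁ := σ₁) (σ₂ := σ₂)) := by
  refine ⟨proj_surjective h₁.1 h₂.1, ?_, ?_⟩
  · intro a ha
    rw [mem_ker_proj] at ha
    rw [Subgroup.mem_center_iff]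
    intro g
    have hx := Subgroup.mem_center_iff.1 (h₁.2.1 ha.1) g.x
    have hy := Subgroup.mem_center_iff.1 (h₂.2.1 ha.2) g.y
    apply KProd.ext
    · rw [mul_t, mul_t, abar_of_mem_ker σ₁ ha.1, abar_of_mem_ker σ₂ ha.2,
        TensorProduct.zero_tmul, TensorProduct.tmul_zero]
      abel
    · rw [mul_x, mul_x, hx]
    · rw [mul_y, mul_y, hy]
  · intro a ha
    rw [mem_ker_proj] at ha
    rw [eq_inT_mul_inX_mul_inY a]
    exact Subgroup.mul_mem _ (Subgroup.mul_mem _ (inT_mem_commutator h₁.1 h₂.1 _)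
      (inX_mem_commutator (h₁.2.2 ha.1))) (inY_mem_commutator (h₂.2.2 ha.2))

/-- the kernel of the twisted product -/
def kerEquiv : (proj (σ₁ := σ₁) (σ₂ := σ₂)).ker ≃* σ₁.ker × σ₂.ker ×
    Multiplicative (Additive (Abelianization Q₁) ⊗[ℤ] Additive (Abelianization Q₂)) where
  toFun a := (⟨a.1.x, ((mem_ker_proj a.1).1 a.2).1⟩, ⟨a.1.y, ((mem_ker_proj a.1).1 a.2).2⟩,
    Multiplicative.ofAdd a.1.t)
  invFun p := ⟨⟨Multiplicative.toAdd p.2.2, p.1.1, p.2.1.1⟩, (mem_ker_proj _).2 ⟨p.1.2, p.2.1.2⟩⟩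
  left_inv a := rfl
  right_inv p := rfl
  map_mul' a b := by
    refine Prod.ext rfl (Prod.ext rfl ?_)
    show Multiplicative.ofAdd (a.1 * b.1).t = Multiplicative.ofAdd a.1.t * Multiplicative.ofAdd b.1.t
    rw [mul_t, abar_of_mem_ker σ₁ ((mem_ker_proj b.1).1 b.2).1, TensorProduct.zero_tmul, add_zero]
    rfl

end KProd

end Cfsg.Agent.Lib.Helper66
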