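import Mathlib
import Cfsg.Agent.Lib.Helper66.Kunneth

set_option autoImplicit false

namespace Cfsg.Agent.Lib.Helper66

open scoped TensorProduct

/-- a homomorphism to a commutative group that kills the kernel of a surjection `ξ : G → Q`
descends to the commutator quotient of `Q` -/
theorem exists_descend_abelianization {G Q W : Type*} [Group G] [Group Q] [CommGroup W]
    (ξ : G →* Q) (hξ : Function.Surjective ξ) (g : G →* W) (hg : ξ.ker ≤ g.ker) :
    ∃ g' : Abelianization Q →* W, ∀ x, g' (Abelianization.of (ξ x)) = g x := by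
  let d : Q →* W := ξ.liftOfSurjective hξ ⟨g, hg⟩
  have hd : ∀ x, d (ξ x) = g x := fun x =>
    MonoidHom.liftOfRightInverse_comp_apply ξ _ _ ⟨g, hg⟩ x
  refine ⟨Abelianization.lift d, fun x => ?_⟩
  rw [Abelianization.lift_apply_of, hd]

/-- A bimultiplicative pairing `G₁ × G₂ → Z` into a commutative group that is trivial on the
kernels of surjections `ξᵢ : Gᵢ → Qᵢ` induces a homomorphism from `Q₁ᵃᵇ ⊗ Q₂ᵃᵇ`. -/
theorem exists_tensor_hom {G₁ G₂ Q₁ Q₂ Z : Type*} [Group G₁] [Group G₂] [Group Q₁] [Group Q₂]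
    [CommGroup Z] (ξ₁ : G₁ →* Q₁) (ξ₂ : G₂ →* Q₂) (h₁ : Function.Surjective ξ₁)
    (h₂ : Function.Surjective ξ₂) (c : G₁ → G₂ → Z)
    (hl : ∀ x x' y, c (x * x') y = c x y * c x' y)
    (hr : ∀ x y y', c x (y * y') = c x y * c x y')
    (hk₁ : ∀ x ∈ ξ₁.ker, ∀ y, c x y = 1)
    (hk₂ : ∀ x, ∀ y ∈ ξ₂.ker, c x y = 1) :
    ∃ β : Multiplicative (Additive (Abelianization Q₁) ⊗[ℤ] Additive (Abelianization Q₂)) →* Z,
      ∀ x y, β (Multiplicative.ofAdd (abar ξ₁ x ⊗ₜ[ℤ] abar ξ₂ y)) = c x y := by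
  classical
  -- inner maps
  have hin : ∀ x : G₁, ∃ g' : Abelianization Q₂ →* Z, ∀ y, g' (Abelianization.of (ξ₂ y)) = c x y := by
    intro x
    refine exists_descend_abelianization ξ₂ h₂ (MonoidHom.mk' (c x) (hr x)) ?_
    intro y hy
    rw [MonoidHom.mem_ker]
    exact hk₂ x y hy
  choose e he using hin
  -- outer map
  let g : G₁ →* Multiplicative (Additive (Abelianization Q₂) →+ Additive Z) :=
    MonoidHom.mk' (fun x => Multiplicative.ofAdd (MonoidHom.toAdditive (e x))) (by
      intro x x'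
      apply Multiplicative.toAdd.injective
      show MonoidHom.toAdditive (e (x * x')) = MonoidHom.toAdditive (e x) + MonoidHom.toAdditive (e x')
      refine AddMonoidHom.ext fun n => ?_
      obtain ⟨y, rfl⟩ := abar_surjective ξ₂ h₂ n
      show Additive.ofMul (e (x * x') (Abelianization.of (ξ₂ y))) =
        Additive.ofMul (e x (Abelianization.of (ξ₂ y))) + Additive.ofMul (e x' (Abelianization.of (ξ₂ y)))
      rw [he, he, he, hl]
      rfl)
  have hg : ξ₁.ker ≤ g.ker := by
    intro x hx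
    rw [MonoidHom.mem_ker]
    apply Multiplicative.toAdd.injective
    show MonoidHom.toAdditive (e x) = 0
    refine AddMonoidHom.ext fun n => ?_
    obtain ⟨y, rfl⟩ := abar_surjective ξ₂ h₂ n
    show Additive.ofMul (e x (Abelianization.of (ξ₂ y))) = 0
    rw [he, hk₁ x hx]
    rfl
  obtain ⟨g', hg'⟩ := exists_descend_abelianization ξ₁ h₁ g hg
  let F : Additive (Abelianization Q₁) →+ Additive (Abelianization Q₂) →+ Additive Z :=
    MonoidHom.toAdditiveLeft g'
  have hF : ∀ x y, F (abar ξ₁ x) (abar ξ₂ y) = Additive.ofMul (c x y) := by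
    intro x y
    show (Multiplicative.toAdd (g' (Abelianization.of (ξ₁ x)))) (abar ξ₂ y) = _
    rw [hg']
    show Additive.ofMul (e x (Abelianization.of (ξ₂ y))) = _
    rw [he]
  have hbal : ∀ (r : ℤ) (m : Additive (Abelianization Q₁)) (n : Additive (Abelianization Q₂)),
      F (r • m) n = F m (r • n) := by
    intro r m n
    rw [map_zsmul, map_zsmul, AddMonoidHom.smul_apply]
  refine ⟨AddMonoidHom.toMultiplicativeLeft (TensorProduct.liftAddHom F hbal), fun x y => ?_⟩
  show Additive.toMul (TensorProduct.liftAddHom F hbal (abar ξ₁ x ⊗ₜ[ℤ] abar ξ₂ y)) = c x y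
  rw [TensorProduct.liftAddHom_tmul, hF]
  rfl

end Cfsg.Agent.Lib.Helper66
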