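import Mathlib

/-!
# S4015, module [S4015-EMB] (helper15, board #3773)

A faithful linear representation on a space of dimension `≤ n` gives an embedding into
`GL (Fin n) F` (pad with a trivial summand).
-/

namespace Cfsg.Agent.Lib.Helper66.LinRepEmb

/-- Padding a representation with a trivial direct summand. -/
def padHom {F : Type*} [Field F] {Q : Type*} [Group Q] {U : Type*}
    [AddCommGroup U] [Module F U] (ρ : Q →* (U ≃ₗ[F] U)) (T : Type*) [AddCommGroup T]
    [Module F T] : Q →* ((U × T) ≃ₗ[F] (U × T)) where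
  toFun g := LinearEquiv.prodCongr (ρ g) (LinearEquiv.refl F T)
  map_one' := by
    ext ⟨u, t⟩ <;> simp
  map_mul' g h := by
    ext ⟨u, t⟩ <;> simp

lemma padHom_injective {F : Type*} [Field F] {Q : Type*} [Group Q] {U : Type*}
    [AddCommGroup U] [Module F U] (ρ : Q →* (U ≃ₗ[F] U)) (hρ : Function.Injective ρ)
    (T : Type*) [AddCommGroup T] [Module F T] : Function.Injective (padHom ρ T) := by
  intro g h hgh
  apply hρ
  ext u
  have := congrArg (fun f : (U × T) ≃ₗ[F] (U × T) => (f (u, 0)).1) hgh
  simpa [padHom] using this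

theorem exists_embedding_GL {F : Type*} [Field F] {Q : Type*} [Group Q] {U : Type*}
    [AddCommGroup U] [Module F U] [FiniteDimensional F U]
    (ρ : Q →* (U ≃ₗ[F] U)) (hρ : Function.Injective ρ) (n : ℕ)
    (hn : Module.finrank F U ≤ n) :
    ∃ φ : Q →* Matrix.GeneralLinearGroup (Fin n) F, Function.Injective φ := by
  classical
  let T := Fin (n - Module.finrank F U) → F
  have hfr : Module.finrank F (U × T) = Module.finrank F (Fin n → F) := by
    rw [Module.finrank_prod, Module.finrank_fin_fun, Module.finrank_fin_fun]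
    omega
  let e : (U × T) ≃ₗ[F] (Fin n → F) := LinearEquiv.ofFinrankEq _ _ hfr
  let ψ : Q →* ((U × T) ≃ₗ[F] (U × T)) := padHom ρ T
  let E : ((U × T) ≃ₗ[F] (U × T)) ≃* Matrix.GeneralLinearGroup (Fin n) F :=
    ((LinearMap.GeneralLinearGroup.generalLinearEquiv F (U × T)).symm.trans
      (LinearMap.GeneralLinearGroup.congrLinearEquiv e)).trans
      (Matrix.GeneralLinearGroup.toLin (n := Fin n) (R := F)).symm
  refine ⟨E.toMonoidHom.comp ψ, ?_⟩
  exact E.injective.comp (padHom_injective ρ hρ T)

end Cfsg.Agent.Lib.Helper66.LinRepEmb
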