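import Mathlib

set_option autoImplicit false

namespace Cfsg.Agent.Lib.Helper66

open scoped commutatorElement

universe u v

section monomial

variable {Γ : Type u} {Q : Type v} [Group Γ] [Group Q] (σ : Γ →* Q)
  (hsurj : Function.Surjective σ) (μ : ↥σ.ker →* ℂˣ) {n : ℕ} (e : Q ≃ Fin n)

/-- extension of `μ` by zero -/
noncomputable def muExt (x : Γ) : ℂ := by
  classical
  exact if hx : x ∈ σ.ker then ((μ ⟨x, hx⟩ : ℂˣ) : ℂ) else 0

theorem muExt_of_mem {x : Γ} (hx : x ∈ σ.ker) : muExt σ μ x = ((μ ⟨x, hx⟩ : ℂˣ) : ℂ) := by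
  unfold muExt
  rw [dif_pos hx]

theorem muExt_mul {x y : Γ} (hx : x ∈ σ.ker) (hy : y ∈ σ.ker) :
    muExt σ μ (x * y) = muExt σ μ x * muExt σ μ y := by
  rw [muExt_of_mem σ μ hx, muExt_of_mem σ μ hy, muExt_of_mem σ μ (Subgroup.mul_mem _ hx hy)]
  have : (⟨x * y, Subgroup.mul_mem _ hx hy⟩ : ↥σ.ker) = ⟨x, hx⟩ * ⟨y, hy⟩ := rfl
  rw [this, map_mul, Units.val_mul]

theorem muExt_one : muExt σ μ 1 = 1 := by
  rw [muExt_of_mem σ μ (Subgroup.one_mem _)]
  have : (⟨1, Subgroup.one_mem _⟩ : ↥σ.ker) = 1 := rfl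
  rw [this, map_one, Units.val_one]

/-- the monomial matrix of `g` -/
noncomputable def monoMat (g : Γ) : Matrix (Fin n) (Fin n) ℂ := by
  classical
  exact Matrix.of fun i j =>
    if e.symm i * σ g = e.symm j then
      muExt σ μ (Function.surjInv hsurj (e.symm i) * g * (Function.surjInv hsurj (e.symm j))⁻¹)
    else 0

theorem monoMat_apply (g : Γ) (i j : Fin n) [Decidable (e.symm i * σ g = e.symm j)] :
    monoMat σ hsurj μ e g i j =
    if e.symm i * σ g = e.symm j then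
      muExt σ μ (Function.surjInv hsurj (e.symm i) * g * (Function.surjInv hsurj (e.symm j))⁻¹)
    else 0 := by
  unfold monoMat
  simp only [Matrix.of_apply]
  congr

theorem mem_ker_of_cond {g : Γ} {a b : Q} (h : a * σ g = b) :
    Function.surjInv hsurj a * g * (Function.surjInv hsurj b)⁻¹ ∈ σ.ker := by
  rw [MonoidHom.mem_ker, map_mul, map_mul, map_inv, Function.surjInv_eq hsurj,
    Function.surjInv_eq hsurj, h, mul_inv_cancel]

theorem monoMat_one : monoMat σ hsurj μ e 1 = 1 := by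
  classical
  ext i j
  rw [monoMat_apply, map_one, mul_one, Matrix.one_apply]
  by_cases hij : i = j
  · subst hij
    rw [if_pos rfl, if_pos rfl, mul_one, mul_inv_cancel, muExt_one]
  · rw [if_neg hij, if_neg]
    intro h
    exact hij (e.symm.injective h)

theorem monoMat_mul (g h : Γ) :
    monoMat σ hsurj μ e (g * h) = monoMat σ hsurj μ e g * monoMat σ hsurj μ e h := by
  classical
  ext i l
  rw [Matrix.mul_apply]
  rw [Finset.sum_eq_single (e (e.symm i * σ g))]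
  · rw [monoMat_apply σ hsurj μ e g, monoMat_apply σ hsurj μ e h, monoMat_apply σ hsurj μ e (g * h)]
    simp only [Equiv.symm_apply_apply]
    rw [if_pos trivial, map_mul σ g h, ← mul_assoc]
    by_cases hc : e.symm i * σ g * σ h = e.symm l
    · rw [if_pos hc, if_pos hc]
      rw [← muExt_mul σ μ (mem_ker_of_cond σ hsurj rfl) (mem_ker_of_cond σ hsurj hc)]
      congr 1
      group
    · rw [if_neg hc, if_neg hc, mul_zero]
  · intro j _ hj
    rw [monoMat_apply σ hsurj μ e g, if_neg, zero_mul]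
    intro hc
    apply hj
    rw [hc, Equiv.apply_symm_apply]
  · intro hi
    exact absurd (Finset.mem_univ _) hi

/-- the monomial representation -/
noncomputable def monoRep : Γ →* GL (Fin n) ℂ :=
  MonoidHom.toHomUnits
    { toFun := monoMat σ hsurj μ e
      map_one' := monoMat_one σ hsurj μ e
      map_mul' := monoMat_mul σ hsurj μ e }

theorem monoRep_val (g : Γ) : ((monoRep σ hsurj μ e g : GL (Fin n) ℂ) : Matrix (Fin n) (Fin n) ℂ) =
    monoMat σ hsurj μ e g := rfl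

/-- central kernel elements act by scalars -/
theorem monoRep_of_mem_ker (hcen : σ.ker ≤ Subgroup.center Γ) (z : ↥σ.ker) :
    monoRep σ hsurj μ e (z : Γ) = Matrix.GeneralLinearGroup.scalar (Fin n) (μ z) := by
  classical
  apply Units.ext
  rw [monoRep_val, Matrix.GeneralLinearGroup.coe_scalar]
  ext i j
  rw [monoMat_apply, MonoidHom.mem_ker.1 z.2, mul_one, Matrix.scalar_apply, Matrix.diagonal_apply]
  by_cases hij : i = j
  · subst hij
    rw [if_pos rfl, if_pos rfl]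
    have hc := Subgroup.mem_center_iff.1 (hcen z.2) (Function.surjInv hsurj (e.symm i))
    rw [hc, mul_inv_cancel_right, muExt_of_mem σ μ z.2]
  · rw [if_neg hij, if_neg]
    intro h
    exact hij (e.symm.injective h)

end monomial

/-- Two representations agreeing modulo the centre agree on the commutator subgroup. -/
theorem eq_on_commutator_of_eq_mod_center {Γ : Type u} {G : Type v} [Group Γ] [Group G]
    (ρ₁ ρ₂ : Γ →* G)
    (h : (QuotientGroup.mk' (Subgroup.center G)).comp ρ₁ =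
      (QuotientGroup.mk' (Subgroup.center G)).comp ρ₂) (z : Γ) (hz : z ∈ commutator Γ) :
    ρ₁ z = ρ₂ z := by
  have hmod : ∀ g, (ρ₂ g)⁻¹ * ρ₁ g ∈ Subgroup.center G := by
    intro g
    have := congrArg (fun f : Γ →* G ⧸ Subgroup.center G => f g) h
    exact QuotientGroup.eq.1 this.symm
  have hle : commutator Γ ≤ ρ₁.eqLocus ρ₂ := by
    rw [commutator_def, Subgroup.commutator_le]
    intro a _ b _
    show ρ₁ ⁅a, b⁆ = ρ₂ ⁅a, b⁆
    rw [map_commutatorElement, map_commutatorElement]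
    -- commutators do not see central factors
    have ha := Subgroup.mem_center_iff.1 (hmod a)
    have hb := Subgroup.mem_center_iff.1 (hmod b)
    have ea : ρ₁ a = ρ₂ a * ((ρ₂ a)⁻¹ * ρ₁ a) := by group
    have eb : ρ₁ b = ρ₂ b * ((ρ₂ b)⁻¹ * ρ₁ b) := by group
    set z₁ := (ρ₂ a)⁻¹ * ρ₁ a
    set z₂ := (ρ₂ b)⁻¹ * ρ₁ b
    rw [ea, eb, commutatorElement_def, commutatorElement_def]
    calc ρ₂ a * z₁ * (ρ₂ b * z₂) * (ρ₂ a * z₁)⁻¹ * (ρ₂ b * z₂)⁻¹
        = ρ₂ a * (z₁ * ρ₂ b) * z₂ * (z₁⁻¹ * (ρ₂ a)⁻¹) * (z₂⁻¹ * (ρ₂ b)⁻¹) := by group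
      _ = ρ₂ a * (ρ₂ b * z₁) * z₂ * (z₁⁻¹ * (ρ₂ a)⁻¹) * (z₂⁻¹ * (ρ₂ b)⁻¹) := by rw [ha (ρ₂ b)]
      _ = ρ₂ a * ρ₂ b * z₁ * (z₂ * z₁⁻¹) * (ρ₂ a)⁻¹ * (z₂⁻¹ * (ρ₂ b)⁻¹) := by group
      _ = ρ₂ a * ρ₂ b * z₁ * (z₁⁻¹ * z₂) * (ρ₂ a)⁻¹ * (z₂⁻¹ * (ρ₂ b)⁻¹) := by rw [hb z₁⁻¹]
      _ = ρ₂ a * ρ₂ b * (z₂ * (ρ₂ a)⁻¹) * (z₂⁻¹ * (ρ₂ b)⁻¹) := by group
      _ = ρ₂ a * ρ₂ b * ((ρ₂ a)⁻¹ * z₂) * (z₂⁻¹ * (ρ₂ b)⁻¹) := by rw [hb (ρ₂ a)⁻¹]
      _ = ρ₂ a * ρ₂ b * (ρ₂ a)⁻¹ * (ρ₂ b)⁻¹ := by group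
  exact hle hz

/-- A central extension of finite groups with a nontrivial kernel element `z` has a complex
representation, projective over the quotient, that is nontrivial on `z`. -/
theorem exists_projective_rep_nontrivial {Γ : Type u} {Q : Type v} [Group Γ] [Group Q] [Finite Γ]
    [Finite Q] (σ : Γ →* Q) (hsurj : Function.Surjective σ) (hcen : σ.ker ≤ Subgroup.center Γ)
    (z : Γ) (hz : z ∈ σ.ker) (hz1 : z ≠ 1) :
    ∃ (n : ℕ) (ρ : Γ →* GL (Fin n) ℂ)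
      (γ : Q →* GL (Fin n) ℂ ⧸ Subgroup.center (GL (Fin n) ℂ)),
      (QuotientGroup.mk' (Subgroup.center (GL (Fin n) ℂ))).comp ρ = γ.comp σ ∧ ρ z ≠ 1 := by
  classical
  -- a character of the kernel not killing z
  obtain ⟨μ, hμ⟩ : ∃ μ : ↥σ.ker →* ℂˣ, μ ⟨z, hz⟩ ≠ 1 := by
    letI instZ : CommGroup ↥σ.ker :=
      { (inferInstance : Group ↥σ.ker) with
        mul_comm := fun a b => Subtype.ext (Subgroup.mem_center_iff.1 (hcen b.2) a) }
    haveI : NeZero (Monoid.exponent ↥σ.ker) := ⟨Monoid.exponent_ne_zero_of_finite⟩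
    haveI : NeZero ((Monoid.exponent ↥σ.ker : ℕ) : ℂ) := NeZero.charZero
    have hne : (⟨z, hz⟩ : ↥σ.ker) ≠ 1 := fun h => hz1 (congrArg Subtype.val h)
    obtain ⟨φ, hφ⟩ := CommGroup.exists_apply_ne_one_of_hasEnoughRootsOfUnity ↥σ.ker ℂ hne
    exact ⟨φ, hφ⟩
  let e : Q ≃ Fin (Nat.card Q) := Finite.equivFin Q
  let ρ := monoRep σ hsurj μ e
  have hρker : ∀ x : ↥σ.ker, ρ (x : Γ) = Matrix.GeneralLinearGroup.scalar (Fin (Nat.card Q)) (μ x) :=
    fun x => monoRep_of_mem_ker σ hsurj μ e hcen x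
  have hker : σ.ker ≤ ((QuotientGroup.mk' (Subgroup.center (GL (Fin (Nat.card Q)) ℂ))).comp ρ).ker := by
    intro x hx
    rw [MonoidHom.mem_ker]
    show (QuotientGroup.mk' (Subgroup.center (GL (Fin (Nat.card Q)) ℂ))) (ρ x) = 1
    rw [QuotientGroup.mk'_apply, QuotientGroup.eq_one_iff,
      Matrix.GeneralLinearGroup.center_eq_range_scalar]
    exact ⟨μ ⟨x, hx⟩, (hρker ⟨x, hx⟩).symm⟩
  refine ⟨Nat.card Q, ρ, σ.liftOfRightInverse (Function.surjInv hsurj)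
    (Function.rightInverse_surjInv hsurj) ⟨_, hker⟩, ?_, ?_⟩
  · ext g
    exact (σ.liftOfRightInverse_comp_apply (Function.surjInv hsurj)
      (Function.rightInverse_surjInv hsurj) ⟨_, hker⟩ g).symm
  · intro h1
    have h2 := hρker ⟨z, hz⟩
    rw [show ((⟨z, hz⟩ : ↥σ.ker) : Γ) = z from rfl, h1] at h2
    have h3 := congrArg (fun M : GL (Fin (Nat.card Q)) ℂ =>
      (M : Matrix (Fin (Nat.card Q)) (Fin (Nat.card Q)) ℂ) (e 1) (e 1)) h2
    simp only [Matrix.GeneralLinearGroup.coe_scalar, Matrix.scalar_apply, Matrix.diagonal_apply_eq,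
      Units.val_one, Matrix.one_apply_eq] at h3
    apply hμ
    apply Units.ext
    exact h3.symm

end Cfsg.Agent.Lib.Helper66
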