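-- helper66: Levi's theorem on 2-Engel groups, B.H. Neumann's lemma on automorphisms of order 3
-- (in the form `(c n)^3 = 1`), class-two calculus and the `S_3`-lemma used in S4006.
import Mathlib

set_option autoImplicit false
open scoped commutatorElement

namespace Cfsg.Agent.Lib.Helper66


section Levi

variable {G : Type*} [Group G]

/-- pairwise commuting generators give a commutative closure -/
theorem commute_of_mem_closure_pairwise {S : Set G} (h : ∀ a ∈ S, ∀ b ∈ S, Commute a b) {a b : G}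
    (ha : a ∈ Subgroup.closure S) (hb : b ∈ Subgroup.closure S) : Commute a b := by
  have h1 : Subgroup.closure S ≤ Subgroup.centralizer S := by
    rw [Subgroup.closure_le]
    intro s hs
    rw [SetLike.mem_coe, Subgroup.mem_centralizer_iff]
    intro t ht
    exact (h t ht s hs).eq
  have h2 : Subgroup.closure S ≤ Subgroup.centralizer {a} := by
    rw [Subgroup.closure_le]
    intro s hs
    rw [SetLike.mem_coe, Subgroup.mem_centralizer_iff]
    intro t ht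
    rw [Set.mem_singleton_iff] at ht
    subst ht
    have := h1 ha
    rw [Subgroup.mem_centralizer_iff] at this
    exact (this s hs).symm
  have := h2 hb
  rw [Subgroup.mem_centralizer_iff] at this
  exact this a rfl

/-- the 2-Engel condition, in conjugate form: every element commutes with all its conjugates -/
def Engel2 (G : Type*) [Group G] : Prop := ∀ x g : G, Commute x (g * x * g⁻¹)

namespace Engel2

variable (hE : Engel2 G)
include hE

theorem conj_commute (x g h : G) : Commute (g * x * g⁻¹) (h * x * h⁻¹) := by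
  have := (hE x (g⁻¹ * h)).eq
  show g * x * g⁻¹ * (h * x * h⁻¹) = h * x * h⁻¹ * (g * x * g⁻¹)
  calc g * x * g⁻¹ * (h * x * h⁻¹) = g * (x * (g⁻¹ * h * x * (g⁻¹ * h)⁻¹)) * g⁻¹ := by group
    _ = g * ((g⁻¹ * h * x * (g⁻¹ * h)⁻¹) * x) * g⁻¹ := by rw [this]
    _ = h * x * h⁻¹ * (g * x * g⁻¹) := by group

theorem ncl_comm (x : G) {a b : G} (ha : a ∈ Subgroup.normalClosure {x})
    (hb : b ∈ Subgroup.normalClosure {x}) : Commute a b := by
  unfold Subgroup.normalClosure at ha hb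
  refine commute_of_mem_closure_pairwise ?_ ha hb
  intro u hu v hv
  rw [Group.mem_conjugatesOfSet_iff] at hu hv
  obtain ⟨x1, hx1, hu⟩ := hu
  obtain ⟨x2, hx2, hv⟩ := hv
  rw [Set.mem_singleton_iff] at hx1 hx2
  subst hx1 hx2
  rw [isConj_iff] at hu hv
  obtain ⟨g, rfl⟩ := hu
  obtain ⟨h, rfl⟩ := hv
  exact conj_commute hE _ g h

omit hE in
theorem self_mem (x : G) : x ∈ Subgroup.normalClosure {x} :=
  Subgroup.subset_normalClosure (Set.mem_singleton x)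

omit hE in
theorem conj_mem {x a : G} (ha : a ∈ Subgroup.normalClosure {x}) (g : G) :
    g * a * g⁻¹ ∈ Subgroup.normalClosure {x} :=
  Subgroup.normalClosure_normal.conj_mem a ha g

omit hE in
theorem comm_mem_left {x a : G} (ha : a ∈ Subgroup.normalClosure {x}) (y : G) :
    ⁅a, y⁆ ∈ Subgroup.normalClosure {x} := by
  have : ⁅a, y⁆ = a * (y * a * y⁻¹)⁻¹ := by rw [commutatorElement_def]; group
  rw [this]
  exact mul_mem ha (inv_mem (conj_mem ha y))

omit hE in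
theorem comm_mem_right {y b : G} (hb : b ∈ Subgroup.normalClosure {y}) (x : G) :
    ⁅x, b⁆ ∈ Subgroup.normalClosure {y} := by
  have : ⁅x, b⁆ = (x * b * x⁻¹) * b⁻¹ := by rw [commutatorElement_def]
  rw [this]
  exact mul_mem (conj_mem hb x) (inv_mem hb)

theorem comm_left (x y : G) : Commute ⁅x, y⁆ x :=
  ncl_comm hE x (comm_mem_left (self_mem x) y) (self_mem x)

theorem comm_right (x y : G) : Commute ⁅x, y⁆ y :=
  ncl_comm hE y (comm_mem_right (self_mem y) x) (self_mem y)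

omit hE in
theorem comm_inv_left {a z : G} (h : Commute ⁅a, z⁆ a) : ⁅a⁻¹, z⁆ = ⁅a, z⁆⁻¹ := by
  have e : ⁅a⁻¹, z⁆ = a⁻¹ * ⁅a, z⁆⁻¹ * a := by
    simp only [commutatorElement_def]; group
  rw [e, mul_assoc, (h.inv_left).eq, ← mul_assoc, inv_mul_cancel, one_mul]

/-- the triple commutator -/
def T (x y z : G) : G := ⁅⁅x, y⁆, z⁆

omit hE in
theorem T_def (x y z : G) : T x y z = ⁅⁅x, y⁆, z⁆ := rfl

theorem T_swap12 (x y z : G) : T y x z = (T x y z)⁻¹ := by
  unfold T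
  rw [← commutatorElement_inv x y]
  exact comm_inv_left (comm_left hE ⁅x, y⁆ z)

theorem T_swap23 (x y z : G) : T x y z * T x z y = 1 := by
  set a := ⁅x, y⁆ with ha
  set b := ⁅x, z⁆ with hb
  set T1 := ⁅a, z⁆ with hT1
  set T2 := ⁅b, y⁆ with hT2
  have ma : a ∈ Subgroup.normalClosure {x} := comm_mem_left (self_mem x) y
  have mb : b ∈ Subgroup.normalClosure {x} := comm_mem_left (self_mem x) z
  have mT1 : T1 ∈ Subgroup.normalClosure {x} := comm_mem_left ma z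
  have mT2 : T2 ∈ Subgroup.normalClosure {x} := comm_mem_left mb y
  -- commutation facts
  have cay : Commute a y := comm_right hE x y
  have cbz : Commute b z := comm_right hE x z
  have cT1a : Commute T1 a := ncl_comm hE x mT1 ma
  have cT1b : Commute T1 b := ncl_comm hE x mT1 mb
  have cT2b : Commute T2 b := ncl_comm hE x mT2 mb
  have cT1z : Commute T1 z := comm_right hE a z
  -- the key relation
  have key : Commute ⁅x, y * z⁆ (y * z) := comm_right hE x (y * z)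
  have e1 : ⁅x, y * z⁆ = a * (y * b * y⁻¹) := by
    simp only [ha, hb, commutatorElement_def]; group
  have e2 : z * a = T1⁻¹ * a * z := by
    simp only [hT1, commutatorElement_def]; group
  have e3 : y * b * y⁻¹ = T2⁻¹ * b := by
    simp only [hT2, commutatorElement_def]; group
  rw [e1] at key
  have k1 : a * b * z = z * a * (y * b * y⁻¹) := by
    have k := key.eq
    -- a * (y b y⁻¹) * (y z) = (y z) * (a * (y b y⁻¹))
    have k' : y * (a * b * z) = y * (z * a * (y * b * y⁻¹)) := by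
      calc y * (a * b * z) = a * (y * b * y⁻¹) * (y * z) := by
            rw [show y * (a * b * z) = (y * a) * (b * z) by group, ← cay.eq]; group
        _ = y * z * (a * (y * b * y⁻¹)) := k
        _ = y * (z * a * (y * b * y⁻¹)) := by group
    exact mul_left_cancel k'
  rw [e3, e2] at k1
  -- k1 : a * b * z = T1⁻¹ * a * z * (T2⁻¹ * b)
  have k2 : T1⁻¹ * a * z * (T2⁻¹ * b) = a * b * z * (T1⁻¹ * T2⁻¹) := by
    calc T1⁻¹ * a * z * (T2⁻¹ * b) = a * T1⁻¹ * z * (b * T2⁻¹) := by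
          rw [(cT1a.inv_left).eq, (cT2b.inv_left).eq]
      _ = a * (T1⁻¹ * z) * b * T2⁻¹ := by group
      _ = a * (z * T1⁻¹) * b * T2⁻¹ := by rw [(cT1z.inv_left).eq]
      _ = a * z * (T1⁻¹ * b) * T2⁻¹ := by group
      _ = a * z * (b * T1⁻¹) * T2⁻¹ := by rw [(cT1b.inv_left).eq]
      _ = a * (z * b) * (T1⁻¹ * T2⁻¹) := by group
      _ = a * (b * z) * (T1⁻¹ * T2⁻¹) := by rw [cbz.eq]
      _ = a * b * z * (T1⁻¹ * T2⁻¹) := by group
  rw [k2] at k1
  have k3 : T1⁻¹ * T2⁻¹ = 1 := by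
    have := k1.symm
    rwa [mul_eq_left] at this
  show T1 * T2 = 1
  have : (T2 * T1)⁻¹ = 1 := by rw [mul_inv_rev]; exact k3
  rw [inv_eq_one] at this
  have c12 : Commute T1 T2 := ncl_comm hE x mT1 mT2
  rw [c12.eq]; exact this

theorem T_rot (x y z : G) : T y z x = T x y z := by
  have h1 := T_swap23 hE y z x
  have h2 := T_swap12 hE x y z
  -- T y z x * T y x z = 1, T y x z = (T x y z)⁻¹
  rw [h2] at h1
  exact mul_inv_eq_one.mp h1

theorem T_comm_z (x y z : G) : Commute (T x y z) z := comm_right hE _ z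

theorem T_comm_x (x y z : G) : Commute (T x y z) x := by
  rw [← T_rot hE x y z]; exact comm_right hE _ x

theorem T_comm_y (x y z : G) : Commute (T x y z) y := by
  rw [← T_rot hE x y z, ← T_rot hE y z x]; exact comm_right hE _ y

/-- **Levi**: in a 2-Engel group every triple commutator has order dividing 3. -/
theorem T_pow_three (x y z : G) : T x y z ^ 3 = 1 := by
  have hw : y * ⁅⁅y⁻¹, x⁆, z⁆ * y⁻¹ * (z * ⁅⁅z⁻¹, y⁆, x⁆ * z⁻¹) * (x * ⁅⁅x⁻¹, z⁆, y⁆ * x⁻¹) = 1 := by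
    simp only [commutatorElement_def]
    group
  have f1 : ⁅⁅y⁻¹, x⁆, z⁆ = T x y z := by
    rw [comm_inv_left (comm_left hE y x)]
    rw [comm_inv_left (comm_left hE ⁅y, x⁆ z)]
    have := T_swap12 hE x y z
    rw [T_def, T_def] at this
    rw [this, inv_inv]
    rfl
  have f2 : ⁅⁅z⁻¹, y⁆, x⁆ = T x y z := by
    rw [comm_inv_left (comm_left hE z y)]
    rw [comm_inv_left (comm_left hE ⁅z, y⁆ x)]
    have := T_swap12 hE y z x
    rw [T_def, T_def] at this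
    rw [this, inv_inv, ← T_def, T_rot hE x y z]
  have f3 : ⁅⁅x⁻¹, z⁆, y⁆ = T x y z := by
    rw [comm_inv_left (comm_left hE x z)]
    rw [comm_inv_left (comm_left hE ⁅x, z⁆ y)]
    have := T_swap12 hE z x y
    rw [T_def, T_def] at this
    rw [this, inv_inv, ← T_def, T_rot hE z x y]
  rw [f1, f2, f3] at hw
  have cy := (T_comm_y hE x y z).eq
  have cz := (T_comm_z hE x y z).eq
  have cx := (T_comm_x hE x y z).eq
  have g1 : y * T x y z * y⁻¹ = T x y z := by rw [← cy, mul_inv_cancel_right]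
  have g2 : z * T x y z * z⁻¹ = T x y z := by rw [← cz, mul_inv_cancel_right]
  have g3 : x * T x y z * x⁻¹ = T x y z := by rw [← cx, mul_inv_cancel_right]
  rw [g1, g2, g3] at hw
  rw [pow_succ, pow_two]; exact hw

end Engel2

end Levi



section Neumann

variable {X : Type*} [Group X]

/-- core computation: `c^3 = 1`, `(c x)^3 = 1`, `(c x⁻¹)^3 = 1` ⟹ `x` commutes with `c x c⁻¹`,
and `(c x c⁻¹) (c⁻¹ x c) x = 1`. -/
theorem cube_core (c x : X) (hc : c ^ 3 = 1) (h1 : (c * x) ^ 3 = 1) (h2 : (c * x⁻¹) ^ 3 = 1) :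
    Commute x (c * x * c⁻¹) ∧ (c * x * c⁻¹) * (c⁻¹ * x * c) * x = 1 := by
  have hcc : c⁻¹ * c⁻¹ = c := by
    have : c * c * c = 1 := by rw [← hc, pow_succ, pow_two]
    calc c⁻¹ * c⁻¹ = c⁻¹ * c⁻¹ * (c * c * c) := by rw [this, mul_one]
      _ = c := by group
  have e1 : (c * x * c⁻¹) * (c⁻¹ * x * c) * x = 1 := by
    calc (c * x * c⁻¹) * (c⁻¹ * x * c) * x = c * x * (c⁻¹ * c⁻¹) * x * c * x := by group
      _ = c * x * c * x * c * x := by rw [hcc]
      _ = (c * x) ^ 3 := by rw [pow_succ, pow_two]; simp only [mul_assoc]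
      _ = 1 := h1
  have e2 : (c * x⁻¹ * c⁻¹) * (c⁻¹ * x⁻¹ * c) * x⁻¹ = 1 := by
    calc (c * x⁻¹ * c⁻¹) * (c⁻¹ * x⁻¹ * c) * x⁻¹ = c * x⁻¹ * (c⁻¹ * c⁻¹) * x⁻¹ * c * x⁻¹ := by group
      _ = c * x⁻¹ * c * x⁻¹ * c * x⁻¹ := by rw [hcc]
      _ = (c * x⁻¹) ^ 3 := by rw [pow_succ, pow_two]; simp only [mul_assoc]
      _ = 1 := h2
  refine ⟨?_, e1⟩
  set u := c * x * c⁻¹ with hu
  set v := c⁻¹ * x * c with hv
  have e2' : u⁻¹ * v⁻¹ * x⁻¹ = 1 := by
    rw [← e2, hu, hv]; group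
  -- v = u⁻¹ x⁻¹ and v⁻¹ = u x ... derive x u = u x
  have a1 : v = u⁻¹ * x⁻¹ := by
    calc v = u⁻¹ * (u * v * x) * x⁻¹ := by group
      _ = u⁻¹ * x⁻¹ := by rw [e1, mul_one]
  have a2 : v = x⁻¹ * u⁻¹ := by
    calc v = x⁻¹ * (u⁻¹ * v⁻¹ * x⁻¹)⁻¹ * u⁻¹ := by group
      _ = x⁻¹ * u⁻¹ := by rw [e2', inv_one, mul_one]
  have a3 : u⁻¹ * x⁻¹ = x⁻¹ * u⁻¹ := a1.symm.trans a2
  show x * u = u * x
  have := congrArg (fun w => w⁻¹) a3
  simpa [mul_inv_rev] using this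

/-- **Neumann.** If `c` normalizes the subgroup `N` and `(c n)^3 = 1` for every `n ∈ N`, then every
element of `N` commutes with all of its `N`-conjugates. -/
theorem engel_of_cube (N : Subgroup X) (c : X) (hcN : ∀ n ∈ N, c * n * c⁻¹ ∈ N)
    (h3 : ∀ n ∈ N, (c * n) ^ 3 = 1) : ∀ x ∈ N, ∀ g ∈ N, Commute x (g * x * g⁻¹) := by
  have hc : c ^ 3 = 1 := by simpa using h3 1 N.one_mem
  have hcc : c⁻¹ = c * c := by
    have : c * c * c = 1 := by rw [← hc, pow_succ, pow_two]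
    calc c⁻¹ = c⁻¹ * (c * c * c) := by rw [this, mul_one]
      _ = c * c := by group
  have hcN' : ∀ n ∈ N, c⁻¹ * n * c ∈ N := by
    intro n hn
    have hcc2 : c⁻¹ * c⁻¹ = c := by
      calc c⁻¹ * c⁻¹ = (c * c)⁻¹ := by group
        _ = c⁻¹⁻¹ := by rw [← hcc]
        _ = c := inv_inv c
    have : c⁻¹ * n * c = c * (c * n * c⁻¹) * c⁻¹ := by
      calc c⁻¹ * n * c = (c * c) * n * (c⁻¹ * c⁻¹) := by rw [← hcc, hcc2]
        _ = c * (c * n * c⁻¹) * c⁻¹ := by group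
    rw [this]
    exact hcN _ (hcN _ hn)
  -- E5: x commutes with c (g x g⁻¹) c⁻¹
  have E5 : ∀ x ∈ N, ∀ g ∈ N, Commute x (c * (g * x * g⁻¹) * c⁻¹) := by
    intro x hx g hg
    have hcg : (c * g) ^ 3 = 1 := h3 g hg
    have h1 : (c * g * x) ^ 3 = 1 := by rw [mul_assoc]; exact h3 _ (N.mul_mem hg hx)
    have h2 : (c * g * x⁻¹) ^ 3 = 1 := by
      rw [mul_assoc]; exact h3 _ (N.mul_mem hg (N.inv_mem hx))
    have := (cube_core (c * g) x hcg h1 h2).1
    have e : c * g * x * (c * g)⁻¹ = c * (g * x * g⁻¹) * c⁻¹ := by group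
    rwa [e] at this
  -- E5': x commutes with k (c x c⁻¹) k⁻¹
  have E5' : ∀ x ∈ N, ∀ k ∈ N, Commute x (k * (c * x * c⁻¹) * k⁻¹) := by
    intro x hx k hk
    have := E5 x hx (c⁻¹ * k * c) (hcN' k hk)
    have e : c * (c⁻¹ * k * c * x * (c⁻¹ * k * c)⁻¹) * c⁻¹ = k * (c * x * c⁻¹) * k⁻¹ := by group
    rwa [e] at this
  intro x hx g hg
  -- x' = c x c⁻¹, x'' = c⁻¹ x c
  have hx' : c * x * c⁻¹ ∈ N := hcN x hx
  have hx'' : c⁻¹ * x * c ∈ N := hcN' x hx
  have D1 : Commute x (g * (c * x * c⁻¹) * g⁻¹) := E5' x hx g hg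
  have D2 : Commute x (g * (c⁻¹ * x * c) * g⁻¹) := by
    have := E5' (c⁻¹ * x * c) hx'' g⁻¹ (N.inv_mem hg)
    have e : c * (c⁻¹ * x * c) * c⁻¹ = x := by group
    rw [e] at this
    -- this : Commute (c⁻¹ x c) (g⁻¹ x g⁻¹⁻¹)
    have t := this.eq
    show x * (g * (c⁻¹ * x * c) * g⁻¹) = g * (c⁻¹ * x * c) * g⁻¹ * x
    calc x * (g * (c⁻¹ * x * c) * g⁻¹) = g * ((g⁻¹ * x * g⁻¹⁻¹) * (c⁻¹ * x * c)) * g⁻¹ := by group
      _ = g * ((c⁻¹ * x * c) * (g⁻¹ * x * g⁻¹⁻¹)) * g⁻¹ := by rw [t]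
      _ = g * (c⁻¹ * x * c) * g⁻¹ * x := by group
  have E1 : (c * x * c⁻¹) * (c⁻¹ * x * c) * x = 1 :=
    (cube_core c x hc (h3 x hx) (h3 _ (N.inv_mem hx))).2
  have e : g * x⁻¹ * g⁻¹ = (g * (c * x * c⁻¹) * g⁻¹) * (g * (c⁻¹ * x * c) * g⁻¹) := by
    have : x⁻¹ = (c * x * c⁻¹) * (c⁻¹ * x * c) := by
      calc x⁻¹ = ((c * x * c⁻¹) * (c⁻¹ * x * c) * x) * x⁻¹ := by rw [E1, one_mul]
        _ = (c * x * c⁻¹) * (c⁻¹ * x * c) := by group
    calc g * x⁻¹ * g⁻¹ = g * ((c * x * c⁻¹) * (c⁻¹ * x * c)) * g⁻¹ := by rw [← this]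
      _ = _ := by group
  have hfin : Commute x (g * x⁻¹ * g⁻¹) := by
    rw [e]; exact D1.mul_right D2
  have e' : g * x * g⁻¹ = (g * x⁻¹ * g⁻¹)⁻¹ := by group
  rw [e']
  exact hfin.inv_right

end Neumann



section Class2

variable {X : Type*} [Group X]

theorem eq_one_of_pow_three_of_isPGroup_two {K : Type*} [Group K] (hK : IsPGroup 2 K) (t : K)
    (h3 : t ^ 3 = 1) : t = 1 := by
  obtain ⟨k, hk⟩ := hK t
  have d1 : orderOf t ∣ 3 := orderOf_dvd_of_pow_eq_one h3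
  have d2 : orderOf t ∣ 2 ^ k := orderOf_dvd_of_pow_eq_one hk
  have hcop : Nat.Coprime 3 (2 ^ k) := Nat.Coprime.pow_right k (by norm_num)
  have : orderOf t ∣ 1 := by
    have := Nat.dvd_gcd d1 d2
    rwa [hcop.gcd_eq_one] at this
  rw [Nat.dvd_one, orderOf_eq_one_iff] at this
  exact this

theorem nilpotencyClass_le_two_of_comm {K : Type*} [Group K] [Group.IsNilpotent K]
    (h : ∀ x y z : K, ⁅⁅x, y⁆, z⁆ = 1) : Group.nilpotencyClass K ≤ 2 := by
  rw [← Subgroup.lowerCentralSeries_eq_bot_iff_nilpotencyClass_le]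
  rw [Subgroup.lowerCentralSeries_succ, Subgroup.lowerCentralSeries_succ,
    Subgroup.lowerCentralSeries_zero]
  rw [Subgroup.commutator_eq_bot_iff_le_centralizer]
  rw [Subgroup.commutator_le]
  intro x _ y _
  rw [Subgroup.mem_centralizer_iff]
  intro z _
  have := h x y z
  rw [commutatorElement_eq_one_iff_mul_comm] at this
  exact this.symm

end Class2



section ClassTwoCalc

variable {K : Type*} [Group K]

/-- class-two calculus: all commutators central -/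
structure CC (K : Type*) [Group K] : Prop where
  cc : ∀ x y z : K, Commute ⁅x, y⁆ z

namespace CC

variable (h : CC K)
include h

theorem comm_mul_left (x y z : K) : ⁅x * y, z⁆ = ⁅x, z⁆ * ⁅y, z⁆ := by
  have e : ⁅x * y, z⁆ = x * ⁅y, z⁆ * x⁻¹ * ⁅x, z⁆ := by
    simp only [commutatorElement_def]; group
  rw [e, ← (h.cc y z x).eq, mul_inv_cancel_right, (h.cc y z ⁅x, z⁆).eq]

theorem comm_mul_right (x y z : K) : ⁅x, y * z⁆ = ⁅x, y⁆ * ⁅x, z⁆ := by
  have e : ⁅x, y * z⁆ = ⁅x, y⁆ * (y * ⁅x, z⁆ * y⁻¹) := by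
    simp only [commutatorElement_def]; group
  rw [e, ← (h.cc x z y).eq, mul_inv_cancel_right]

theorem comm_sq_left (x z : K) : ⁅x ^ 2, z⁆ = ⁅x, z⁆ ^ 2 := by
  rw [pow_two, pow_two, comm_mul_left h]

theorem mul_sq (a b : K) : (a * b) ^ 2 = ⁅b, a⁆ * a ^ 2 * b ^ 2 := by
  have e : (a * b) ^ 2 = a * ⁅b, a⁆ * a * b * b := by
    simp only [commutatorElement_def, pow_two]; group
  rw [e, ← (h.cc b a a).eq]
  simp only [pow_two, mul_assoc]

/-- in a class-two group of exponent dividing 4, commutators square to 1 -/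
theorem comm_sq_eq_one (h4 : ∀ x : K, x ^ 4 = 1) (x y : K) : ⁅x, y⁆ ^ 2 = 1 := by
  set κ := ⁅y, x⁆ with hκ
  -- κ^4 = 1
  have k4 : κ ^ 4 = 1 := by
    have : ⁅y ^ 4, x⁆ = κ ^ 4 := by
      have e4 : y ^ 4 = (y ^ 2) ^ 2 := by rw [← pow_mul]
      rw [e4, comm_sq_left h, comm_sq_left h, ← pow_mul]
    rw [← this, h4 y]
    simp [commutatorElement_def]
  -- (x y)^4 = κ^6
  have k6 : κ ^ 6 = 1 := by
    have e1 : (x * y) ^ 2 = κ * x ^ 2 * y ^ 2 := mul_sq h x y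
    have e2 : (x * y) ^ 4 = ((x * y) ^ 2) ^ 2 := by rw [← pow_mul]
    have cκ : ∀ z, Commute κ z := fun z => h.cc y x z
    have e3 : (κ * x ^ 2 * y ^ 2) ^ 2 = κ ^ 2 * (x ^ 2 * y ^ 2) ^ 2 := by
      rw [mul_assoc, (cκ _).mul_pow]
    have e4 : (x ^ 2 * y ^ 2) ^ 2 = ⁅y ^ 2, x ^ 2⁆ * (x ^ 2) ^ 2 * (y ^ 2) ^ 2 := mul_sq h _ _
    have e5 : ⁅y ^ 2, x ^ 2⁆ = κ ^ 4 := by
      rw [comm_sq_left h]
      have : ⁅y, x ^ 2⁆ = κ ^ 2 := by
        rw [pow_two x, comm_mul_right h, ← pow_two]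
      rw [this, ← pow_mul]
    have hx4 : (x ^ 2) ^ 2 = 1 := by rw [← pow_mul]; exact h4 x
    have hy4 : (y ^ 2) ^ 2 = 1 := by rw [← pow_mul]; exact h4 y
    have := h4 (x * y)
    rw [e2, e1, e3, e4, e5, hx4, hy4, mul_one, mul_one, ← pow_add] at this
    exact this
  have k2 : κ ^ 2 = 1 := by
    have : κ ^ 6 = κ ^ 4 * κ ^ 2 := by rw [← pow_add]
    rw [this, k4, one_mul] at k6
    exact k6
  have : ⁅x, y⁆ = κ⁻¹ := by rw [hκ, commutatorElement_inv]
  rw [this, inv_pow, k2, inv_one]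

theorem sq_central (h4 : ∀ x : K, x ^ 4 = 1) (x y : K) : Commute (x ^ 2) y := by
  have := comm_sq_left h x y
  rw [comm_sq_eq_one h h4] at this
  rw [commutatorElement_eq_one_iff_mul_comm] at this
  exact this

/-- **Lemma A (abstract form).** -/
theorem sq_eq_one_of_three (h4 : ∀ x : K, x ^ 4 = 1) (σ0 σ1 σ2 : K →* K)
    (hprod : ∀ x, σ0 x * σ1 x * σ2 x = 1)
    (h0 : ∀ x, (σ0 x * x) ^ 2 = 1) (h1 : ∀ x, (σ1 x * x) ^ 2 = 1) (h2 : ∀ x, (σ2 x * x) ^ 2 = 1)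
    (x : K) : x ^ 2 = 1 := by
  have hinv : ∀ y : K, (y ^ 2)⁻¹ = y ^ 2 := by
    intro y
    rw [inv_eq_iff_mul_eq_one, ← pow_add]
    exact h4 y
  -- each relation
  have rel : ∀ σ : K →* K, (σ x * x) ^ 2 = 1 → ⁅x, σ x⁆ = x ^ 2 * σ (x ^ 2) := by
    intro σ hσ
    rw [mul_sq h] at hσ
    -- ⁅x, σ x⁆ * (σ x)^2 * x^2 = 1
    have : ⁅x, σ x⁆ = ((σ x) ^ 2 * x ^ 2)⁻¹ := by
      rw [eq_inv_iff_mul_eq_one, ← mul_assoc]; exact hσ
    rw [this, mul_inv_rev, hinv, hinv, map_pow]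
  have r0 := rel σ0 (h0 x)
  have r1 := rel σ1 (h1 x)
  have r2 := rel σ2 (h2 x)
  have hp : ⁅x, σ0 x⁆ * ⁅x, σ1 x⁆ * ⁅x, σ2 x⁆ = 1 := by
    rw [← comm_mul_right h, ← comm_mul_right h, hprod]
    simp [commutatorElement_def]
  rw [r0, r1, r2] at hp
  set q := x ^ 2 with hq
  have cq : ∀ z, Commute q z := fun z => sq_central h h4 x z
  have hq3 : q * σ0 q * (q * σ1 q) * (q * σ2 q) = q ^ 3 * (σ0 q * σ1 q * σ2 q) := by
    calc q * σ0 q * (q * σ1 q) * (q * σ2 q) = q * (σ0 q * q) * σ1 q * (q * σ2 q) := by group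
      _ = q * (q * σ0 q) * σ1 q * (q * σ2 q) := by rw [(cq (σ0 q)).eq]
      _ = q * q * ((σ0 q * σ1 q) * q) * σ2 q := by group
      _ = q * q * (q * (σ0 q * σ1 q)) * σ2 q := by rw [(cq (σ0 q * σ1 q)).eq]
      _ = q ^ 3 * (σ0 q * σ1 q * σ2 q) := by rw [pow_succ, pow_two]; simp only [mul_assoc]
  rw [hq3, hprod, mul_one] at hp
  -- q^3 = 1, q^2 = 1
  have q2 : q ^ 2 = 1 := by rw [hq, ← pow_mul]; exact h4 x
  have : q ^ 3 = q ^ 2 * q := by rw [pow_succ]
  rw [this, q2, one_mul] at hp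
  exact hp

end CC

end ClassTwoCalc


section Concrete

variable {X : Type*} [Group X]

/-- **Neumann + Levi.** If `c` normalizes the `2`-subgroup `N` and `(c n)^3 = 1` for all `n ∈ N`,
then all triple commutators of `N` are trivial. -/
theorem triple_comm_eq_one_of_cube (N : Subgroup X) (hN2 : IsPGroup 2 N) (c : X)
    (hcN : ∀ n ∈ N, c * n * c⁻¹ ∈ N) (h3 : ∀ n ∈ N, (c * n) ^ 3 = 1) (x y z : N) :
    ⁅⁅x, y⁆, z⁆ = 1 := by
  have hE : Engel2 N := by
    intro x g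
    have := engel_of_cube N c hcN h3 x x.2 g g.2
    exact Subtype.ext this.eq
  exact eq_one_of_pow_three_of_isPGroup_two hN2 _ (Engel2.T_pow_three hE x y z)

theorem nilpotencyClass_le_two_of_cube [Finite X] (N : Subgroup X) (hN2 : IsPGroup 2 N) (c : X)
    (hcN : ∀ n ∈ N, c * n * c⁻¹ ∈ N) (h3 : ∀ n ∈ N, (c * n) ^ 3 = 1) :
    Group.nilpotencyClass N ≤ 2 := by
  have : Group.IsNilpotent N := hN2.isNilpotent
  exact nilpotencyClass_le_two_of_comm (triple_comm_eq_one_of_cube N hN2 c hcN h3)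

/-- **The `S_3`-lemma.** `H` a normal `2`-subgroup of exponent dividing 4; `c`, `t` with
`(c h)^3 = 1` and `(s h)^4 = 1`, `s^2 = 1` for `s ∈ {t, t c, t c⁻¹}` and all `h ∈ H`.
Then `H` has exponent dividing 2. -/
theorem sq_eq_one_of_s3 (H : Subgroup X) [hHn : H.Normal] (hH2 : IsPGroup 2 H)
    (h4 : ∀ h ∈ H, h ^ 4 = 1) (c t : X) (hc3 : ∀ h ∈ H, (c * h) ^ 3 = 1)
    (ht : t * t = 1) (htc : t * c * (t * c) = 1) (htc' : t * c⁻¹ * (t * c⁻¹) = 1)
    (h4t : ∀ h ∈ H, (t * h) ^ 4 = 1) (h4tc : ∀ h ∈ H, (t * c * h) ^ 4 = 1)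
    (h4tc' : ∀ h ∈ H, (t * c⁻¹ * h) ^ 4 = 1) : ∀ h ∈ H, h ^ 2 = 1 := by
  have hcN : ∀ n ∈ H, c * n * c⁻¹ ∈ H := fun n hn => hHn.conj_mem n hn c
  have hcc : CC H := ⟨fun x y z => by
    have := triple_comm_eq_one_of_cube H hH2 c hcN hc3 x y z
    rw [commutatorElement_eq_one_iff_mul_comm] at this
    exact this⟩
  have h4' : ∀ x : H, x ^ 4 = 1 := fun x => Subtype.ext (by simpa using h4 x x.2)
  have hc1 : c ^ 3 = 1 := by simpa using hc3 1 H.one_mem
  -- generic facts for an involution s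
  have hsq : ∀ s : X, s * s = 1 → (∀ h ∈ H, (s * h) ^ 4 = 1) →
      ∀ x : H, ((MulAut.conjNormal s : MulAut H).toMonoidHom x * x) ^ 2 = 1 := by
    intro s hs hs4 x
    apply Subtype.ext
    have hsinv : s⁻¹ = s := inv_eq_of_mul_eq_one_left hs
    have e : ((s * (x : X) * s⁻¹) * x) ^ 2 = (s * x) ^ 4 := by
      rw [hsinv]
      have : (4 : ℕ) = 2 * 2 := rfl
      rw [this, pow_mul]
      congr 1
      rw [pow_two]; simp only [mul_assoc]
    simp only [MulEquiv.coe_toMonoidHom, Subgroup.coe_pow, Subgroup.coe_mul,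
      MulAut.conjNormal_apply, Subgroup.coe_one]
    rw [e]
    exact hs4 x x.2
  intro h hh
  have key := CC.sq_eq_one_of_three hcc h4'
    (MulAut.conjNormal t : MulAut H).toMonoidHom
    (MulAut.conjNormal (t * c) : MulAut H).toMonoidHom
    (MulAut.conjNormal (t * c⁻¹) : MulAut H).toMonoidHom
    (by
      intro x
      apply Subtype.ext
      simp only [MulEquiv.coe_toMonoidHom, Subgroup.coe_mul, MulAut.conjNormal_apply,
        Subgroup.coe_one]
      have e1 := (cube_core c (x : X) hc1 (hc3 x x.2) (hc3 _ (H.inv_mem x.2))).2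
      have e2 : (x : X) * ((c * x * c⁻¹) * (c⁻¹ * x * c)) = 1 := by
        have : ((c * (x : X) * c⁻¹) * (c⁻¹ * x * c)) = (x : X)⁻¹ := by
          rw [eq_inv_iff_mul_eq_one]; exact e1
        rw [this, mul_inv_cancel]
      calc t * (x : X) * t⁻¹ * (t * c * x * (t * c)⁻¹) * (t * c⁻¹ * x * (t * c⁻¹)⁻¹)
          = t * ((x : X) * ((c * x * c⁻¹) * (c⁻¹ * x * c))) * t⁻¹ := by group
        _ = 1 := by rw [e2]; group)
    (hsq t ht h4t) (hsq (t * c) htc h4tc) (hsq (t * c⁻¹) htc' h4tc') ⟨h, hh⟩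
  have := congrArg (fun x : H => (x : X)) key
  simpa using this

end Concrete

end Cfsg.Agent.Lib.Helper66
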