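import Mathlib

/-!
# The norm ideal of a group algebra (helper66)

For a group `G` and a commutative ring `R`, `normElt R G g = 1 + g + ⋯ + g^(o(g)-1) ∈ R[G]`
and `normIdeal R G` is the left ideal of `R[G]` generated by the `normElt R G g` with `g` of
prime order.  It is a two-sided ideal.
-/

set_option autoImplicit false

namespace Cfsg.Agent.Lib.Helper66.NormIdeal

open MonoidAlgebra

section basic

variable (R : Type*) [CommRing R] (G : Type*) [Group G]

/-- The norm element `1 + g + ⋯ + g^(o(g)-1)` of the group algebra. -/
noncomputable def normElt (g : G) : MonoidAlgebra R G :=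
  ∑ i ∈ Finset.range (orderOf g), (MonoidAlgebra.of R G g) ^ i

/-- The left ideal generated by the norm elements of the elements of prime order. -/
noncomputable def normIdeal : Ideal (MonoidAlgebra R G) :=
  Ideal.span {x | ∃ g : G, (orderOf g).Prime ∧ x = normElt R G g}

variable {R G}

theorem normElt_mem {g : G} (hg : (orderOf g).Prime) : normElt R G g ∈ normIdeal R G :=
  Ideal.subset_span ⟨g, hg, rfl⟩

/-- `g * N_g = N_g`. -/
theorem of_mul_normElt (g : G) : MonoidAlgebra.of R G g * normElt R G g = normElt R G g := by
  have h := mul_geom_sum (MonoidAlgebra.of R G g) (orderOf g)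
  rw [← map_pow, pow_orderOf_eq_one, map_one, sub_self, sub_mul, one_mul, sub_eq_zero] at h
  exact h

/-- `N_g * N_g = o(g) • N_g`. -/
theorem normElt_mul_self (g : G) :
    normElt R G g * normElt R G g = (orderOf g : MonoidAlgebra R G) * normElt R G g := by
  have hpow : ∀ i : ℕ, (MonoidAlgebra.of R G g) ^ i * normElt R G g = normElt R G g := by
    intro i
    induction i with
    | zero => simp
    | succ n ih => rw [pow_succ, mul_assoc, of_mul_normElt, ih]
  have h1 : normElt R G g * normElt R G g
      = ∑ i ∈ Finset.range (orderOf g), (MonoidAlgebra.of R G g) ^ i * normElt R G g := by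
    conv_lhs => rw [normElt, Finset.sum_mul]
    rfl
  rw [h1, Finset.sum_congr rfl (fun i _ => hpow i)]
  simp

/-- Conjugation rule: `N_g * h = h * N_{h⁻¹ g h}`. -/
theorem normElt_mul_of (g h : G) :
    normElt R G g * MonoidAlgebra.of R G h = MonoidAlgebra.of R G h * normElt R G (h⁻¹ * g * h) := by
  have hord : orderOf (h⁻¹ * g * h) = orderOf g := by
    have : h⁻¹ * g * h = MulAut.conj h⁻¹ g := by simp [MulAut.conj_apply]
    rw [this, MulEquiv.orderOf_eq]
  unfold normElt
  rw [hord, Finset.sum_mul, Finset.mul_sum]
  refine Finset.sum_congr rfl (fun i _ => ?_)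
  rw [← map_pow, ← map_pow, ← map_mul, ← map_mul]
  congr 1
  have : (h⁻¹ * g * h) ^ i = h⁻¹ * g ^ i * h := by
    have := map_pow (MulAut.conj h⁻¹) g i
    simpa [MulAut.conj_apply] using this.symm
  rw [this]; group

/-- The norm ideal is a right ideal as well. -/
theorem normIdeal_mul_mem_right {x : MonoidAlgebra R G} (hx : x ∈ normIdeal R G)
    (a : MonoidAlgebra R G) : x * a ∈ normIdeal R G := by
  classical
  induction a using MonoidAlgebra.induction_on with
  | of h =>
    unfold normIdeal at hx ⊢
    induction hx using Submodule.span_induction with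
    | mem y hy =>
      obtain ⟨g, hg, rfl⟩ := hy
      rw [normElt_mul_of]
      refine Ideal.mul_mem_left _ _ (Ideal.subset_span ⟨h⁻¹ * g * h, ?_, rfl⟩)
      have : h⁻¹ * g * h = MulAut.conj h⁻¹ g := by simp [MulAut.conj_apply]
      rw [this, MulEquiv.orderOf_eq]; exact hg
    | zero => simp
    | add y z _ _ hy hz => rw [add_mul]; exact Ideal.add_mem _ hy hz
    | smul c y _ hy => rw [smul_eq_mul, mul_assoc]; exact Ideal.mul_mem_left _ _ hy
  | add a b ha hb => rw [mul_add]; exact Ideal.add_mem _ ha hb
  | smul r a ha =>
    rw [mul_smul_comm]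
    exact Submodule.smul_of_tower_mem _ r ha

/-- Every element of the norm ideal kills (on the left) anything killed by the norm elements. -/
theorem mul_eq_zero_of_mem_normIdeal {ε : MonoidAlgebra R G}
    (hε : ∀ g : G, (orderOf g).Prime → normElt R G g * ε = 0)
    {x : MonoidAlgebra R G} (hx : x ∈ normIdeal R G) : x * ε = 0 := by
  unfold normIdeal at hx
  induction hx using Submodule.span_induction with
  | mem y hy => obtain ⟨g, hg, rfl⟩ := hy; exact hε g hg
  | zero => simp
  | add y z _ _ hy hz => rw [add_mul, hy, hz, add_zero]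
  | smul c y _ hy => rw [smul_eq_mul, mul_assoc, hy, mul_zero]

section map

variable {S : Type*} [CommRing S] (f : R →+* S)

theorem mapRingHom_of (g : G) :
    MonoidAlgebra.mapRingHom G f (MonoidAlgebra.of R G g) = MonoidAlgebra.of S G g := by
  simp [MonoidAlgebra.of_apply]

theorem mapRingHom_normElt (g : G) :
    MonoidAlgebra.mapRingHom G f (normElt R G g) = normElt S G g := by
  unfold normElt
  rw [map_sum]
  refine Finset.sum_congr rfl (fun i _ => ?_)
  rw [map_pow, mapRingHom_of]

theorem mapRingHom_mem_normIdeal {x : MonoidAlgebra R G} (hx : x ∈ normIdeal R G) :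
    MonoidAlgebra.mapRingHom G f x ∈ normIdeal S G := by
  unfold normIdeal at hx
  induction hx using Submodule.span_induction with
  | mem y hy =>
    obtain ⟨g, hg, rfl⟩ := hy
    rw [mapRingHom_normElt]
    exact normElt_mem hg
  | zero => simp
  | add y z _ _ hy hz => rw [map_add]; exact Ideal.add_mem _ hy hz
  | smul c y _ hy => rw [smul_eq_mul, map_mul]; exact Ideal.mul_mem_left _ _ hy

end map

end basic

section field

variable {k : Type*} [Field k] {G : Type*} [Group G]

/-- A free linear action shows that `1` is not in the norm ideal. -/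
theorem one_notMem_normIdeal_of_free {V : Type*} [AddCommGroup V] [Module k V] [Nontrivial V]
    (ρ : G →* Module.End k V) (hfree : ∀ g : G, g ≠ 1 → ∀ v : V, ρ g v = v → v = 0) :
    (1 : MonoidAlgebra k G) ∉ normIdeal k G := by
  intro h1
  set Φ : MonoidAlgebra k G →ₐ[k] Module.End k V := MonoidAlgebra.lift k (Module.End k V) G ρ
    with hΦ
  have hker : ∀ x ∈ normIdeal k G, Φ x = 0 := by
    intro x hx
    unfold normIdeal at hx
    induction hx using Submodule.span_induction with
    | mem y hy =>
      obtain ⟨g, hg, rfl⟩ := hy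
      have hg1 : g ≠ 1 := by
        rintro rfl
        rw [orderOf_one] at hg
        exact Nat.not_prime_one hg
      ext v
      apply hfree g hg1
      have h2 : ρ g * Φ (normElt k G g) = Φ (normElt k G g) := by
        have := congrArg Φ (of_mul_normElt (R := k) g)
        rw [map_mul, hΦ, MonoidAlgebra.lift_of] at this
        exact this
      have := congrArg (fun T : Module.End k V => T v) h2
      simpa using this
    | zero => simp
    | add y z _ _ hy hz => rw [map_add, hy, hz, add_zero]
    | smul c y _ hy => rw [smul_eq_mul, map_mul, hy, mul_zero]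
  have := hker 1 h1
  rw [map_one] at this
  obtain ⟨v, hv⟩ := exists_ne (0 : V)
  apply hv
  have := congrArg (fun T : Module.End k V => T v) this
  simpa using this

variable [Finite G] [NeZero (Nat.card G : k)]

/-- Maschke: if `1` is not in the norm ideal there is a nonzero idempotent killed by it. -/
theorem exists_idem_of_one_notMem (h1 : (1 : MonoidAlgebra k G) ∉ normIdeal k G) :
    ∃ ε : MonoidAlgebra k G, ε ≠ 0 ∧ ε * ε = ε ∧
      ∀ g : G, (orderOf g).Prime → normElt k G g * ε = 0 := by
  obtain ⟨L, hL⟩ := MonoidAlgebra.Submodule.exists_isCompl (normIdeal k G)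
  have htop : (1 : MonoidAlgebra k G) ∈ normIdeal k G ⊔ L := by rw [hL.sup_eq_top]; trivial
  obtain ⟨j, hj, ε, hε, hsum⟩ := Submodule.mem_sup.mp htop
  have hzero : ∀ a ∈ L, a * j = 0 := by
    intro a ha
    have h1 : a * j ∈ normIdeal k G := Ideal.mul_mem_left _ _ hj
    have h2 : a * j ∈ L := by
      have : a * j = a - a * ε := by
        have h3 : a * (j + ε) = a := by rw [hsum, mul_one]
        rw [mul_add] at h3
        rw [eq_sub_iff_add_eq, h3]
      rw [this]
      exact L.sub_mem ha (by simpa using L.smul_mem a hε)
    have : a * j ∈ normIdeal k G ⊓ L := ⟨h1, h2⟩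
    rw [hL.inf_eq_bot] at this
    exact (Submodule.mem_bot _).mp this
  have hid : ∀ a ∈ L, a * ε = a := by
    intro a ha
    have := hzero a ha
    have h3 : a * (j + ε) = a := by rw [hsum, mul_one]
    rw [mul_add, this, zero_add] at h3
    exact h3
  refine ⟨ε, ?_, hid ε hε, ?_⟩
  · rintro rfl
    rw [add_zero] at hsum
    exact h1 (hsum ▸ hj)
  · intro g hg
    have h1 : normElt k G g * ε ∈ normIdeal k G := normIdeal_mul_mem_right (normElt_mem hg) ε
    have h2 : normElt k G g * ε ∈ L := by simpa using L.smul_mem (normElt k G g) hε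
    have : normElt k G g * ε ∈ normIdeal k G ⊓ L := ⟨h1, h2⟩
    rw [hL.inf_eq_bot] at this
    exact (Submodule.mem_bot _).mp this

end field

end Cfsg.Agent.Lib.Helper66.NormIdeal
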