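import Cfsg.Agent.Lib.Helper66.NormIdealFree

/-!
# From `ℤ[G]` to fields (helper66)

If no positive integer lies in the norm ideal of `ℤ[G]`, then `1` is not in the norm ideal of
`𝔽_ℓ[G]` (Nakayama) nor of `K[G]` for `K` of characteristic zero (a rational functional).
-/

set_option autoImplicit false

namespace Cfsg.Agent.Lib.Helper66.NormIdeal

open MonoidAlgebra

section general

variable {G : Type*} [Group G]

theorem mapRingHom_surjective_of_surjective {R S : Type*} [CommRing R] [CommRing S] (f : R →+* S)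
    (hf : Function.Surjective f) : Function.Surjective (MonoidAlgebra.mapRingHom G f) := by
  intro y
  induction y using MonoidAlgebra.induction_on with
  | of g => exact ⟨MonoidAlgebra.of _ G g, mapRingHom_of f g⟩
  | add a b ha hb =>
    obtain ⟨a', rfl⟩ := ha
    obtain ⟨b', rfl⟩ := hb
    exact ⟨a' + b', map_add _ _ _⟩
  | smul c a ha =>
    obtain ⟨a', rfl⟩ := ha
    obtain ⟨c', rfl⟩ := hf c
    refine ⟨c' • a', ?_⟩
    ext g
    simp

theorem mapRingHom_injective_of_injective {R S : Type*} [CommRing R] [CommRing S] (f : R →+* S)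
    (hf : Function.Injective f) : Function.Injective (MonoidAlgebra.mapRingHom G f) := by
  intro a b hab
  ext g
  apply hf
  have := congrArg (fun y : MonoidAlgebra S G => y.coeff g) hab
  simpa using this

/-- Elements of the norm ideal over a quotient ring lift to the norm ideal. -/
theorem exists_mem_normIdeal_map_eq {R S : Type*} [CommRing R] [CommRing S] (f : R →+* S)
    (hf : Function.Surjective f) {y : MonoidAlgebra S G} (hy : y ∈ normIdeal S G) :
    ∃ j ∈ normIdeal R G, MonoidAlgebra.mapRingHom G f j = y := by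
  unfold normIdeal at hy
  induction hy using Submodule.span_induction with
  | mem y hy =>
    obtain ⟨g, hg, rfl⟩ := hy
    exact ⟨normElt R G g, normElt_mem hg, mapRingHom_normElt f g⟩
  | zero => exact ⟨0, Ideal.zero_mem _, map_zero _⟩
  | add y z _ _ hy hz =>
    obtain ⟨j1, h1, rfl⟩ := hy
    obtain ⟨j2, h2, rfl⟩ := hz
    exact ⟨j1 + j2, Ideal.add_mem _ h1 h2, map_add _ _ _⟩
  | smul c y _ hy =>
    obtain ⟨j, h1, rfl⟩ := hy
    obtain ⟨c', rfl⟩ := mapRingHom_surjective_of_surjective (G := G) f hf c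
    exact ⟨c' * j, Ideal.mul_mem_left _ _ h1, by rw [smul_eq_mul, map_mul]⟩

end general

section nakayama

variable {G : Type*} [Group G] [Finite G]

theorem exists_eq_zsmul_of_map_eq_zero (ℓ : ℕ) (x : MonoidAlgebra ℤ G)
    (hx : MonoidAlgebra.mapRingHom G (Int.castRingHom (ZMod ℓ)) x = 0) :
    ∃ a : MonoidAlgebra ℤ G, x = (ℓ : ℤ) • a := by
  classical
  have hc : ∀ g : G, ∃ d : ℤ, x.coeff g = (ℓ : ℤ) * d := by
    intro g
    have := congrArg (fun y : MonoidAlgebra (ZMod ℓ) G => y.coeff g) hx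
    simp only [MonoidAlgebra.coeff_mapRingHom, Int.coe_castRingHom, MonoidAlgebra.coeff_zero,
      Finsupp.zero_apply] at this
    exact (ZMod.intCast_zmod_eq_zero_iff_dvd _ _).mp this
  choose d hd using hc
  refine ⟨MonoidAlgebra.ofCoeff (Finsupp.onFinset x.coeff.support
    (fun g => if g ∈ x.coeff.support then d g else 0) ?_), ?_⟩
  · intro g hg
    by_contra h
    simp [h] at hg
  · ext g
    simp only [MonoidAlgebra.coeff_smul, Finsupp.smul_apply, MonoidAlgebra.coeff_ofCoeff,
      Finsupp.onFinset_apply, smul_eq_mul]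
    by_cases hg : g ∈ x.coeff.support
    · rw [if_pos hg, ← hd g]
    · rw [if_neg hg, mul_zero]
      exact Finsupp.notMem_support_iff.mp hg

/-- Nakayama: if no positive integer lies in the norm ideal of `ℤ[G]`, then `1` is not in the norm
ideal of `𝔽_ℓ[G]`. -/
theorem one_notMem_normIdeal_zmod (ℓ : ℕ) [hℓ : Fact ℓ.Prime]
    (hZ : ∀ m : ℕ, 0 < m → (m : MonoidAlgebra ℤ G) ∉ normIdeal ℤ G) :
    (1 : MonoidAlgebra (ZMod ℓ) G) ∉ normIdeal (ZMod ℓ) G := by
  intro h1
  obtain ⟨j, hj, hj1⟩ := exists_mem_normIdeal_map_eq (Int.castRingHom (ZMod ℓ))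
    (ZMod.intCast_surjective) h1
  obtain ⟨a, ha⟩ := exists_eq_zsmul_of_map_eq_zero ℓ (1 - j) (by rw [map_sub, map_one, hj1, sub_self])
  -- the quotient abelian group
  set N : Submodule ℤ (MonoidAlgebra ℤ G) := (normIdeal ℤ G).restrictScalars ℤ with hN
  have hle : (⊤ : Submodule ℤ (MonoidAlgebra ℤ G ⧸ N)) ≤
      (Ideal.span {(ℓ : ℤ)}) • (⊤ : Submodule ℤ (MonoidAlgebra ℤ G ⧸ N)) := by
    intro x _
    obtain ⟨x, rfl⟩ := Submodule.mkQ_surjective N x
    have hx : x = x * j + (ℓ : ℤ) • (x * a) := by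
      have : x * (1 - j) = (ℓ : ℤ) • (x * a) := by rw [ha, mul_smul_comm]
      rw [← this]; noncomm_ring
    have h0 : N.mkQ (x * j) = 0 := by
      rw [Submodule.mkQ_apply, Submodule.Quotient.mk_eq_zero]
      exact Ideal.mul_mem_left _ _ hj
    rw [hx, map_add, h0, zero_add, map_smul]
    exact Submodule.smul_mem_smul (Ideal.mem_span_singleton_self _) Submodule.mem_top
  obtain ⟨r, hr1, hr0⟩ := Submodule.exists_sub_one_mem_and_smul_eq_zero_of_fg_of_le_smul
    (Ideal.span {(ℓ : ℤ)}) (⊤ : Submodule ℤ (MonoidAlgebra ℤ G ⧸ N)) Module.Finite.fg_top hle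
  have hrmem : (r : MonoidAlgebra ℤ G) ∈ normIdeal ℤ G := by
    have := hr0 (N.mkQ 1) Submodule.mem_top
    rw [← map_smul, Submodule.mkQ_apply, Submodule.Quotient.mk_eq_zero] at this
    have h2 : r • (1 : MonoidAlgebra ℤ G) = (r : MonoidAlgebra ℤ G) := by
      rw [zsmul_eq_mul, mul_one]
    rw [h2] at this
    exact this
  have hr0' : r ≠ 0 := by
    rintro rfl
    rw [zero_sub, Ideal.mem_span_singleton] at hr1
    have : (ℓ : ℤ) ∣ 1 := (dvd_neg.mp hr1)
    have := Int.natCast_dvd_natCast.mp (by simpa using this : ((ℓ : ℕ) : ℤ) ∣ ((1 : ℕ) : ℤ))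
    exact hℓ.out.one_lt.ne' (Nat.dvd_one.mp this)
  apply hZ r.natAbs (Int.natAbs_pos.mpr hr0')
  rcases Int.natAbs_eq r with h | h
  · have : ((r.natAbs : ℕ) : MonoidAlgebra ℤ G) = (r : MonoidAlgebra ℤ G) := by
      conv_rhs => rw [h]
      simp
    rw [this]; exact hrmem
  · have : ((r.natAbs : ℕ) : MonoidAlgebra ℤ G) = -(r : MonoidAlgebra ℤ G) := by
      conv_rhs => rw [h]
      simp
    rw [this]; exact Ideal.neg_mem_iff _ |>.mpr hrmem

end nakayama

section charZero

variable {G : Type*} [Group G]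

/-- If no positive integer lies in the norm ideal of `ℤ[G]`, then `1` is not in the rational span
of the norm ideal. -/
theorem one_notMem_span_rat
    (hZ : ∀ m : ℕ, 0 < m → (m : MonoidAlgebra ℤ G) ∉ normIdeal ℤ G) :
    (1 : MonoidAlgebra ℚ G) ∉ Submodule.span ℚ
      ((MonoidAlgebra.mapRingHom G (Int.castRingHom ℚ)) '' (normIdeal ℤ G : Set (MonoidAlgebra ℤ G))) := by
  set ι := MonoidAlgebra.mapRingHom G (Int.castRingHom ℚ) with hι
  have key : ∀ x ∈ Submodule.span ℚ (ι '' (normIdeal ℤ G : Set (MonoidAlgebra ℤ G))),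
      ∃ D : ℕ, 0 < D ∧ ∃ y ∈ normIdeal ℤ G, ι y = (D : ℚ) • x := by
    intro x hx
    induction hx using Submodule.span_induction with
    | mem x hx =>
      obtain ⟨y, hy, rfl⟩ := hx
      exact ⟨1, one_pos, y, hy, by simp⟩
    | zero => exact ⟨1, one_pos, 0, Ideal.zero_mem _, by simp⟩
    | add x z _ _ hx hz =>
      obtain ⟨D1, hD1, y1, hy1, h1⟩ := hx
      obtain ⟨D2, hD2, y2, hy2, h2⟩ := hz
      refine ⟨D1 * D2, Nat.mul_pos hD1 hD2, (D2 : ℤ) • y1 + (D1 : ℤ) • y2,
        Ideal.add_mem _ ?_ ?_, ?_⟩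
      · rw [zsmul_eq_mul]; exact Ideal.mul_mem_left _ _ hy1
      · rw [zsmul_eq_mul]; exact Ideal.mul_mem_left _ _ hy2
      · rw [map_add, map_zsmul, map_zsmul, h1, h2, smul_add]
        simp only [← Int.cast_smul_eq_zsmul ℚ, smul_smul]
        push_cast
        congr 2 <;> ring
    | smul c x _ hx =>
      obtain ⟨D, hD, y, hy, h1⟩ := hx
      refine ⟨D * c.den, Nat.mul_pos hD c.den_pos, c.num • y, ?_, ?_⟩
      · rw [zsmul_eq_mul]; exact Ideal.mul_mem_left _ _ hy
      · rw [map_zsmul, h1, ← Int.cast_smul_eq_zsmul ℚ, smul_smul, smul_smul]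
        congr 1
        push_cast
        have := Rat.mul_den_eq_num c
        calc (c.num : ℚ) * D = (c * c.den) * D := by rw [this]
          _ = D * c.den * c := by ring
  intro h1
  obtain ⟨D, hD, y, hy, hy1⟩ := key 1 h1
  apply hZ D hD
  have : y = (D : MonoidAlgebra ℤ G) := by
    apply mapRingHom_injective_of_injective (G := G) (Int.castRingHom ℚ) Int.cast_injective
    rw [← hι, hy1, map_natCast, Nat.cast_smul_eq_nsmul, nsmul_eq_mul, mul_one]
  rw [← this]; exact hy

variable [Finite G]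

/-- In characteristic zero, `1` is not in the norm ideal if no positive integer lies in the norm
ideal of `ℤ[G]`. -/
theorem one_notMem_normIdeal_of_charZero (K : Type*) [Field K] [CharZero K]
    (hZ : ∀ m : ℕ, 0 < m → (m : MonoidAlgebra ℤ G) ∉ normIdeal ℤ G) :
    (1 : MonoidAlgebra K G) ∉ normIdeal K G := by
  classical
  set ι := MonoidAlgebra.mapRingHom G (Int.castRingHom ℚ) with hι
  set ιK := MonoidAlgebra.mapRingHom G (algebraMap ℚ K) with hιK
  obtain ⟨φ, hφ1, hφW⟩ := Submodule.exists_le_ker_of_notMem (one_notMem_span_rat hZ)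
  -- the functional on `K[G]`
  set ψ : MonoidAlgebra K G →ₗ[K] K :=
    (Finsupp.linearCombination K (fun g : G => algebraMap ℚ K (φ (MonoidAlgebra.of ℚ G g)))) ∘ₗ
      (MonoidAlgebra.coeffLinearEquiv K).toLinearMap with hψ
  have hψsingle : ∀ (g : G) (c : K),
      ψ (MonoidAlgebra.single g c) = c * algebraMap ℚ K (φ (MonoidAlgebra.of ℚ G g)) := by
    intro g c
    simp [hψ, Finsupp.linearCombination_single]
  have hψι : ∀ z : MonoidAlgebra ℚ G, ψ (ιK z) = algebraMap ℚ K (φ z) := by
    intro z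
    induction z using MonoidAlgebra.induction_on with
    | of g =>
      rw [hιK, mapRingHom_of, MonoidAlgebra.of_apply, hψsingle, one_mul]
    | add a b ha hb => rw [map_add, map_add, ha, hb, map_add, map_add]
    | smul c a ha =>
      have : ιK (c • a) = (algebraMap ℚ K c) • ιK a := by
        ext g; simp [hιK]
      rw [this, map_smul, ha, map_smul, smul_eq_mul, smul_eq_mul, map_mul]
  have hcomp : ∀ w : MonoidAlgebra ℤ G,
      MonoidAlgebra.mapRingHom G (Int.castRingHom K) w = ιK (ι w) := by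
    intro w
    ext g
    simp [hι, hιK]
  have hgen : ∀ (g : G), (orderOf g).Prime → ∀ a : MonoidAlgebra K G,
      ψ (a * normElt K G g) = 0 := by
    intro g hg a
    induction a using MonoidAlgebra.induction_on with
    | of h =>
      have h1 : MonoidAlgebra.of K G h * normElt K G g
          = ιK (ι (MonoidAlgebra.of ℤ G h * normElt ℤ G g)) := by
        rw [← hcomp, map_mul, mapRingHom_of, mapRingHom_normElt]
      rw [h1, hψι]
      have hmem : ι (MonoidAlgebra.of ℤ G h * normElt ℤ G g) ∈ LinearMap.ker φ := by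
        apply hφW
        apply Submodule.subset_span
        exact ⟨_, Ideal.mul_mem_left _ _ (normElt_mem hg), rfl⟩
      rw [LinearMap.mem_ker.mp hmem, map_zero]
    | add a b ha hb => rw [add_mul, map_add, ha, hb, add_zero]
    | smul c a ha => rw [smul_mul_assoc, map_smul, ha, smul_zero]
  have hall : ∀ x ∈ normIdeal K G, ∀ a : MonoidAlgebra K G, ψ (a * x) = 0 := by
    intro x hx
    unfold normIdeal at hx
    induction hx using Submodule.span_induction with
    | mem y hy => obtain ⟨g, hg, rfl⟩ := hy; exact hgen g hg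
    | zero => intro a; simp
    | add y z _ _ hy hz => intro a; rw [mul_add, map_add, hy, hz, add_zero]
    | smul c y _ hy => intro a; rw [smul_eq_mul, ← mul_assoc]; exact hy _
  intro h1
  have h0 := hall 1 h1 1
  rw [mul_one] at h0
  have h2 : ψ (ιK 1) = algebraMap ℚ K (φ 1) := hψι 1
  rw [map_one, h0] at h2
  exact hφ1 ((map_eq_zero (algebraMap ℚ K)).mp h2.symm)

end charZero

end Cfsg.Agent.Lib.Helper66.NormIdeal
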