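import Cfsg.Agent.Lib.Helper66.NormIdealLift

/-!
# Free modules from the norm ideal (helper66)

`annSub k G` is the right annihilator of the norm ideal in `k[G]`; `G` acts freely on it by left
multiplication, and it is nonzero as soon as `1 ∉ normIdeal k G`.
-/

set_option autoImplicit false

namespace Cfsg.Agent.Lib.Helper66.NormIdeal

open MonoidAlgebra

section annSub

variable (k : Type*) [Field k] (G : Type*) [Group G]

/-- The right annihilator of the norm elements, as a `k`-subspace of `k[G]`. -/
noncomputable def annSub : Submodule k (MonoidAlgebra k G) where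
  carrier := {x | ∀ g : G, (orderOf g).Prime → normElt k G g * x = 0}
  add_mem' := by
    intro a b ha hb g hg
    rw [mul_add, ha g hg, hb g hg, add_zero]
  zero_mem' := by intro g _; simp
  smul_mem' := by
    intro c x hx g hg
    rw [mul_smul_comm, hx g hg, smul_zero]

variable {k G}

theorem mem_annSub {x : MonoidAlgebra k G} :
    x ∈ annSub k G ↔ ∀ g : G, (orderOf g).Prime → normElt k G g * x = 0 := Iff.rfl

theorem of_mul_mem_annSub (h : G) {x : MonoidAlgebra k G} (hx : x ∈ annSub k G) :
    MonoidAlgebra.of k G h * x ∈ annSub k G := by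
  intro g hg
  rw [← mul_assoc, normElt_mul_of, mul_assoc]
  have : orderOf (h⁻¹ * g * h) = orderOf g := by
    have : h⁻¹ * g * h = MulAut.conj h⁻¹ g := by simp
    rw [this, MulEquiv.orderOf_eq]
  rw [hx _ (this ▸ hg), mul_zero]

/-- The action of `G` on `annSub` is free. -/
theorem eq_zero_of_of_mul_eq [Finite G] [NeZero (Nat.card G : k)] {g : G} (hg : g ≠ 1)
    {x : MonoidAlgebra k G} (hx : x ∈ annSub k G) (hfix : MonoidAlgebra.of k G g * x = x) :
    x = 0 := by
  -- a power of `g` of prime order
  have hord : orderOf g ≠ 1 := by rwa [Ne, orderOf_eq_one_iff]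
  obtain ⟨r, hr, hrd⟩ := Nat.exists_prime_and_dvd hord
  obtain ⟨t, ht⟩ := hrd
  have hpos : 0 < orderOf g := orderOf_pos g
  set h := g ^ t with hh
  have ht0 : t ≠ 0 := by
    rintro rfl
    rw [mul_zero] at ht
    omega
  have hordh : orderOf h = r := by
    rw [hh, orderOf_pow' g ht0]
    rw [Nat.gcd_eq_right ⟨r, by rw [ht, mul_comm]⟩, ht,
      Nat.mul_div_cancel _ (Nat.pos_of_ne_zero ht0)]
  have hfixh : MonoidAlgebra.of k G h * x = x := by
    rw [hh, map_pow]
    have : ∀ n : ℕ, (MonoidAlgebra.of k G g) ^ n * x = x := by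
      intro n
      induction n with
      | zero => simp
      | succ n ih => rw [pow_succ, mul_assoc, hfix, ih]
    exact this t
  have hN : normElt k G h * x = (r : k) • x := by
    unfold normElt
    rw [hordh, Finset.sum_mul]
    have : ∀ i : ℕ, (MonoidAlgebra.of k G h) ^ i * x = x := by
      intro i
      induction i with
      | zero => simp
      | succ n ih => rw [pow_succ, mul_assoc, hfixh, ih]
    rw [Finset.sum_congr rfl (fun i _ => this i), Finset.sum_const, Finset.card_range, Nat.cast_smul_eq_nsmul]
  rw [hx h (hordh ▸ hr)] at hN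
  have hr0 : (r : k) ≠ 0 := by
    intro h0
    have hdvd : r ∣ Nat.card G := by
      rw [← hordh]; exact orderOf_dvd_natCard h
    obtain ⟨s, hs⟩ := hdvd
    have : (Nat.card G : k) = 0 := by rw [hs]; push_cast; rw [h0, zero_mul]
    exact NeZero.ne _ this
  exact (smul_eq_zero.mp hN.symm).resolve_left hr0

theorem exists_ne_zero_mem_annSub [Finite G] [NeZero (Nat.card G : k)]
    (h1 : (1 : MonoidAlgebra k G) ∉ normIdeal k G) : ∃ x ∈ annSub k G, x ≠ 0 := by
  obtain ⟨ε, hε0, -, hkill⟩ := exists_idem_of_one_notMem h1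
  exact ⟨ε, hkill, hε0⟩

end annSub

end Cfsg.Agent.Lib.Helper66.NormIdeal
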