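import Cfsg.Agent.Lib.Helper66.NormIdealDescent
import Cfsg.Agent.Lib.Helper15.ZassA
import Cfsg.Agent.Lib.Helper35.FrobComplNonsolv

/-!
# Frobenius complements and the norm ideal (helper66)

A Frobenius complement acts freely on a nonzero finite `𝔽_q`-space (helper15 `exists_free_linear`),
so no positive integer lies in the norm ideal of its integral group ring.
-/

set_option autoImplicit false

namespace Cfsg.Agent.Lib.Helper66.NormIdeal

open MonoidAlgebra

/-- the conjugation action of a Frobenius complement on the kernel, as a fixed-point-free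
injective homomorphism into the automorphism group of the kernel. -/
theorem exists_fpf_hom_of_frobeniusComplement {G : Type*} [Group G] [Finite G]
    (hFC : ∃ (L : Type) (_ : Group L) (_ : Finite L) (H : Subgroup L),
      Cfsg.IsFrobeniusComplement H ∧ Nonempty (G ≃* H)) :
    ∃ (N : Type) (_ : Group N) (_ : Finite N) (_ : Nontrivial N) (φ : G →* MulAut N),
      Function.Injective φ ∧ ∀ g : G, g ≠ 1 → ∀ x : N, φ g x = x → x = 1 := by
  obtain ⟨L, _, _, H, hH, ⟨e⟩⟩ := hFC
  obtain ⟨N, hNker, -, -⟩ := Cfsg.Agent.S0035.result H hH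
  obtain ⟨hNn, -, -, hN1, hfpf, -⟩ := Cfsg.Agent.Lib.Helper35.frobenius_data H N hH hNker.symm
  set ι : G →* L := H.subtype.comp e.toMonoidHom with hι
  have hιinj : Function.Injective ι := H.subtype_injective.comp e.injective
  have hιH : ∀ g, ι g ∈ H := fun g => (e g).2
  set φ : G →* MulAut ↥N := (MulAut.conjNormal (H := N)).comp ι with hφ
  have hφapp : ∀ g (x : N), ((φ g x : N) : L) = ι g * (x : L) * (ι g)⁻¹ := by
    intro g x
    rw [hφ, MonoidHom.comp_apply, MulAut.conjNormal_apply]
  have hfree : ∀ g : G, g ≠ 1 → ∀ x : N, φ g x = x → x = 1 := by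
    intro g hg1 x hx
    have hιg1 : ι g ≠ 1 := fun h => hg1 (hιinj (h.trans (map_one ι).symm))
    have hfix : ι g * (x : L) * (ι g)⁻¹ = x := by rw [← hφapp g x, hx]
    have := Cfsg.Agent.Lib.Helper35.SL25Compl.mem_inf_centralizer_of_conj_eq N x.2 hfix
    rw [hfpf _ (hιH g) hιg1, Subgroup.mem_bot] at this
    exact Subtype.ext this
  have hNnt : Nontrivial N := (Subgroup.nontrivial_iff_ne_bot N).mpr hN1
  refine ⟨N, inferInstance, inferInstance, hNnt, φ, ?_, hfree⟩
  rw [injective_iff_map_eq_one]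
  intro g hg
  by_contra hg1
  obtain ⟨x, hx⟩ := exists_ne (1 : N)
  apply hx
  apply hfree g hg1
  rw [hg]; rfl

/-- A Frobenius complement acts freely and linearly on a nonzero finite `𝔽_q`-space. -/
theorem exists_free_rep_of_frobeniusComplement {G : Type*} [Group G] [Finite G]
    (hFC : ∃ (L : Type) (_ : Group L) (_ : Finite L) (H : Subgroup L),
      Cfsg.IsFrobeniusComplement H ∧ Nonempty (G ≃* H)) :
    ∃ (q : ℕ) (_ : Fact q.Prime) (V : Type) (_ : AddCommGroup V) (_ : Module (ZMod q) V)
      (_ : Finite V) (_ : Nontrivial V) (ρ : G →* Module.End (ZMod q) V),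
      ∀ g : G, g ≠ 1 → ∀ v : V, ρ g v = v → v = 0 := by
  have hGnt : Nontrivial G := by
    obtain ⟨L, _, _, H, hH, ⟨e⟩⟩ := hFC
    have : Nontrivial H := (Subgroup.nontrivial_iff_ne_bot H).mpr hH.1
    exact e.toEquiv.nontrivial
  obtain ⟨N, _, _, _, φ, hφinj, hfree⟩ := exists_fpf_hom_of_frobeniusComplement hFC
  set A : Subgroup (MulAut N) := φ.range with hA
  have hAfpf : ∀ ψ ∈ A, ψ ≠ 1 → ∀ x : N, ψ x = x → x = 1 := by
    rintro ψ ⟨g, rfl⟩ hψ x hx
    apply hfree g _ x hx
    rintro rfl
    exact hψ (map_one φ)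
  have hAne : A ≠ ⊥ := by
    obtain ⟨g, hg⟩ := exists_ne (1 : G)
    intro h
    have : φ g ∈ A := ⟨g, rfl⟩
    rw [h, Subgroup.mem_bot] at this
    exact hg (hφinj (this.trans (map_one φ).symm))
  obtain ⟨q, hq, V, iV1, iV2, iV3, iV4, X, ⟨eX⟩, hX⟩ :=
    Cfsg.Agent.Lib.Helper15.ZassA.exists_free_linear A hAfpf hAne
  set ρ : G →* Module.End (ZMod q) V :=
    (LinearEquiv.automorphismGroup.toLinearMapMonoidHom).comp
      (X.subtype.comp (eX.toMonoidHom.comp φ.rangeRestrict)) with hρ
  refine ⟨q, hq, V, iV1, iV2, iV3, iV4, ρ, ?_⟩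
  intro g hg v hv
  have hne : (eX (φ.rangeRestrict g) : V ≃ₗ[ZMod q] V) ≠ 1 := by
    intro h
    have h1 : eX (φ.rangeRestrict g) = 1 := Subtype.ext h
    have h2 : φ.rangeRestrict g = 1 := eX.injective (h1.trans (map_one eX).symm)
    have h3 : φ g = 1 := congrArg Subtype.val h2
    exact hg (hφinj (h3.trans (map_one φ).symm))
  exact hX _ (eX (φ.rangeRestrict g)).2 hne v hv

/-- a free linear action of `G` in characteristic `q` forces `q ∤ |G|` -/
theorem not_dvd_card_of_free {G : Type*} [Group G] [Finite G] {q : ℕ} [hq : Fact q.Prime]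
    {V : Type*} [AddCommGroup V] [Module (ZMod q) V] [Nontrivial V]
    (ρ : G →* Module.End (ZMod q) V) (hfree : ∀ g : G, g ≠ 1 → ∀ v : V, ρ g v = v → v = 0) :
    ¬ q ∣ Nat.card G := by
  intro hdvd
  obtain ⟨g, hg⟩ := exists_prime_orderOf_dvd_card' q hdvd
  have hg1 : g ≠ 1 := by
    rintro rfl
    rw [orderOf_one] at hg
    exact hq.out.one_lt.ne hg
  set T : Module.End (ZMod q) V := ρ g with hT
  have hgq : g ^ q = 1 := by
    have := pow_orderOf_eq_one g
    rwa [hg] at this
  have hTq : T ^ q = 1 := by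
    rw [hT, ← map_pow, hgq, map_one]
  have hpoly : ((Polynomial.X : Polynomial (ZMod q)) - 1) ^ q = Polynomial.X ^ q - 1 := by
    rw [sub_pow_char, one_pow]
  have hnil : (T - 1) ^ q = 0 := by
    have := congrArg (Polynomial.aeval T) hpoly
    simpa [hTq] using this
  -- `T - 1` is injective by freeness
  have hinj : Function.Injective ⇑(T - 1) := by
    rw [← LinearMap.ker_eq_bot, LinearMap.ker_eq_bot']
    intro v hv
    apply hfree g hg1 v
    have : T v - v = 0 := by simpa using hv
    exact sub_eq_zero.mp this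
  have hinjq : Function.Injective ⇑((T - 1) ^ q) := by
    have : ∀ n : ℕ, Function.Injective ⇑((T - 1) ^ n) := by
      intro n
      induction n with
      | zero =>
        rw [pow_zero]
        intro a b hab
        simpa using hab
      | succ n ih =>
        rw [pow_succ]
        exact ih.comp hinj
    exact this q
  rw [hnil] at hinjq
  obtain ⟨v, hv⟩ := exists_ne (0 : V)
  exact hv (hinjq (by simp))

/-- **Main consequence**: for a Frobenius complement `G`, no positive integer lies in the norm ideal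
of `ℤ[G]`. -/
theorem natCast_notMem_normIdeal_int_of_frobeniusComplement {G : Type*} [Group G] [Finite G]
    (hFC : ∃ (L : Type) (_ : Group L) (_ : Finite L) (H : Subgroup L),
      Cfsg.IsFrobeniusComplement H ∧ Nonempty (G ≃* H)) (m : ℕ) (hm : 0 < m) :
    (m : MonoidAlgebra ℤ G) ∉ normIdeal ℤ G := by
  obtain ⟨q, hq, V, _, _, _, _, ρ, hfree⟩ := exists_free_rep_of_frobeniusComplement hFC
  exact natCast_notMem_normIdeal_int (not_dvd_card_of_free ρ hfree)
    (one_notMem_normIdeal_of_free ρ hfree) m hm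

end Cfsg.Agent.Lib.Helper66.NormIdeal
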