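import Cfsg.Agent.Lib.Helper66.NormIdeal

/-!
# The lifting lemma for the norm ideal (helper66)

If a finite group `G` acts freely on a nonzero `𝔽_q`-vector space (`q ∤ |G|`), then no positive
integer multiple of `1` lies in the norm ideal of `ℤ[G]`.
-/

set_option autoImplicit false

namespace Cfsg.Agent.Lib.Helper66.NormIdeal

open MonoidAlgebra

section zmod

variable {q : ℕ} [hq : Fact q.Prime] {k : ℕ}

/-- the reduction map `ℤ/q^k → ℤ/q` -/
noncomputable def redZ (q : ℕ) [Fact q.Prime] (k : ℕ) (hk : k ≠ 0) : ZMod (q ^ k) →+* ZMod q :=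
  ZMod.castHom (dvd_pow_self q hk) (ZMod q)

theorem exists_eq_mul_of_redZ_eq_zero (hk : k ≠ 0) (c : ZMod (q ^ k)) (hc : redZ q k hk c = 0) :
    ∃ d : ZMod (q ^ k), c = (q : ZMod (q ^ k)) * d := by
  haveI : NeZero (q ^ k) := ⟨pow_ne_zero _ hq.out.ne_zero⟩
  have h1 : ((c.val : ℕ) : ZMod q) = 0 := by
    have : redZ q k hk c = ((c.val : ℕ) : ZMod q) := by
      conv_lhs => rw [← ZMod.natCast_zmod_val c]
      rw [map_natCast]
    rw [← this, hc]
  rw [ZMod.natCast_eq_zero_iff] at h1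
  obtain ⟨t, ht⟩ := h1
  refine ⟨(t : ZMod (q ^ k)), ?_⟩
  rw [← ZMod.natCast_zmod_val c, ht]
  push_cast
  rfl

theorem redZ_eq_zero_of_mul_eq_zero (hk : k ≠ 0) (m : ℕ) (hm : ¬ q ^ k ∣ m) (c : ZMod (q ^ k))
    (hc : (m : ZMod (q ^ k)) * c = 0) : redZ q k hk c = 0 := by
  haveI : NeZero (q ^ k) := ⟨pow_ne_zero _ hq.out.ne_zero⟩
  have h0 : ((m * c.val : ℕ) : ZMod (q ^ k)) = 0 := by
    push_cast
    rw [ZMod.natCast_zmod_val, hc]
  rw [ZMod.natCast_eq_zero_iff] at h0
  have hdvd : q ∣ c.val := by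
    by_contra hnd
    have hcop : Nat.Coprime (q ^ k) c.val :=
      Nat.Coprime.pow_left k ((Nat.Prime.coprime_iff_not_dvd hq.out).mpr hnd)
    exact hm (hcop.dvd_of_dvd_mul_right h0)
  have : redZ q k hk c = ((c.val : ℕ) : ZMod q) := by
    conv_lhs => rw [← ZMod.natCast_zmod_val c]
    rw [map_natCast]
  rw [this, ZMod.natCast_eq_zero_iff]
  exact hdvd

end zmod

section lifting

variable {G : Type*} [Group G] {q : ℕ} [hq : Fact q.Prime] {k : ℕ}

/-- the reduction map of group algebras -/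
noncomputable def red (G : Type*) [Group G] (q : ℕ) [Fact q.Prime] (k : ℕ) (hk : k ≠ 0) :
    MonoidAlgebra (ZMod (q ^ k)) G →+* MonoidAlgebra (ZMod q) G :=
  MonoidAlgebra.mapRingHom G (redZ q k hk)

theorem exists_eq_smul_of_red_eq_zero (hk : k ≠ 0) (x : MonoidAlgebra (ZMod (q ^ k)) G)
    (hx : red G q k hk x = 0) :
    ∃ z : MonoidAlgebra (ZMod (q ^ k)) G, x = (q : ZMod (q ^ k)) • z := by
  classical
  have hc : ∀ g : G, ∃ d : ZMod (q ^ k), x.coeff g = (q : ZMod (q ^ k)) * d := by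
    intro g
    apply exists_eq_mul_of_redZ_eq_zero hk
    have := congrArg (fun y : MonoidAlgebra (ZMod q) G => y.coeff g) hx
    simpa [red] using this
  choose d hd using hc
  refine ⟨MonoidAlgebra.ofCoeff (Finsupp.onFinset x.coeff.support (fun g => if g ∈ x.coeff.support then d g else 0) ?_), ?_⟩
  · intro g hg
    by_contra h
    simp [h] at hg
  · ext g
    simp only [MonoidAlgebra.coeff_smul, Finsupp.smul_apply, MonoidAlgebra.coeff_ofCoeff,
      Finsupp.onFinset_apply, smul_eq_mul]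
    by_cases hg : g ∈ x.coeff.support
    · rw [if_pos hg, ← hd g]
    · rw [if_neg hg, mul_zero]
      exact Finsupp.notMem_support_iff.mp hg

theorem red_eq_zero_of_smul_eq_zero (hk : k ≠ 0) (m : ℕ) (hm : ¬ q ^ k ∣ m)
    (x : MonoidAlgebra (ZMod (q ^ k)) G) (hx : (m : ZMod (q ^ k)) • x = 0) :
    red G q k hk x = 0 := by
  ext g
  have := congrArg (fun y : MonoidAlgebra (ZMod (q ^ k)) G => y.coeff g) hx
  simp only [MonoidAlgebra.coeff_smul, Finsupp.smul_apply, smul_eq_mul, MonoidAlgebra.coeff_zero,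
    Finsupp.zero_apply] at this
  simpa [red] using redZ_eq_zero_of_mul_eq_zero hk m hm _ this

theorem red_surjective (hk : k ≠ 0) : Function.Surjective (red G q k hk) := by
  intro y
  induction y using MonoidAlgebra.induction_on with
  | of g => exact ⟨MonoidAlgebra.of _ G g, by simp [red, MonoidAlgebra.of_apply]⟩
  | add a b ha hb =>
    obtain ⟨a', rfl⟩ := ha
    obtain ⟨b', rfl⟩ := hb
    exact ⟨a' + b', map_add _ _ _⟩
  | smul c a ha =>
    obtain ⟨a', rfl⟩ := ha
    obtain ⟨c', rfl⟩ : ∃ c' : ZMod (q ^ k), redZ q k hk c' = c :=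
      ZMod.castHom_surjective (dvd_pow_self q hk) c
    refine ⟨c' • a', ?_⟩
    ext g
    simp [red]

theorem isNilpotent_of_mem_ker_red (hk : k ≠ 0) (x : MonoidAlgebra (ZMod (q ^ k)) G)
    (hx : x ∈ RingHom.ker (red G q k hk)) : IsNilpotent x := by
  obtain ⟨z, rfl⟩ := exists_eq_smul_of_red_eq_zero hk x ((RingHom.mem_ker).mp hx)
  refine ⟨k, ?_⟩
  rw [smul_pow]
  have : ((q : ZMod (q ^ k))) ^ k = 0 := by
    have := ZMod.natCast_self (q ^ k)
    push_cast at this
    exact this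
  rw [this, zero_smul]

variable [Finite G]

/-- Key step: the norm elements kill `A ε` for a lift `ε` of an idempotent killed mod `q`. -/
theorem normElt_mul_mul_idem_eq_zero (hk : k ≠ 0) (hqG : ¬ q ∣ Nat.card G)
    (εbar : MonoidAlgebra (ZMod q) G)
    (hεbar : ∀ g : G, (orderOf g).Prime → normElt (ZMod q) G g * εbar = 0)
    (ε : MonoidAlgebra (ZMod (q ^ k)) G) (hidem : ε * ε = ε) (hred : red G q k hk ε = εbar)
    (g : G) (hg : (orderOf g).Prime) (a : MonoidAlgebra (ZMod (q ^ k)) G) :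
    normElt (ZMod (q ^ k)) G g * a * ε = 0 := by
  set f := normElt (ZMod (q ^ k)) G g with hf
  set r := orderOf g with hr
  have hrq : Nat.Coprime r (q ^ k) := by
    apply Nat.Coprime.pow_right
    rw [Nat.coprime_primes hg hq.out]
    rintro h
    exact hqG (h ▸ orderOf_dvd_natCard g)
  obtain ⟨u, hu⟩ : ∃ u : ZMod (q ^ k), u * (r : ZMod (q ^ k)) = 1 :=
    ⟨((r : ZMod (q ^ k)))⁻¹, by rw [mul_comm]; exact ZMod.coe_mul_inv_eq_one r hrq⟩
  have hff : f * f = (r : ZMod (q ^ k)) • f := by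
    rw [hf, normElt_mul_self, ← hr, ← nsmul_eq_mul, Nat.cast_smul_eq_nsmul]
  -- anything of the form `f * y * ε` reduces to zero
  have hker : ∀ y, red G q k hk (f * y * ε) = 0 := by
    intro y
    rw [map_mul, map_mul, hred, hf]
    have h1 : red G q k hk (normElt (ZMod (q ^ k)) G g) = normElt (ZMod q) G g :=
      mapRingHom_normElt _ g
    rw [h1]
    exact mul_eq_zero_of_mem_normIdeal hεbar (normIdeal_mul_mem_right (normElt_mem hg) _)
  have key : ∀ j : ℕ, ∀ a : MonoidAlgebra (ZMod (q ^ k)) G,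
      ∃ y, f * a * ε = ((q : ZMod (q ^ k)) ^ j) • (y * ε) := by
    intro j
    induction j with
    | zero => intro a; exact ⟨f * a, by simp⟩
    | succ j ih =>
      intro a
      obtain ⟨y, hy⟩ := ih a
      obtain ⟨z, hz⟩ := exists_eq_smul_of_red_eq_zero hk _ (hker y)
      have hz' : f * y * ε = (q : ZMod (q ^ k)) • (z * ε) := by
        calc f * y * ε = f * y * (ε * ε) := by rw [hidem]
          _ = (f * y * ε) * ε := by simp only [mul_assoc]
          _ = ((q : ZMod (q ^ k)) • z) * ε := by rw [hz]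
          _ = (q : ZMod (q ^ k)) • (z * ε) := by rw [smul_mul_assoc]
      have h2 : (r : ZMod (q ^ k)) • (f * a * ε) = ((q : ZMod (q ^ k)) ^ (j + 1)) • (z * ε) := by
        calc (r : ZMod (q ^ k)) • (f * a * ε) = (f * f) * a * ε := by
              rw [hff]; simp only [smul_mul_assoc]
          _ = f * (f * a * ε) := by simp only [mul_assoc]
          _ = f * (((q : ZMod (q ^ k)) ^ j) • (y * ε)) := by rw [hy]
          _ = ((q : ZMod (q ^ k)) ^ j) • (f * y * ε) := by
              rw [mul_smul_comm]; simp only [mul_assoc]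
          _ = ((q : ZMod (q ^ k)) ^ (j + 1)) • (z * ε) := by
              rw [hz', smul_smul, pow_succ]
      refine ⟨u • z, ?_⟩
      calc f * a * ε = (u * (r : ZMod (q ^ k))) • (f * a * ε) := by rw [hu, one_smul]
        _ = u • ((r : ZMod (q ^ k)) • (f * a * ε)) := by rw [mul_smul]
        _ = u • (((q : ZMod (q ^ k)) ^ (j + 1)) • (z * ε)) := by rw [h2]
        _ = ((q : ZMod (q ^ k)) ^ (j + 1)) • (u • z * ε) := by
            rw [smul_comm, smul_mul_assoc]
  obtain ⟨y, hy⟩ := key k a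
  have : ((q : ZMod (q ^ k))) ^ k = 0 := by
    have := ZMod.natCast_self (q ^ k)
    push_cast at this
    exact this
  rw [hy, this, zero_smul]

/-- **Lifting lemma.** If `1` is not in the norm ideal of `𝔽_q[G]` (`q ∤ |G|`), no positive
integer lies in the norm ideal of `ℤ[G]`. -/
theorem natCast_notMem_normIdeal_int (hqG : ¬ q ∣ Nat.card G)
    (h1 : (1 : MonoidAlgebra (ZMod q) G) ∉ normIdeal (ZMod q) G) (m : ℕ) (hm : 0 < m) :
    (m : MonoidAlgebra ℤ G) ∉ normIdeal ℤ G := by
  intro hmem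
  haveI : NeZero (Nat.card G : ZMod q) := ⟨by
    rw [Ne, ZMod.natCast_eq_zero_iff]; exact hqG⟩
  obtain ⟨εbar, hε0, hεid, hεkill⟩ := exists_idem_of_one_notMem h1
  have hk : m ≠ 0 := hm.ne'
  have hnd : ¬ q ^ m ∣ m := by
    intro h
    have := Nat.le_of_dvd hm h
    exact absurd (Nat.lt_pow_self hq.out.one_lt) (not_lt.mpr this)
  obtain ⟨ε, hεidem, hεred⟩ := exists_isIdempotentElem_eq_of_ker_isNilpotent (red G q m hk)
    (fun x hx => isNilpotent_of_mem_ker_red hk x hx) εbar
    (by rw [RingHom.mem_range]; exact red_surjective hk εbar) hεid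
  have hkill : ∀ g : G, (orderOf g).Prime → normElt (ZMod (q ^ m)) G g * ε = 0 := by
    intro g hg
    have := normElt_mul_mul_idem_eq_zero hk hqG εbar hεkill ε hεidem.eq hεred g hg 1
    simpa using this
  have hmem' : (m : MonoidAlgebra (ZMod (q ^ m)) G) ∈ normIdeal (ZMod (q ^ m)) G := by
    have := mapRingHom_mem_normIdeal (Int.castRingHom (ZMod (q ^ m))) hmem
    simpa using this
  have h0 : (m : MonoidAlgebra (ZMod (q ^ m)) G) * ε = 0 := mul_eq_zero_of_mem_normIdeal hkill hmem'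
  have h0' : (m : ZMod (q ^ m)) • ε = 0 := by
    rw [Nat.cast_smul_eq_nsmul, nsmul_eq_mul]; exact h0
  have := red_eq_zero_of_smul_eq_zero hk m hnd ε h0'
  rw [hεred] at this
  exact hε0 this

end lifting

end Cfsg.Agent.Lib.Helper66.NormIdeal
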