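import Cfsg.Agent.Lib.Helper66.NormIdealFrob

/-!
# The free representation on the annihilator of the norm ideal (helper66)
-/

set_option autoImplicit false

namespace Cfsg.Agent.Lib.Helper66.NormIdeal

open MonoidAlgebra

section annRep

variable (k : Type*) [Field k] (G : Type*) [Group G]

/-- Left multiplication by group elements on `annSub k G`. -/
noncomputable def annRep : G →* Module.End k (annSub k G) where
  toFun g := (LinearMap.mulLeft k (MonoidAlgebra.of k G g)).restrict
    (fun _ hx => of_mul_mem_annSub g hx)
  map_one' := by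
    ext x
    simp
  map_mul' a b := by
    ext x
    simp [mul_assoc]

variable {k G}

@[simp] theorem annRep_apply_coe (g : G) (x : annSub k G) :
    ((annRep k G g x : annSub k G) : MonoidAlgebra k G) = MonoidAlgebra.of k G g * (x : MonoidAlgebra k G) := rfl

theorem annRep_free [Finite G] [NeZero (Nat.card G : k)] {g : G} (hg : g ≠ 1) (x : annSub k G)
    (hx : annRep k G g x = x) : x = 0 := by
  apply Subtype.ext
  apply eq_zero_of_of_mul_eq hg x.2
  have := congrArg Subtype.val hx
  simpa using this

theorem nontrivial_annSub [Finite G] [NeZero (Nat.card G : k)]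
    (h1 : (1 : MonoidAlgebra k G) ∉ normIdeal k G) : Nontrivial (annSub k G) := by
  obtain ⟨x, hx, hx0⟩ := exists_ne_zero_mem_annSub h1
  exact ⟨⟨⟨x, hx⟩, 0, fun h => hx0 (congrArg Subtype.val h)⟩⟩

end annRep

end Cfsg.Agent.Lib.Helper66.NormIdeal
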