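import Mathlib
import Cfsg.Prelude.Def_Local
import Cfsg.Prelude.Def_Transfer
import Cfsg.Agent.Lib.Helper41.PGV.Defs
import Cfsg.Agent.Lib.Helper25.PgvPQRep

/-!
# PGV-[T4-REP] (helper66, for helper41's RED sheet of S3086)

`timmesfeld_rep`: the Timmesfeld replacement theorem (S0599 with `U = V`) in representation form, DIRECT linear proof
(no semidirect product):  for `u : V` the subgroup `A_u = C_A([u, A])` has `j(A_u) ≥ j(A)` (count the fibres of
`(a, c) ↦ (a - 1) u + c`), so `j(A_u) = j(A)` and `C_V(A_u) = [u, A] + C_V(A)`; the subgroups of `A` with `j = j(A)` are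
closed under intersection and their fixed spaces add up; so `A* = ⋂ A_u` has `j(A*) = j(A)` and
`C_V(A*) = [V, A] + C_V(A)`.  If `A* = 1` then `V = [V, A] + C_V(A)` and a fixed point of the `p`-group `A` on the dual
space shows `C_V(A) = V`.
-/

set_option autoImplicit false

universe v

namespace Cfsg.Agent.Lib.Helper66.PgvT4

open Cfsg Cfsg.Agent.Lib.Helper41.PGV

section general

variable {p : ℕ} [Fact p.Prime] {G V : Type*} [Group G] [AddCommGroup V] [Module (ZMod p) V]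
  (ρ : Representation (ZMod p) G V)

theorem rho_inv_apply (g : G) (v : V) : ρ g⁻¹ (ρ g v) = v := by
  rw [← Module.End.mul_apply, ← map_mul, inv_mul_cancel, map_one, Module.End.one_apply]

theorem rho_apply_inv (g : G) (v : V) : ρ g (ρ g⁻¹ v) = v := by
  rw [← Module.End.mul_apply, ← map_mul, mul_inv_cancel, map_one, Module.End.one_apply]

/-- the stabilizer of a vector -/
def stab (v : V) : Subgroup G where
  carrier := {g | ρ g v = v}
  mul_mem' := by
    intro a b ha hb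
    show ρ (a * b) v = v
    rw [map_mul, Module.End.mul_apply, hb, ha]
  one_mem' := by
    show ρ 1 v = v
    rw [map_one, Module.End.one_apply]
  inv_mem' := by
    intro a ha
    show ρ a⁻¹ v = v
    have h : ρ a⁻¹ (ρ a v) = v := rho_inv_apply ρ a v
    rwa [ha] at h

theorem fix_antitone {X Y : Set G} (h : X ⊆ Y) : fix ρ Y ≤ fix ρ X := fun _ hv x hx => hv x (h hx)

theorem fix_inf_le_fix_sup (B D : Subgroup G) :
    fix ρ (B : Set G) ⊓ fix ρ (D : Set G) ≤ fix ρ ((B ⊔ D : Subgroup G) : Set G) := by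
  intro v hv
  have h1 : B ≤ stab ρ v := fun b hb => hv.1 b hb
  have h2 : D ≤ stab ρ v := fun b hb => hv.2 b hb
  intro x hx
  exact (sup_le h1 h2) hx

theorem fix_sup_le_fix_inf (B D : Subgroup G) :
    fix ρ (B : Set G) ⊔ fix ρ (D : Set G) ≤ fix ρ ((B ⊓ D : Subgroup G) : Set G) :=
  sup_le (fix_antitone ρ (fun _ hx => hx.1)) (fix_antitone ρ (fun _ hx => hx.2))

theorem card_sup_mul_card_inf [Finite V] (S T : Submodule (ZMod p) V) :
    Nat.card ↥(S ⊔ T) * Nat.card ↥(S ⊓ T) = Nat.card S * Nat.card T := by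
  rw [Module.natCard_eq_pow_finrank (K := ZMod p) (V := ↥(S ⊔ T)),
    Module.natCard_eq_pow_finrank (K := ZMod p) (V := ↥(S ⊓ T)),
    Module.natCard_eq_pow_finrank (K := ZMod p) (V := ↥S),
    Module.natCard_eq_pow_finrank (K := ZMod p) (V := ↥T), ← pow_add, ← pow_add,
    Submodule.finrank_sup_add_finrank_inf_eq]

theorem card_le_of_le [Finite V] {S T : Submodule (ZMod p) V} (h : S ≤ T) : Nat.card S ≤ Nat.card T :=
  Nat.card_le_card_of_injective (Submodule.inclusion h) (Submodule.inclusion_injective h)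

theorem eq_of_le_of_card_le [Finite V] {S T : Submodule (ZMod p) V} (h : S ≤ T)
    (hc : Nat.card T ≤ Nat.card S) : S = T := by
  apply SetLike.coe_injective
  apply Set.eq_of_subset_of_ncard_le h _ (Set.toFinite _)
  have h1 : Nat.card ↥T = (T : Set V).ncard := Nat.card_coe_set_eq (T : Set V)
  have h2 : Nat.card ↥S = (S : Set V).ncard := Nat.card_coe_set_eq (S : Set V)
  rw [← h1, ← h2]
  exact hc

theorem card_mul_card_le_sup_mul_inf [Finite G] (H K : Subgroup G) :
    Nat.card H * Nat.card K ≤ Nat.card (H ⊔ K : Subgroup G) * Nat.card (H ⊓ K : Subgroup G) := by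
  have hrel : ∀ {H L : Subgroup G}, H ≤ L → Nat.card H * H.relIndex L = Nat.card L := by
    intro H L h
    rw [Subgroup.relIndex, ← Subgroup.card_mul_index (H.subgroupOf L)]
    congr 1
    exact (Nat.card_congr (Subgroup.subgroupOfEquivOfLe h).toEquiv).symm
  have h1 : Nat.card (H ⊓ K : Subgroup G) * (H ⊓ K).relIndex K = Nat.card K := hrel inf_le_right
  have h2 : Nat.card H * H.relIndex (H ⊔ K) = Nat.card (H ⊔ K : Subgroup G) := hrel le_sup_left
  have h3 : (H ⊓ K).relIndex K = H.relIndex K := Subgroup.inf_relIndex_right H K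
  have h4 : H.relIndex K ≤ H.relIndex (H ⊔ K) :=
    Subgroup.relIndex_le_of_le_right le_sup_right (by
      have : (H.subgroupOf (H ⊔ K)).FiniteIndex := inferInstance
      exact this.index_ne_zero)
  rw [← h1, ← h2, h3]
  calc Nat.card H * (Nat.card (H ⊓ K : Subgroup G) * H.relIndex K)
      ≤ Nat.card H * (Nat.card (H ⊓ K : Subgroup G) * H.relIndex (H ⊔ K)) := by gcongr
    _ = _ := by ring

/-- the subgroups of `A` at which `jj` attains its maximum are closed under intersection, and fixed spaces add up -/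
theorem jj_inf_of_max [Finite G] [Finite V] {A B D : Subgroup G} {M : ℕ}
    (hmax : ∀ X : Subgroup G, X ≤ A → jj ρ X ≤ M) (hB : B ≤ A) (hD : D ≤ A)
    (hfB : jj ρ B = M) (hfD : jj ρ D = M) :
    jj ρ (B ⊓ D) = M ∧
      fix ρ ((B ⊓ D : Subgroup G) : Set G) = fix ρ (B : Set G) ⊔ fix ρ (D : Set G) := by
  set b := Nat.card B with hb
  set d := Nat.card D with hd
  set s := Nat.card (B ⊔ D : Subgroup G) with hs
  set i := Nat.card (B ⊓ D : Subgroup G) with hi
  set cb := Nat.card (fix ρ (B : Set G)) with hcb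
  set cd := Nat.card (fix ρ (D : Set G)) with hcd
  set cs := Nat.card (fix ρ ((B ⊔ D : Subgroup G) : Set G)) with hcs
  set ci := Nat.card (fix ρ ((B ⊓ D : Subgroup G) : Set G)) with hci
  set j := Nat.card ↥(fix ρ (B : Set G) ⊔ fix ρ (D : Set G)) with hj
  set m := Nat.card ↥(fix ρ (B : Set G) ⊓ fix ρ (D : Set G)) with hm
  have e1 : b * d ≤ s * i := card_mul_card_le_sup_mul_inf B D
  have e2 : cb * cd ≤ j * m := (card_sup_mul_card_inf _ _).ge
  have e3 : m ≤ cs := card_le_of_le (fix_inf_le_fix_sup ρ B D)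
  have e4 : j ≤ ci := card_le_of_le (fix_sup_le_fix_inf ρ B D)
  have e5 : s * cs ≤ M := hmax _ (sup_le hB hD)
  have e6 : i * ci ≤ M := hmax _ (inf_le_left.trans hB)
  have e7 : b * cb = M := hfB
  have e8 : d * cd = M := hfD
  have hs0 : 0 < s := Nat.card_pos
  have hi0 : 0 < i := Nat.card_pos
  have hcs0 : 0 < cs := Nat.card_pos
  have hM0 : 0 < M := by rw [← e7]; exact Nat.mul_pos Nat.card_pos Nat.card_pos
  have c1 : M * M ≤ (s * i) * (j * m) := by
    calc M * M = (b * cb) * (d * cd) := by rw [e7, e8]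
      _ = (b * d) * (cb * cd) := by ring
      _ ≤ (s * i) * (j * m) := Nat.mul_le_mul e1 e2
  have c2 : (s * i) * (j * m) ≤ (s * i) * (j * cs) :=
    Nat.mul_le_mul_left _ (Nat.mul_le_mul_left _ e3)
  have c3 : (s * i) * (j * cs) ≤ (s * i) * (ci * cs) :=
    Nat.mul_le_mul_left _ (Nat.mul_le_mul_right _ e4)
  have c4 : (s * i) * (ci * cs) = (s * cs) * (i * ci) := by ring
  have c5 : (s * cs) * (i * ci) ≤ M * M := Nat.mul_le_mul e5 e6
  have hici : i * ci = M := by
    by_contra hne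
    have hlt : i * ci < M := lt_of_le_of_ne e6 hne
    have : (s * cs) * (i * ci) < M * M :=
      calc (s * cs) * (i * ci) < (s * cs) * M :=
            Nat.mul_lt_mul_of_pos_left hlt (Nat.mul_pos hs0 hcs0)
        _ ≤ M * M := Nat.mul_le_mul_right _ e5
    have h6 : M * M ≤ (s * cs) * (i * ci) := by
      calc M * M ≤ (s * i) * (j * m) := c1
        _ ≤ (s * i) * (j * cs) := c2
        _ ≤ (s * i) * (ci * cs) := c3
        _ = (s * cs) * (i * ci) := c4
    omega
  have hjci : ci ≤ j := by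
    have h7 : (s * i) * (ci * cs) ≤ (s * i) * (j * cs) := by
      calc (s * i) * (ci * cs) = (s * cs) * (i * ci) := c4
        _ ≤ M * M := c5
        _ ≤ (s * i) * (j * m) := c1
        _ ≤ (s * i) * (j * cs) := c2
    have h8 : ci * cs ≤ j * cs := Nat.le_of_mul_le_mul_left h7 (Nat.mul_pos hs0 hi0)
    exact Nat.le_of_mul_le_mul_right h8 hcs0
  refine ⟨hici, ?_⟩
  symm
  exact eq_of_le_of_card_le (fix_sup_le_fix_inf ρ B D) hjci

/-- `A_S = C_A([S, A])` for a set `S` of vectors -/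
def AS (A : Subgroup G) (S : Set V) : Subgroup G where
  carrier := {q | q ∈ A ∧ ∀ u ∈ S, ∀ b ∈ A, ρ q (ρ b u - u) = ρ b u - u}
  mul_mem' := by
    rintro x y ⟨hx, hx'⟩ ⟨hy, hy'⟩
    refine ⟨A.mul_mem hx hy, fun u hu b hb => ?_⟩
    rw [map_mul, Module.End.mul_apply, hy' u hu b hb, hx' u hu b hb]
  one_mem' := ⟨A.one_mem, fun u _ b _ => by rw [map_one, Module.End.one_apply]⟩
  inv_mem' := by
    rintro x ⟨hx, hx'⟩
    refine ⟨A.inv_mem hx, fun u hu b hb => ?_⟩
    have h : ρ x⁻¹ (ρ x (ρ b u - u)) = ρ b u - u := rho_inv_apply ρ x _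
    rwa [hx' u hu b hb] at h

theorem mem_AS (A : Subgroup G) (S : Set V) (q : G) :
    q ∈ AS ρ A S ↔ q ∈ A ∧ ∀ u ∈ S, ∀ b ∈ A, ρ q (ρ b u - u) = ρ b u - u := Iff.rfl

theorem AS_le (A : Subgroup G) (S : Set V) : AS ρ A S ≤ A := fun _ hq => hq.1

theorem AS_empty (A : Subgroup G) : AS ρ A ∅ = A := by
  ext q
  rw [mem_AS]
  exact ⟨fun h => h.1, fun h => ⟨h, fun u hu => absurd hu (Set.notMem_empty u)⟩⟩

theorem AS_insert (A : Subgroup G) (u : V) (S : Set V) :
    AS ρ A (insert u S) = AS ρ A {u} ⊓ AS ρ A S := by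
  ext q
  rw [Subgroup.mem_inf, mem_AS, mem_AS, mem_AS]
  constructor
  · rintro ⟨hq, h⟩
    refine ⟨⟨hq, fun u' hu' => ?_⟩, hq, fun u' hu' => h u' (Set.mem_insert_of_mem _ hu')⟩
    rw [Set.mem_singleton_iff] at hu'
    subst hu'
    exact h u' (Set.mem_insert _ _)
  · rintro ⟨⟨hq, h1⟩, _, h2⟩
    refine ⟨hq, fun u' hu' => ?_⟩
    rcases hu' with rfl | hu'
    · exact h1 u' (Set.mem_singleton _)
    · exact h2 u' hu'

/-- `[S, A]` as a subspace -/
def CS (A : Subgroup G) (S : Set V) : Submodule (ZMod p) V :=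
  Submodule.span (ZMod p) {w | ∃ u ∈ S, ∃ b ∈ A, w = ρ b u - u}

theorem CS_empty (A : Subgroup G) : CS ρ A ∅ = ⊥ := by
  unfold CS
  rw [Submodule.span_eq_bot]
  rintro w ⟨u, hu, _⟩
  exact absurd hu (Set.notMem_empty u)

theorem CS_insert (A : Subgroup G) (u : V) (S : Set V) :
    CS ρ A (insert u S) = CS ρ A {u} ⊔ CS ρ A S := by
  unfold CS
  rw [← Submodule.span_union]
  congr 1
  ext w
  constructor
  · rintro ⟨u', hu', b, hb, rfl⟩
    rcases hu' with rfl | hu'
    · exact Or.inl ⟨u', Set.mem_singleton _, b, hb, rfl⟩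
    · exact Or.inr ⟨u', hu', b, hb, rfl⟩
  · rintro (⟨u', hu', b, hb, rfl⟩ | ⟨u', hu', b, hb, rfl⟩)
    · rw [Set.mem_singleton_iff] at hu'
      subst hu'
      exact ⟨u', Set.mem_insert _ _, b, hb, rfl⟩
    · exact ⟨u', Set.mem_insert_of_mem _ hu', b, hb, rfl⟩

theorem CS_le_fix_AS (A : Subgroup G) (S : Set V) : CS ρ A S ≤ fix ρ (AS ρ A S : Set G) := by
  unfold CS
  rw [Submodule.span_le]
  rintro w ⟨u, hu, b, hb, rfl⟩ q hq
  exact hq.2 u hu b hb

/-- the counting step: `|A| |C_V(A)| ≤ |A_u| |[u, A] + C_V(A)|` -/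
theorem card_mul_le_cyclic [Finite G] [Finite V] (A : Subgroup G)
    (hcomm : ∀ a ∈ A, ∀ b ∈ A, a * b = b * a) (u : V) :
    Nat.card A * Nat.card (fix ρ (A : Set G)) ≤
      Nat.card (AS ρ A {u}) * Nat.card ↥(CS ρ A {u} ⊔ fix ρ (A : Set G)) := by
  classical
  rw [← Nat.card_prod, ← Nat.card_prod]
  -- the map `g (a, c) = (a - 1) u + c`
  let g : A × fix ρ (A : Set G) → V := fun x => ρ (x.1 : G) u - u + (x.2 : V)
  have hgmem : ∀ x, g x ∈ CS ρ A {u} ⊔ fix ρ (A : Set G) := by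
    intro x
    apply Submodule.add_mem_sup
    · exact Submodule.subset_span ⟨u, Set.mem_singleton _, x.1, x.1.2, rfl⟩
    · exact x.2.2
  -- a representative of each fibre
  let rep : V → G := fun w =>
    if h : ∃ x : A × fix ρ (A : Set G), g x = w then ((Classical.choose h).1 : G) else 1
  have hrep : ∀ x : A × fix ρ (A : Set G), ∃ y : A × fix ρ (A : Set G),
      g y = g x ∧ rep (g x) = (y.1 : G) := by
    intro x
    have h : ∃ y : A × fix ρ (A : Set G), g y = g x := ⟨x, rfl⟩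
    refine ⟨Classical.choose h, Classical.choose_spec h, ?_⟩
    show (if h : ∃ y : A × fix ρ (A : Set G), g y = g x then ((Classical.choose h).1 : G) else 1) = _
    rw [dif_pos h]
  have hkey : ∀ x : A × fix ρ (A : Set G), (rep (g x))⁻¹ * (x.1 : G) ∈ AS ρ A {u} := by
    intro x
    obtain ⟨y, hy, hr⟩ := hrep x
    rw [hr]
    set a : G := (x.1 : G) with ha
    set a' : G := (y.1 : G) with ha'
    have haA : a ∈ A := x.1.2
    have ha'A : a' ∈ A := y.1.2
    have hdA : a'⁻¹ * a ∈ A := A.mul_mem (A.inv_mem ha'A) haA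
    -- `ρ a u - ρ a' u ∈ C_V(A)`
    have h1 : ρ a u - ρ a' u = (y.2 : V) - (x.2 : V) := by
      have h : ρ a' u - u + (y.2 : V) = ρ a u - u + (x.2 : V) := hy
      have h' : ρ a u - ρ a' u - ((y.2 : V) - (x.2 : V)) = 0 := by
        have h2 : ρ a u - ρ a' u - ((y.2 : V) - (x.2 : V)) =
            (ρ a u - u + (x.2 : V)) - (ρ a' u - u + (y.2 : V)) := by abel
        rw [h2, h, sub_self]
      exact sub_eq_zero.1 h'
    have h2 : ρ a u - ρ a' u ∈ fix ρ (A : Set G) := by
      rw [h1]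
      exact Submodule.sub_mem _ y.2.2 x.2.2
    -- `(d - 1) u ∈ C_V(A)` for `d = a'⁻¹ a`
    have h3 : ρ (a'⁻¹ * a) u - u = ρ a u - ρ a' u := by
      have h4 : ρ (a'⁻¹ * a) u - u = ρ a'⁻¹ (ρ a u - ρ a' u) := by
        rw [map_sub, rho_inv_apply, map_mul, Module.End.mul_apply]
      rw [h4]
      exact h2 a'⁻¹ (A.inv_mem ha'A)
    refine ⟨hdA, fun u' hu' b hb => ?_⟩
    rw [Set.mem_singleton_iff] at hu'
    subst hu'
    have hcd : ρ (a'⁻¹ * a) (ρ b u') = ρ b (ρ (a'⁻¹ * a) u') := by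
      rw [← Module.End.mul_apply, ← Module.End.mul_apply, ← map_mul, ← map_mul, hcomm _ hdA _ hb]
    have h5 : ρ b (ρ (a'⁻¹ * a) u' - u') = ρ (a'⁻¹ * a) u' - u' := by
      rw [h3]
      exact h2 b hb
    have h6 : ρ (a'⁻¹ * a) (ρ b u' - u') - (ρ b u' - u') = 0 := by
      have h7 : ρ (a'⁻¹ * a) (ρ b u' - u') - (ρ b u' - u') =
          ρ b (ρ (a'⁻¹ * a) u' - u') - (ρ (a'⁻¹ * a) u' - u') := by
        rw [map_sub, map_sub, hcd]
        abel
      rw [h7, h5, sub_self]
    exact sub_eq_zero.1 h6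
  let φ : A × fix ρ (A : Set G) → AS ρ A {u} × ↥(CS ρ A {u} ⊔ fix ρ (A : Set G)) := fun x =>
    (⟨(rep (g x))⁻¹ * (x.1 : G), hkey x⟩, ⟨g x, hgmem x⟩)
  apply Nat.card_le_card_of_injective φ
  intro x y hxy
  have h1 : g x = g y := congrArg (fun z => ((z.2 : ↥(CS ρ A {u} ⊔ fix ρ (A : Set G))) : V)) hxy
  have h2 : (rep (g x))⁻¹ * (x.1 : G) = (rep (g y))⁻¹ * (y.1 : G) :=
    congrArg (fun z => ((z.1 : AS ρ A {u}) : G)) hxy
  rw [h1] at h2
  have h3 : (x.1 : G) = (y.1 : G) := mul_left_cancel h2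
  have h4 : (x.2 : V) = (y.2 : V) := by
    have h5 : ρ (x.1 : G) u - u + (x.2 : V) = ρ (y.1 : G) u - u + (y.2 : V) := h1
    rw [h3] at h5
    exact add_left_cancel h5
  exact Prod.ext (Subtype.ext h3) (Subtype.ext h4)

/-- the cyclic case of the replacement theorem -/
theorem cyclic [Finite G] [Finite V] (A : Subgroup G)
    (hcomm : ∀ a ∈ A, ∀ b ∈ A, a * b = b * a) (hoff : BestOffender ρ A) (u : V) :
    jj ρ (AS ρ A {u}) = jj ρ A ∧
      fix ρ (AS ρ A {u} : Set G) = CS ρ A {u} ⊔ fix ρ (A : Set G) := by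
  have hle : CS ρ A {u} ⊔ fix ρ (A : Set G) ≤ fix ρ (AS ρ A {u} : Set G) :=
    sup_le (CS_le_fix_AS ρ A {u}) (fix_antitone ρ (AS_le ρ A {u}))
  have h1 := card_mul_le_cyclic ρ A hcomm u
  have h2 : Nat.card ↥(CS ρ A {u} ⊔ fix ρ (A : Set G)) ≤ Nat.card (fix ρ (AS ρ A {u} : Set G)) :=
    card_le_of_le hle
  have h3 : jj ρ (AS ρ A {u}) ≤ jj ρ A := hoff _ (AS_le ρ A {u})
  unfold jj at h3 ⊢
  have hpos : 0 < Nat.card (AS ρ A {u}) := Nat.card_pos
  have h4 : Nat.card (AS ρ A {u}) * Nat.card ↥(CS ρ A {u} ⊔ fix ρ (A : Set G)) ≤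
      Nat.card (AS ρ A {u}) * Nat.card (fix ρ (AS ρ A {u} : Set G)) := Nat.mul_le_mul_left _ h2
  refine ⟨le_antisymm h3 (h1.trans h4), ?_⟩
  symm
  apply eq_of_le_of_card_le hle
  have h5 : Nat.card (AS ρ A {u}) * Nat.card (fix ρ (AS ρ A {u} : Set G)) ≤
      Nat.card (AS ρ A {u}) * Nat.card ↥(CS ρ A {u} ⊔ fix ρ (A : Set G)) := h3.trans h1
  exact Nat.le_of_mul_le_mul_left h5 hpos

/-- the replacement theorem for a finite set of vectors -/
theorem replacement_finite [Finite G] [Finite V] (A : Subgroup G)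
    (hcomm : ∀ a ∈ A, ∀ b ∈ A, a * b = b * a) (hoff : BestOffender ρ A) (S : Set V) (hS : S.Finite) :
    jj ρ (AS ρ A S) = jj ρ A ∧ fix ρ (AS ρ A S : Set G) = CS ρ A S ⊔ fix ρ (A : Set G) := by
  induction S, hS using Set.Finite.induction_on with
  | empty =>
    rw [AS_empty, CS_empty, bot_sup_eq]
    exact ⟨rfl, rfl⟩
  | @insert u S _ _ ih =>
    obtain ⟨ih1, ih2⟩ := ih
    obtain ⟨c1, c2⟩ := cyclic ρ A hcomm hoff u
    obtain ⟨k1, k2⟩ := jj_inf_of_max ρ (A := A) (M := jj ρ A) hoff (AS_le ρ A {u}) (AS_le ρ A S) c1 ih1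
    rw [AS_insert, CS_insert]
    refine ⟨k1, ?_⟩
    rw [k2, c2, ih2]
    apply le_antisymm
    · refine sup_le (sup_le ?_ ?_) (sup_le ?_ ?_)
      · exact le_sup_left.trans le_sup_left
      · exact le_sup_right
      · exact le_sup_right.trans le_sup_left
      · exact le_sup_right
    · refine sup_le (sup_le ?_ ?_) ?_
      · exact le_sup_left.trans le_sup_left
      · exact le_sup_left.trans le_sup_right
      · exact le_sup_right.trans le_sup_left

/-- `V = [V, A] + C_V(A)` for a `p`-group `A` forces `C_V(A) = V` (fixed point on the dual space) -/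
theorem fix_eq_top_of_sup_eq_top [Finite V] (A : Subgroup G) (hA : IsPGroup p A)
    (h : CS ρ A Set.univ ⊔ fix ρ (A : Set G) = ⊤) : fix ρ (A : Set G) = ⊤ := by
  by_contra hne
  have hlt : fix ρ (A : Set G) < ⊤ := lt_top_iff_ne_top.2 hne
  obtain ⟨f, hf0, hfk⟩ := Submodule.exists_le_ker_of_lt_top _ hlt
  have hfin : Finite (Module.Dual (ZMod p) V) :=
    Finite.of_injective (fun f : Module.Dual (ZMod p) V => (f : V → ZMod p)) DFunLike.coe_injective
  let W : Submodule (ZMod p) (Module.Dual (ZMod p) V) := (fix ρ (A : Set G)).dualAnnihilator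
  have hfW : f ∈ W := by
    rw [Submodule.mem_dualAnnihilator]
    intro w hw
    exact hfk hw
  have hW : W ≠ ⊥ := by
    intro hbot
    rw [hbot, Submodule.mem_bot] at hfW
    exact hf0 hfW
  have hinv : ∀ d ∈ A, ∀ φ ∈ W, (Representation.dual ρ) d φ ∈ W := by
    intro d hd φ hφ
    rw [Submodule.mem_dualAnnihilator] at hφ ⊢
    intro w hw
    show φ (ρ d⁻¹ w) = 0
    rw [hw d⁻¹ (A.inv_mem hd)]
    exact hφ w hw
  obtain ⟨φ, hφW, hφ0, hφfix⟩ :=
    Cfsg.Agent.Lib.Helper41.PGV.H25.exists_fixed_ne_zero (Representation.dual ρ) A hA W hW hinv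
  apply hφ0
  have hker : CS ρ A Set.univ ⊔ fix ρ (A : Set G) ≤ LinearMap.ker φ := by
    refine sup_le ?_ ?_
    · unfold CS
      rw [Submodule.span_le]
      rintro w ⟨u, _, b, hb, rfl⟩
      show φ (ρ b u - u) = 0
      have h1 : (Representation.dual ρ) b⁻¹ φ = φ := hφfix b⁻¹ (A.inv_mem hb)
      have h2 : φ (ρ b⁻¹⁻¹ u) = φ u := by
        have := congrArg (fun ψ : Module.Dual (ZMod p) V => ψ u) h1
        exact this
      rw [inv_inv] at h2
      rw [map_sub, h2, sub_self]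
    · intro w hw
      rw [Submodule.mem_dualAnnihilator] at hφW
      exact hφW w hw
  rw [h] at hker
  apply LinearMap.ext
  intro v
  exact hker (Submodule.mem_top : v ∈ ⊤)

end general

end Cfsg.Agent.Lib.Helper66.PgvT4

namespace Cfsg.Agent.Lib.Helper66.PGV

open Cfsg Cfsg.Agent.Lib.Helper41.PGV Cfsg.Agent.Lib.Helper66.PgvT4

variable {p : ℕ} [Fact p.Prime] {G V : Type v} [Group G] [Finite G] [AddCommGroup V] [Finite V] [Module (ZMod p) V]
  {ρ : Representation (ZMod p) G V} {A : Subgroup G}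

/-- **[T4-REP]** (Timmesfeld replacement, S0599 with `U = V`): `A* = {q ∈ A | QuadOn ρ A q}` is a subgroup, non-trivial, and a best offender. -/
theorem timmesfeld_rep (hinj : Function.Injective ρ) (hel : IsElementaryAbelian p A) (hoff : BestOffender ρ A) (hA : A ≠ ⊥) :
    ∃ Q : Subgroup G, (∀ q, q ∈ Q ↔ q ∈ A ∧ QuadOn ρ A q) ∧ Q ≠ ⊥ ∧ BestOffender ρ Q := by
  obtain ⟨hc, hpw⟩ := hel
  have hcomm : ∀ a ∈ A, ∀ b ∈ A, a * b = b * a := by
    intro a ha b hb
    exact congrArg Subtype.val (hc.is_comm.comm ⟨a, ha⟩ ⟨b, hb⟩)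
  have hpA : IsPGroup p A := by
    intro g
    refine ⟨1, ?_⟩
    apply Subtype.ext
    rw [pow_one, Subgroup.coe_pow, Subgroup.coe_one]
    exact hpw g g.2
  obtain ⟨r1, r2⟩ := replacement_finite ρ A hcomm hoff Set.univ (Set.toFinite _)
  refine ⟨AS ρ A Set.univ, ?_, ?_, ?_⟩
  · intro q
    rw [mem_AS]
    constructor
    · rintro ⟨hq, h⟩
      refine ⟨hq, fun b hb => ?_⟩
      apply LinearMap.ext
      intro u
      have := h u (Set.mem_univ u) b hb
      simp only [Module.End.mul_apply, LinearMap.sub_apply, Module.End.one_apply, LinearMap.zero_apply]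
      rw [this, sub_self]
    · rintro ⟨hq, h⟩
      refine ⟨hq, fun u _ b hb => ?_⟩
      have := congrArg (fun f : Module.End (ZMod p) V => f u) (h b hb)
      simp only [Module.End.mul_apply, LinearMap.sub_apply, Module.End.one_apply, LinearMap.zero_apply] at this
      exact sub_eq_zero.1 this
  · intro hbot
    rw [hbot] at r2
    have htop : fix ρ ((⊥ : Subgroup G) : Set G) = ⊤ := by
      rw [eq_top_iff]
      intro v _ x hx
      have hx1 : x = 1 := Subgroup.mem_bot.1 hx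
      rw [hx1, map_one, Module.End.one_apply]
    rw [htop] at r2
    have h1 := fix_eq_top_of_sup_eq_top ρ A hpA r2.symm
    apply hA
    rw [eq_bot_iff]
    intro a ha
    rw [Subgroup.mem_bot]
    apply hinj
    rw [map_one]
    apply LinearMap.ext
    intro v
    have hv : v ∈ fix ρ (A : Set G) := by rw [h1]; exact Submodule.mem_top
    rw [Module.End.one_apply]
    exact hv a ha
  · intro B hB
    rw [r1]
    exact hoff B (hB.trans (AS_le ρ A Set.univ))

end Cfsg.Agent.Lib.Helper66.PGV
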