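import Mathlib
import Cfsg.Agent.Lib.Helper75.QBaer.Defs

/-!
# S4125-[C3], part a (helper66): commuting conjugates of an involution of `Z(S)` are equal

Core case of helper75's "Theorem X" (`CoreHyp q X V`): `z` an involution of the centre of a Sylow 2-subgroup `S`.
(i) no nontrivial vector is inverted by one conjugate of `z` and fixed by another; (ii) two commuting conjugates
of `z` act in the same way on `V`, hence are equal.
-/

set_option autoImplicit false
set_option linter.unusedSectionVars false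

namespace Cfsg.Agent.Lib.Helper66.QBaer

open Cfsg.Agent.Lib.Helper75.QBaer

variable {q : ℕ} {X V : Type*} [Group X] [Finite X] [CommGroup V] [Finite V] [MulDistribMulAction X V]

omit [Finite X] [Finite V] in
/-- `V` has odd order: no involutions -/
theorem eq_one_of_mul_self_eq_one (h : CoreHyp q X V) (v : V) (hv : v * v = 1) : v = 1 := by
  obtain ⟨k, hk⟩ := h.hV v
  have h1 : orderOf v ∣ q ^ k := orderOf_dvd_of_pow_eq_one hk
  have h2 : orderOf v ∣ 2 := orderOf_dvd_of_pow_eq_one (by rw [pow_two]; exact hv)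
  have hq2 : Nat.Coprime 2 q := by
    rw [Nat.coprime_primes Nat.prime_two h.hq]
    exact fun h' => h.hq2 h'.symm
  have h3 : Nat.Coprime 2 (q ^ k) := Nat.Coprime.pow_right k hq2
  have h4 := Nat.dvd_gcd h2 h1
  rw [h3.gcd_eq_one] at h4
  exact orderOf_eq_one_iff.mp (Nat.dvd_one.mp h4)

omit [Finite X] [Finite V] in
/-- every element of `V` is a square -/
theorem exists_mul_self_eq (h : CoreHyp q X V) (v : V) : ∃ w : V, w * w = v := by
  obtain ⟨k, hk⟩ := h.hV v
  have hodd : Odd (q ^ k) := (h.hq.odd_of_ne_two h.hq2).pow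
  obtain ⟨m, hm⟩ := hodd
  refine ⟨v ^ (m + 1), ?_⟩
  rw [← pow_add]
  have : m + 1 + (m + 1) = q ^ k + 1 := by omega
  rw [this, pow_succ, hk, one_mul]

/-- (i), basic form: a vector inverted by `z` and fixed by a conjugate of `z` is trivial -/
theorem eq_one_of_inv_of_fixed (h : CoreHyp q X V) (S : Sylow 2 X) (z : X)
    (hzZ : ∀ s ∈ S, s * z = z * s) (g : X) (v : V) (h1 : z • v = v⁻¹)
    (h2 : (g⁻¹ * z * g) • v = v) : v = 1 := by
  obtain ⟨s, hs, k, hk, rfl⟩ := exists_mul_sylow_stab h S v g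
  have hkv : k • v = v := MulAction.mem_stabilizer_iff.mp hk
  have hsz : s⁻¹ * z * s = z := by
    rw [mul_assoc, ← hzZ s hs, ← mul_assoc, inv_mul_cancel, one_mul]
  have h3 : (s * k)⁻¹ * z * (s * k) = k⁻¹ * z * k := by
    rw [mul_inv_rev]
    calc k⁻¹ * s⁻¹ * z * (s * k) = k⁻¹ * (s⁻¹ * z * s) * k := by group
      _ = k⁻¹ * z * k := by rw [hsz]
  rw [h3, mul_smul, mul_smul, hkv] at h2
  -- h2 : k⁻¹ • z • v = v
  have h4 : z • v = v := by
    have := congrArg (fun w => k • w) h2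
    simp only [smul_inv_smul] at this
    rw [this, hkv]
  rw [h1] at h4
  apply eq_one_of_mul_self_eq_one h
  calc v * v = v * v⁻¹ := by rw [h4]
    _ = 1 := mul_inv_cancel v

/-- (i): a vector inverted by one conjugate of `z` and fixed by another is trivial -/
theorem eq_one_of_conj_inv_of_conj_fixed (h : CoreHyp q X V) (S : Sylow 2 X) (z : X)
    (hzZ : ∀ s ∈ S, s * z = z * s) (a b : X) (v : V) (h1 : (a * z * a⁻¹) • v = v⁻¹)
    (h2 : (b * z * b⁻¹) • v = v) : v = 1 := by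
  have h3 : z • (a⁻¹ • v) = (a⁻¹ • v)⁻¹ := by
    rw [← smul_inv', ← h1, ← mul_smul, ← mul_smul]
    congr 1
    group
  have h4 : ((b⁻¹ * a)⁻¹ * z * (b⁻¹ * a)) • (a⁻¹ • v) = a⁻¹ • v := by
    conv_rhs => rw [← h2]
    rw [← mul_smul, ← mul_smul]
    congr 1
    group
  have h5 := eq_one_of_inv_of_fixed h S z hzZ (b⁻¹ * a) (a⁻¹ • v) h3 h4
  have h6 : v = a • (a⁻¹ • v) := (smul_inv_smul a v).symm
  rw [h6, h5, smul_one]

/-- (ii): two commuting conjugates of `z` act in the same way on `V` -/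
theorem conj_smul_eq_of_commute (h : CoreHyp q X V) (S : Sylow 2 X) (z : X) (hz2 : z * z = 1)
    (hzZ : ∀ s ∈ S, s * z = z * s) (a b : X)
    (hc : (a * z * a⁻¹) * (b * z * b⁻¹) = (b * z * b⁻¹) * (a * z * a⁻¹)) (v : V) :
    (a * z * a⁻¹) • v = (b * z * b⁻¹) • v := by
  set z₁ := a * z * a⁻¹ with hz₁
  set z₂ := b * z * b⁻¹ with hz₂
  have hz₁2 : z₁ * z₁ = 1 := by
    rw [hz₁]
    calc a * z * a⁻¹ * (a * z * a⁻¹) = a * (z * z) * a⁻¹ := by group
      _ = 1 := by rw [hz2]; group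
  have hz₂2 : z₂ * z₂ = 1 := by
    rw [hz₂]
    calc b * z * b⁻¹ * (b * z * b⁻¹) = b * (z * z) * b⁻¹ := by group
      _ = 1 := by rw [hz2]; group
  have i1 : ∀ w : V, z₁ • z₁ • w = w := fun w => by rw [← mul_smul, hz₁2, one_smul]
  have i2 : ∀ w : V, z₂ • z₂ • w = w := fun w => by rw [← mul_smul, hz₂2, one_smul]
  have c12 : ∀ w : V, z₁ • z₂ • w = z₂ • z₁ • w := fun w => by
    rw [← mul_smul, ← mul_smul, hc]
  have star12 : ∀ w : V, z₁ • w = w⁻¹ → z₂ • w = w → w = 1 := fun w =>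
    eq_one_of_conj_inv_of_conj_fixed h S z hzZ a b w
  have star21 : ∀ w : V, z₂ • w = w⁻¹ → z₁ • w = w → w = 1 := fun w =>
    eq_one_of_conj_inv_of_conj_fixed h S z hzZ b a w
  -- `z₂` fixes `V₊(z₁)`
  have fixp : ∀ u : V, z₁ • u = u → z₂ • u = u := by
    intro u hu
    have hw := star21 (u * (z₂ • u)⁻¹)
      (by rw [smul_mul', smul_inv', i2, mul_inv_rev, inv_inv, mul_comm])
      (by rw [smul_mul', smul_inv', c12, hu])
    have : u = z₂ • u := by
      have := mul_inv_eq_one.mp hw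
      exact this
    exact this.symm
  -- `z₂` inverts `V₋(z₁)`
  have invm : ∀ u : V, z₁ • u = u⁻¹ → z₂ • u = u⁻¹ := by
    intro u hu
    have hw := star12 (u * z₂ • u)
      (by rw [smul_mul', c12, hu, smul_inv', mul_inv_rev, mul_comm])
      (by rw [smul_mul', i2, mul_comm])
    exact (eq_inv_of_mul_eq_one_right hw)
  -- squares
  have hsq : ∀ w : V, z₁ • (w * w) = z₂ • (w * w) := by
    intro w
    have e : w * w = (w * z₁ • w) * (w * (z₁ • w)⁻¹) := by
      rw [mul_mul_mul_comm, mul_inv_cancel, mul_one]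
    have hp : z₁ • (w * z₁ • w) = w * z₁ • w := by rw [smul_mul', i1, mul_comm]
    have hm : z₁ • (w * (z₁ • w)⁻¹) = (w * (z₁ • w)⁻¹)⁻¹ := by
      rw [smul_mul', smul_inv', i1, mul_inv_rev, inv_inv, mul_comm]
    rw [e, smul_mul', smul_mul' z₂, hp, hm, fixp _ hp, invm _ hm]
  obtain ⟨w, rfl⟩ := exists_mul_self_eq h v
  exact hsq w

end Cfsg.Agent.Lib.Helper66.QBaer
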