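import Mathlib
import Cfsg.Agent.Lib.Helper75.QBaer.Defs
import Cfsg.Agent.Lib.Helper66.QBaerC3a
import Cfsg.Agent.S0215

/-!
# S4125-[C3] (helper66): involutions of `Z(S)` are central (core case of helper75's Theorem X)

Commuting conjugates of `z` are equal (`QBaerC3a`), so `z` is isolated in `S`; Glauberman's `Z*`-theorem
(`Cfsg.Agent.S0215.result`) gives a normal subgroup `N` of odd order with `[z, X] ≤ N`, and `N = 1` by [C1].
-/

set_option autoImplicit false

namespace Cfsg.Agent.Lib.Helper66.QBaer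

open Cfsg.Agent.Lib.Helper75.QBaer

variable {q : ℕ} {X V : Type*} [Group X] [Finite X] [CommGroup V] [Finite V] [MulDistribMulAction X V]

theorem mem_center_of_mem_center_sylow (h : CoreHyp q X V) (S : Sylow 2 X) (z : X)
    (hz : orderOf z = 2) (hzS : z ∈ S) (hzZ : ∀ s ∈ S, s * z = z * s) :
    z ∈ Subgroup.center X := by
  have hz2 : z * z = 1 := by
    rw [← pow_two, ← hz, pow_orderOf_eq_one]
  have hiso : ∀ g : X, g * z * g⁻¹ ∈ S → g * z * g⁻¹ = z := by
    intro g hg
    have hc : (g * z * g⁻¹) * (1 * z * 1⁻¹) = (1 * z * 1⁻¹) * (g * z * g⁻¹) := by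
      rw [one_mul, inv_one, mul_one]
      exact hzZ _ hg
    have hact : ∀ v : V, (g * z * g⁻¹) • v = z • v := by
      intro v
      have := conj_smul_eq_of_commute h S z hz2 hzZ g 1 hc v
      rwa [one_mul, inv_one, mul_one] at this
    have h1 : z⁻¹ * (g * z * g⁻¹) = 1 := by
      apply h.faithful
      intro v
      rw [mul_smul, hact v, inv_smul_smul]
    exact (inv_mul_eq_one.mp h1).symm
  obtain ⟨N, hN, hodd, hcomm⟩ := Cfsg.Agent.S0215.result S z hz hzS hiso
  have := hN
  have hbot : N = ⊥ := odd_normal_eq_bot h N hodd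
  rw [Subgroup.mem_center_iff]
  intro g
  have h1 := hcomm g
  rw [hbot, Subgroup.mem_bot] at h1
  -- h1 : z * g * z⁻¹ * g⁻¹ = 1
  have h2 : z * g = g * z := by
    have h3 : z * g * z⁻¹ = g := by
      rw [mul_inv_eq_one] at h1
      exact h1
    calc z * g = z * g * z⁻¹ * z := by group
      _ = g * z := by rw [h3]
  exact h2.symm

end Cfsg.Agent.Lib.Helper66.QBaer
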