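import Mathlib
import Cfsg.Agent.Lib.Helper20.ReeM.Defs

/-!
# REEM-[P11] (helper66): the pairing statement with weights `(1, 1)`

A biadditive `f : F → F → A` with `f (a t) (a u) = f t u` for a generator `a` of `Fˣ`, `|F| ≥ 27`, char 3, is trivial.
-/

set_option autoImplicit false

namespace Cfsg.Agent.Lib.Helper66.ReeM

open Cfsg.Agent.Lib.Helper20.ReeM

variable {F : Type*} [Field F] [Fintype F] [CharP F 3] {m : ℕ} {A : Type*} [CommGroup A]

theorem pair11 (hm : 1 ≤ m) (hF : Fintype.card F = 3 ^ (2 * m + 1)) (a : F)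
    (hgen : ∀ u : F, u ≠ 0 → ∃ j : ℕ, a ^ j = u) : PairStmt F A a 1 1 := by
  classical
  intro f hf hinv t u
  obtain ⟨hadd1, hadd2⟩ := hf
  have hpow : ∀ k : ℕ, ∀ t u, f (a ^ k * t) (a ^ k * u) = f t u := by
    intro k
    induction k with
    | zero => intro t u; simp
    | succ k ih =>
      intro t u
      have h1 := hinv (a ^ k * t) (a ^ k * u)
      rw [pow_one] at h1
      rw [pow_succ, mul_comm (a ^ k) a, mul_assoc, mul_assoc, h1, ih]
  have hw : ∀ w : F, w ≠ 0 → ∀ t u, f (w * t) (w * u) = f t u := by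
    intro w hw t u
    obtain ⟨j, rfl⟩ := hgen w hw
    exact hpow j t u
  have h0l : ∀ u, f 0 u = 1 := by
    intro u
    have h1 := hadd1 0 0 u
    rw [add_zero] at h1
    exact mul_left_cancel (a := f 0 u) (by rw [mul_one]; exact h1.symm)
  have hℓ0 : f 1 0 = 1 := by
    have h1 := hadd2 1 0 0
    rw [add_zero] at h1
    exact mul_left_cancel (a := f 1 0) (by rw [mul_one]; exact h1.symm)
  have hneg : ∀ s : F, f 1 (-s) = (f 1 s)⁻¹ := by
    intro s
    have h1 := hadd2 1 s (-s)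
    rw [add_neg_cancel, hℓ0] at h1
    exact eq_inv_of_mul_eq_one_right h1.symm
  have hft : ∀ t : F, t ≠ 0 → ∀ u, f t u = f 1 (u / t) := by
    intro t ht u
    have h1 := hw t⁻¹ (inv_ne_zero ht) t u
    rw [inv_mul_cancel₀ ht, ← div_eq_inv_mul] at h1
    exact h1.symm
  have h3 : (3 : F) = 0 := by
    have h := CharP.cast_eq_zero F 3
    exact_mod_cast h
  obtain ⟨x, hx0, hx1, hxm1⟩ : ∃ x : F, x ≠ 0 ∧ x ≠ 1 ∧ x ≠ -1 := by
    by_contra hcon
    push Not at hcon
    have hsub : (Finset.univ : Finset F) ⊆ {0, 1, -1} := by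
      intro x _
      by_cases h0 : x = 0
      · simp [h0]
      by_cases h1 : x = 1
      · simp [h1]
      · have h2 := hcon x h0 h1
        simp [h2]
    have hcard := Finset.card_le_card hsub
    rw [Finset.card_univ, hF] at hcard
    have h27 : 27 ≤ 3 ^ (2 * m + 1) := by
      calc 27 = 3 ^ 3 := by norm_num
        _ ≤ 3 ^ (2 * m + 1) := Nat.pow_le_pow_right (by norm_num) (by omega)
    have hle : ({0, 1, -1} : Finset F).card ≤ 3 := Finset.card_le_three
    omega
  have hx1' : x + 1 ≠ 0 := fun h => hxm1 (eq_neg_of_add_eq_zero_left h)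
  have hDne : (x + 1)⁻¹ - x⁻¹ - 1 ≠ 0 := by
    intro hD0
    have h1 : ((x + 1)⁻¹ - x⁻¹ - 1) * (x * (x + 1)) = -(x ^ 2 + x + 1) := by
      field_simp
      ring
    rw [hD0, zero_mul] at h1
    have h2 : (x - 1) ^ 2 = 0 := by linear_combination h1 - x * h3
    exact hx1 (sub_eq_zero.mp ((pow_eq_zero_iff two_ne_zero).mp h2))
  have hℓ : ∀ s : F, f 1 s = 1 := by
    intro s
    have key : ∀ u : F, f 1 (u * ((x + 1)⁻¹ - x⁻¹ - 1)) = 1 := by
      intro u
      have e1 := hadd1 x 1 u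
      rw [hft (x + 1) hx1' u, hft x hx0 u] at e1
      have e2 : u * ((x + 1)⁻¹ - x⁻¹ - 1) = u / (x + 1) + (-(u / x) + -u) := by
        field_simp
        ring
      rw [e2, hadd2, hadd2, hneg, hneg, e1, mul_mul_mul_comm, mul_inv_cancel, mul_inv_cancel, one_mul]
    have h1 := key (s / ((x + 1)⁻¹ - x⁻¹ - 1))
    rwa [div_mul_cancel₀ s hDne] at h1
  by_cases ht : t = 0
  · rw [ht]; exact h0l u
  · rw [hft t ht u]; exact hℓ _

end Cfsg.Agent.Lib.Helper66.ReeM
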