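import Mathlib

/-!
# REEW2-[W2-ARITH] (helper66): the arithmetic of Ward's count

`∑_{d ∈ Δ} (1/e_d)(1 - 1/d) = q(q-2)/(3N)`, `N = q² - q + 1 = ∏ Δ`, `d ≥ 7`, `e_d ∈ {1,2,3,6}` force
`Δ = {q - r + 1, q + r + 1}` (`r² = 3q`) and `e = 6`.
-/

set_option autoImplicit false

namespace Cfsg.Agent.Lib.Helper66.ReeW2

set_option maxHeartbeats 3200000 in
theorem tori_arith_core (q r : ℕ) (hq : 27 ≤ q) (hr : r * r = 3 * q) (Δ : Finset ℕ) (e n : ℕ → ℕ)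
    (hd7 : ∀ d ∈ Δ, 7 ≤ d)
    (hprod : ∏ d ∈ Δ, d = q ^ 2 - q + 1)
    (he : ∀ d ∈ Δ, e d = 1 ∨ e d = 2 ∨ e d = 3 ∨ e d = 6)
    (hn : ∀ d ∈ Δ, n d * (e d * d) = q ^ 3 * (q - 1) * (q ^ 3 + 1))
    (hsum : 3 * ∑ d ∈ Δ, n d * (d - 1) = q ^ 4 * (q ^ 2 - 1) * (q - 2)) :
    Δ = {q - r + 1, q + r + 1} ∧ e (q - r + 1) = 6 ∧ e (q + r + 1) = 6 := by
  classical
  have hq1 : 1 ≤ q := by omega
  have hq2 : 2 ≤ q := by omega
  have hqsq : 1 ≤ q ^ 2 := Nat.one_le_pow _ _ (by omega)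
  have hqle : q ≤ q ^ 2 := by nlinarith
  have hrq : r ≤ q := by
    by_contra h
    push Not at h
    nlinarith
  have hQ27 : (27 : ℚ) ≤ (q : ℚ) := by exact_mod_cast hq
  have hNQpos : (0 : ℚ) < (q : ℚ) ^ 2 - (q : ℚ) + 1 := by nlinarith
  have hprodQ : ((∏ d ∈ Δ, d : ℕ) : ℚ) = (q : ℚ) ^ 2 - (q : ℚ) + 1 := by
    rw [hprod, Nat.cast_add, Nat.cast_sub hqle]
    push_cast
    ring
  have hterm : ∀ d ∈ Δ, (n d : ℚ) * ((d : ℚ) - 1)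
      = ((q : ℚ) ^ 3 * ((q : ℚ) - 1) * ((q : ℚ) ^ 3 + 1)) * ((1 / (e d : ℚ)) * (1 - 1 / (d : ℚ))) := by
    intro d hd
    have hd7' := hd7 d hd
    have hd0 : (d : ℚ) ≠ 0 := by
      have : (0 : ℚ) < (d : ℚ) := by exact_mod_cast (by omega : 0 < d)
      exact this.ne'
    have he0 : (e d : ℚ) ≠ 0 := by
      rcases he d hd with h | h | h | h <;> rw [h] <;> norm_num
    have h := congrArg (Nat.cast : ℕ → ℚ) (hn d hd)
    rw [Nat.cast_mul, Nat.cast_mul, Nat.cast_mul, Nat.cast_mul, Nat.cast_sub hq1] at h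
    push_cast at h
    rw [← h]
    field_simp
  have hsumQ : 3 * ∑ d ∈ Δ, (n d : ℚ) * ((d : ℚ) - 1)
      = (q : ℚ) ^ 4 * ((q : ℚ) ^ 2 - 1) * ((q : ℚ) - 2) := by
    have h := congrArg (Nat.cast : ℕ → ℚ) hsum
    rw [Nat.cast_mul, Nat.cast_mul, Nat.cast_mul, Nat.cast_sub hqsq, Nat.cast_sub hq2, Nat.cast_sum] at h
    push_cast at h
    rw [← h]
    congr 1
    apply Finset.sum_congr rfl
    intro d hd
    have hd7' := hd7 d hd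
    rw [Nat.cast_sub (by omega : 1 ≤ d)]
    push_cast
    ring
  -- the sum of the `t d`
  have hS : (∑ d ∈ Δ, (1 / (e d : ℚ)) * (1 - 1 / (d : ℚ))) * (3 * ((q : ℚ) ^ 2 - (q : ℚ) + 1))
      = (q : ℚ) * ((q : ℚ) - 2) := by
    have h1 : ∑ d ∈ Δ, (n d : ℚ) * ((d : ℚ) - 1)
        = ((q : ℚ) ^ 3 * ((q : ℚ) - 1) * ((q : ℚ) ^ 3 + 1)) *
          ∑ d ∈ Δ, (1 / (e d : ℚ)) * (1 - 1 / (d : ℚ)) := by
      rw [Finset.mul_sum]
      exact Finset.sum_congr rfl hterm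
    rw [h1] at hsumQ
    have hne : (q : ℚ) ^ 3 * ((q : ℚ) - 1) * ((q : ℚ) + 1) ≠ 0 := by
      have h1 : (0 : ℚ) < (q : ℚ) := by linarith
      have h2 : (0 : ℚ) < (q : ℚ) - 1 := by linarith
      positivity
    apply mul_left_cancel₀ hne
    linear_combination hsumQ
  set S : ℚ := ∑ d ∈ Δ, (1 / (e d : ℚ)) * (1 - 1 / (d : ℚ)) with hSdef
  have hSlt : S < 1 / 3 := by
    by_contra h
    push Not at h
    have := mul_nonneg (sub_nonneg.mpr h) hNQpos.le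
    nlinarith
  -- lower bounds for the terms
  have hinv : ∀ d ∈ Δ, (0 : ℚ) < 1 / (d : ℚ) ∧ 1 / (d : ℚ) ≤ 1 / 7 := by
    intro d hd
    have hd7' : (7 : ℚ) ≤ (d : ℚ) := by exact_mod_cast hd7 d hd
    constructor
    · have : (0 : ℚ) < (d : ℚ) := by linarith
      positivity
    · exact one_div_le_one_div_of_le (by norm_num) hd7'
  have hlow : ∀ d ∈ Δ, (1 : ℚ) / 7 ≤ (1 / (e d : ℚ)) * (1 - 1 / (d : ℚ)) := by
    intro d hd
    obtain ⟨h1, h2⟩ := hinv d hd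
    rcases he d hd with h | h | h | h <;> rw [h] <;> push_cast <;> nlinarith
  have hlow3 : ∀ d ∈ Δ, e d ≠ 6 → (2 : ℚ) / 7 ≤ (1 / (e d : ℚ)) * (1 - 1 / (d : ℚ)) := by
    intro d hd h6
    obtain ⟨h1, h2⟩ := hinv d hd
    rcases he d hd with h | h | h | h
    · rw [h]; push_cast; nlinarith
    · rw [h]; push_cast; nlinarith
    · rw [h]; push_cast; nlinarith
    · exact absurd h h6
  have hcard : Δ.card ≤ 2 := by
    have h1 : Δ.card • ((1 : ℚ) / 7) ≤ S := Finset.card_nsmul_le_sum Δ _ _ hlow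
    rw [nsmul_eq_mul] at h1
    by_contra h
    push Not at h
    have h3 : (3 : ℚ) ≤ (Δ.card : ℚ) := by exact_mod_cast h
    nlinarith
  -- the three cases
  have hc : Δ.card = 0 ∨ Δ.card = 1 ∨ Δ.card = 2 := by omega
  rcases hc with h0 | h1 | h2
  · exfalso
    rw [Finset.card_eq_zero] at h0
    rw [h0, Finset.prod_empty] at hprod
    have : 0 < q ^ 2 - q := by
      have : q < q ^ 2 := by nlinarith
      omega
    omega
  · exfalso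
    obtain ⟨d, hd⟩ := Finset.card_eq_one.mp h1
    have hdm : d ∈ Δ := by rw [hd]; exact Finset.mem_singleton_self d
    have hdN : (d : ℚ) = (q : ℚ) ^ 2 - (q : ℚ) + 1 := by
      rw [← hprodQ, hd, Finset.prod_singleton]
    have hSd : S = (1 / (e d : ℚ)) * (1 - 1 / (d : ℚ)) := by
      rw [hSdef, hd, Finset.sum_singleton]
    rw [hSd, hdN] at hS
    have hne : (q : ℚ) ^ 2 - (q : ℚ) + 1 ≠ 0 := hNQpos.ne'
    have hM : (1 - 1 / ((q : ℚ) ^ 2 - (q : ℚ) + 1)) * ((q : ℚ) ^ 2 - (q : ℚ) + 1)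
        = (q : ℚ) ^ 2 - (q : ℚ) := by
      rw [sub_mul, one_mul, one_div, inv_mul_cancel₀ hne]
      ring
    have hS' : (1 / (e d : ℚ)) * (3 * ((q : ℚ) ^ 2 - (q : ℚ))) = (q : ℚ) * ((q : ℚ) - 2) := by
      calc (1 / (e d : ℚ)) * (3 * ((q : ℚ) ^ 2 - (q : ℚ)))
          = (1 / (e d : ℚ)) * (3 * ((1 - 1 / ((q : ℚ) ^ 2 - (q : ℚ) + 1)) * ((q : ℚ) ^ 2 - (q : ℚ) + 1))) := by
            rw [hM]
        _ = (1 / (e d : ℚ)) * (1 - 1 / ((q : ℚ) ^ 2 - (q : ℚ) + 1)) * (3 * ((q : ℚ) ^ 2 - (q : ℚ) + 1)) := by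
            ring
        _ = (q : ℚ) * ((q : ℚ) - 2) := hS
    rcases he d hdm with h | h | h | h <;> rw [h] at hS' <;> push_cast at hS' <;> nlinarith
  · obtain ⟨d₁, d₂, hne, hd⟩ := Finset.card_eq_two.mp h2
    have hd₁ : d₁ ∈ Δ := by rw [hd]; simp
    have hd₂ : d₂ ∈ Δ := by rw [hd]; simp
    have hSd : S = (1 / (e d₁ : ℚ)) * (1 - 1 / (d₁ : ℚ)) + (1 / (e d₂ : ℚ)) * (1 - 1 / (d₂ : ℚ)) := by
      rw [hSdef, hd, Finset.sum_pair hne]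
    have he₁ : e d₁ = 6 := by
      by_contra h6
      have := hlow3 d₁ hd₁ h6
      have := hlow d₂ hd₂
      linarith
    have he₂ : e d₂ = 6 := by
      by_contra h6
      have := hlow3 d₂ hd₂ h6
      have := hlow d₁ hd₁
      linarith
    have hdN : (d₁ : ℚ) * (d₂ : ℚ) = (q : ℚ) ^ 2 - (q : ℚ) + 1 := by
      rw [← hprodQ, hd, Finset.prod_pair hne]
      push_cast
      ring
    have hd₁0 : (d₁ : ℚ) ≠ 0 := by
      have : (7 : ℚ) ≤ (d₁ : ℚ) := by exact_mod_cast hd7 d₁ hd₁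
      intro h; rw [h] at this; norm_num at this
    have hd₂0 : (d₂ : ℚ) ≠ 0 := by
      have : (7 : ℚ) ≤ (d₂ : ℚ) := by exact_mod_cast hd7 d₂ hd₂
      intro h; rw [h] at this; norm_num at this
    rw [hSd, he₁, he₂, ← hdN] at hS
    push_cast at hS
    have i1 : 1 / (d₁ : ℚ) * (d₁ : ℚ) = 1 := one_div_mul_cancel hd₁0
    have i2 : 1 / (d₂ : ℚ) * (d₂ : ℚ) = 1 := one_div_mul_cancel hd₂0
    have hsum2 : (d₁ : ℚ) + (d₂ : ℚ) = 2 * (q : ℚ) + 2 := by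
      linear_combination (-2) * hS + 2 * hdN - (d₂ : ℚ) * i1 - (d₁ : ℚ) * i2
    have hrQ : (r : ℚ) * (r : ℚ) = 3 * (q : ℚ) := by exact_mod_cast hr
    have hprod0 : ((d₁ : ℚ) - (d₂ : ℚ) - 2 * (r : ℚ)) * ((d₁ : ℚ) - (d₂ : ℚ) + 2 * (r : ℚ)) = 0 := by
      have h1 : ((d₁ : ℚ) - (d₂ : ℚ)) ^ 2 = ((d₁ : ℚ) + (d₂ : ℚ)) ^ 2 - 4 * ((d₁ : ℚ) * (d₂ : ℚ)) := by ring
      rw [hsum2, hdN] at h1
      linear_combination h1 - 4 * hrQ
    rcases mul_eq_zero.mp hprod0 with h | h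
    · -- d₁ = q + 1 + r, d₂ = q + 1 - r
      have e1 : (d₁ : ℚ) = (q : ℚ) + (r : ℚ) + 1 := by linarith
      have e2 : (d₂ : ℚ) + (r : ℚ) = (q : ℚ) + 1 := by linarith
      have e1' : d₁ = q + r + 1 := by exact_mod_cast e1
      have e2' : d₂ + r = q + 1 := by exact_mod_cast e2
      have e2'' : d₂ = q - r + 1 := by omega
      refine ⟨?_, ?_, ?_⟩
      · rw [hd, e1', e2'', Finset.pair_comm]
      · rw [← e2'']; exact he₂
      · rw [← e1']; exact he₁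
    · have e1 : (d₂ : ℚ) = (q : ℚ) + (r : ℚ) + 1 := by linarith
      have e2 : (d₁ : ℚ) + (r : ℚ) = (q : ℚ) + 1 := by linarith
      have e1' : d₂ = q + r + 1 := by exact_mod_cast e1
      have e2' : d₁ + r = q + 1 := by exact_mod_cast e2
      have e2'' : d₁ = q - r + 1 := by omega
      refine ⟨?_, ?_, ?_⟩
      · rw [hd, e1', e2'']
      · rw [← e2'']; exact he₁
      · rw [← e1']; exact he₂

theorem tori_arith (m : ℕ) (hm : 1 ≤ m) (Δ : Finset ℕ) (e n : ℕ → ℕ)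
    (hd7 : ∀ d ∈ Δ, 7 ≤ d)
    (hprod : ∏ d ∈ Δ, d = (3 ^ (2 * m + 1)) ^ 2 - 3 ^ (2 * m + 1) + 1)
    (he : ∀ d ∈ Δ, e d = 1 ∨ e d = 2 ∨ e d = 3 ∨ e d = 6)
    (hn : ∀ d ∈ Δ, n d * (e d * d)
      = (3 ^ (2 * m + 1)) ^ 3 * (3 ^ (2 * m + 1) - 1) * ((3 ^ (2 * m + 1)) ^ 3 + 1))
    (hsum : 3 * ∑ d ∈ Δ, n d * (d - 1)
      = (3 ^ (2 * m + 1)) ^ 4 * ((3 ^ (2 * m + 1)) ^ 2 - 1) * (3 ^ (2 * m + 1) - 2)) :
    Δ = {3 ^ (2 * m + 1) - 3 ^ (m + 1) + 1, 3 ^ (2 * m + 1) + 3 ^ (m + 1) + 1} ∧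
      e (3 ^ (2 * m + 1) - 3 ^ (m + 1) + 1) = 6 ∧ e (3 ^ (2 * m + 1) + 3 ^ (m + 1) + 1) = 6 := by
  have hq : 27 ≤ 3 ^ (2 * m + 1) := by
    calc 27 = 3 ^ 3 := by norm_num
      _ ≤ 3 ^ (2 * m + 1) := Nat.pow_le_pow_right (by norm_num) (by omega)
  have hr : 3 ^ (m + 1) * 3 ^ (m + 1) = 3 * 3 ^ (2 * m + 1) := by ring
  exact tori_arith_core (3 ^ (2 * m + 1)) (3 ^ (m + 1)) hq hr Δ e n hd7 hprod he hn hsum

end Cfsg.Agent.Lib.Helper66.ReeW2
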