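import Mathlib
import Cfsg.Prelude.Def_OddOrderLocal

/-!
# S4079 module [BWD] (helper66, for helper2)

A metacyclic `3`-group `L` of order `≥ 81` with `Ω₁(L) = E` of order `9` fixed pointwise by an
automorphism `a` cannot satisfy both the uniqueness (`hU`) and the small-centre (`hZ`) hypotheses.
-/

set_option autoImplicit false
set_option linter.unusedSectionVars false
set_option linter.unusedSimpArgs false
set_option linter.unusedVariables false
set_option linter.style.haveILetI false

namespace Cfsg.Agent.Lib.Helper66.S4079Bwd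

section gen

variable {L : Type*} [Group L]

theorem hcl_of (c : L) (hc : ∀ g, c * g = g * c) (g z : L) : g * (c * z) = c * (g * z) := by
  rw [← mul_assoc, ← hc g, mul_assoc]

theorem mul_pow_of_central (x y c : L) (hc : ∀ g, c * g = g * c) (h : y * x = c * (x * y))
    (n : ℕ) : y * x ^ n = c ^ n * (x ^ n * y) := by
  induction n with
  | zero => simp
  | succ n ih =>
    calc y * x ^ (n + 1) = (y * x ^ n) * x := by rw [pow_succ, mul_assoc]
      _ = c ^ n * (x ^ n * y) * x := by rw [ih]
      _ = c ^ n * (x ^ n * (y * x)) := by simp only [mul_assoc]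
      _ = c ^ n * (x ^ n * (c * (x * y))) := by rw [h]
      _ = c ^ n * (c * (x ^ n * (x * y))) := by rw [hcl_of c hc]
      _ = c ^ (n + 1) * (x ^ (n + 1) * y) := by rw [pow_succ, pow_succ]; simp only [mul_assoc]

theorem cube_mul (x y c : L) (hc : ∀ g, c * g = g * c) (h : y * x = c * (x * y))
    (h3 : c ^ 3 = 1) : (x * y) ^ 3 = x ^ 3 * y ^ 3 := by
  have hcl := hcl_of c hc
  calc (x * y) ^ 3 = x * (y * x) * (y * x) * y := by
        simp only [pow_succ, pow_zero, one_mul, mul_assoc]
    _ = x * (c * (x * y)) * (y * x) * y := by rw [h]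
    _ = c * (x * x * (y * (y * x)) * y) := by
        rw [hcl x]; simp only [mul_assoc]
    _ = c * (x * x * (y * (c * (x * y))) * y) := by rw [h]
    _ = c * (c * (x * x * ((y * x) * y) * y)) := by
        rw [hcl y, hcl (x * x), mul_assoc c]; simp only [mul_assoc]
    _ = c * (c * (x * x * ((c * (x * y)) * y) * y)) := by rw [h]
    _ = c * (c * (c * (x * x * x * (y * y * y)))) := by
        rw [mul_assoc c (x * y) y, hcl (x * x), mul_assoc c]; simp only [mul_assoc]
    _ = c ^ 3 * (x ^ 3 * y ^ 3) := by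
        simp only [pow_succ, pow_zero, one_mul, mul_assoc]
    _ = x ^ 3 * y ^ 3 := by rw [h3, one_mul]

/-- In a finite cyclic group a subgroup is determined by its order. -/
theorem subgroup_eq_of_card_eq_cyc {H : Type*} [Group H] [Finite H] [IsCyclic H]
    (C₁ C₂ : Subgroup H) (h : Nat.card C₁ = Nat.card C₂) : C₁ = C₂ := by
  classical
  have : Fintype H := Fintype.ofFinite H
  have key : ∀ C : Subgroup H, (C : Set H) = {a : H | a ^ Nat.card C = 1} := by
    intro C
    have hpos : 0 < Nat.card C := Nat.card_pos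
    apply Set.eq_of_subset_of_ncard_le
    · intro x hx
      have := pow_card_eq_one' (G := C) (x := ⟨x, hx⟩)
      exact congrArg Subtype.val this
    · have h1 : ({a : H | a ^ Nat.card C = 1} : Set H).ncard ≤ Nat.card C := by
        rw [Set.ncard_eq_toFinset_card', Set.toFinset_ofPred]
        exact IsCyclic.card_pow_eq_one_le hpos
      have h2 : (C : Set H).ncard = Nat.card C := (Nat.card_coe_set_eq (C : Set H)).symm
      rw [h2]
      exact h1
    · exact Set.toFinite _
  apply SetLike.coe_injective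
  rw [key C₁, key C₂, h]

/-- Subgroups of the same order of a finite cyclic subgroup are equal. -/
theorem eq_of_card_eq_of_le_cyc [Finite L] {P C₁ C₂ : Subgroup L} (hP : IsCyclic P)
    (h1 : C₁ ≤ P) (h2 : C₂ ≤ P) (hc : Nat.card C₁ = Nat.card C₂) : C₁ = C₂ := by
  have e1 : Nat.card (C₁.subgroupOf P) = Nat.card C₁ :=
    Nat.card_congr (Subgroup.subgroupOfEquivOfLe h1).toEquiv
  have e2 : Nat.card (C₂.subgroupOf P) = Nat.card C₂ :=
    Nat.card_congr (Subgroup.subgroupOfEquivOfLe h2).toEquiv
  have := subgroup_eq_of_card_eq_cyc (C₁.subgroupOf P) (C₂.subgroupOf P)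
    (by rw [e1, e2, hc])
  rw [Subgroup.subgroupOf_inj] at this
  rwa [inf_eq_left.mpr h1, inf_eq_left.mpr h2] at this

/-- A normal subgroup of order `p` of a finite `p`-group is central. -/
theorem normal_card_prime_le_center' {S : Type*} [Group S] [Finite S] {p : ℕ} [hp : Fact p.Prime]
    (hS : IsPGroup p S) (N : Subgroup S) [N.Normal] (hN : Nat.card N = p) :
    N ≤ Subgroup.center S := by
  have h1 : (1 : N) ∈ MulAction.fixedPoints (ConjAct S) N := by
    intro g
    exact smul_one g
  obtain ⟨b, hb, hb1⟩ :=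
    (hS.of_equiv ConjAct.toConjAct).exists_fixed_point_of_prime_dvd_card_of_fixed_point N
      (by rw [hN]) h1
  have hbc : (b : S) ∈ Subgroup.center S := by
    rw [Subgroup.mem_center_iff]
    intro s
    have h2 : ConjAct.toConjAct s • b = b := hb (ConjAct.toConjAct s)
    have h3 : s * (b : S) * s⁻¹ = b := by
      have h4 := congrArg Subtype.val h2
      rw [ConjAct.Subgroup.val_conj_smul, ConjAct.toConjAct_smul] at h4
      exact h4
    calc s * b = s * b * s⁻¹ * s := by group
      _ = b * s := by rw [h3]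
  have htop : Subgroup.zpowers b = ⊤ := zpowers_eq_top_of_prime_card hN (Ne.symm hb1)
  intro n hn
  have : (⟨n, hn⟩ : N) ∈ Subgroup.zpowers b := by rw [htop]; trivial
  obtain ⟨k, hk⟩ := Subgroup.mem_zpowers_iff.1 this
  have hk' : (b : S) ^ k = n := by
    have := congrArg Subtype.val hk
    simpa using this
  rw [← hk']
  exact Subgroup.zpow_mem _ hbc k

/-- an element of order exactly `9` among the powers of `x`, if `x ^ 3 ≠ 1` in a `3`-group -/
theorem exists_pow_order_nine (hL : IsPGroup 3 L) (x : L) (hx : x ^ 3 ≠ 1) :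
    ∃ j : ℕ, orderOf (x ^ j) = 9 := by
  haveI : Fact (Nat.Prime 3) := ⟨Nat.prime_three⟩
  obtain ⟨k, hk⟩ := IsPGroup.iff_orderOf.mp hL x
  have hk2 : 2 ≤ k := by
    by_contra hlt
    apply hx
    apply orderOf_dvd_iff_pow_eq_one.mp
    rw [hk]
    have : k ≤ 1 := by omega
    calc 3 ^ k ∣ 3 ^ 1 := pow_dvd_pow 3 this
      _ = 3 := pow_one 3
  refine ⟨3 ^ (k - 2), ?_⟩
  rw [orderOf_pow_of_dvd (pow_ne_zero _ (by norm_num)) (by rw [hk]; exact pow_dvd_pow 3 (by omega)),
    hk, Nat.pow_div (by omega) (by norm_num)]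
  have : k - (k - 2) = 2 := by omega
  rw [this]

end gen

variable {L : Type*} [Group L] [Finite L]

theorem bwd (hL : IsPGroup 3 L) (hmc : Cfsg.IsMetacyclic L) (m : ℕ) (hm : Nat.card L = 3 ^ m) (hm4 : 4 ≤ m) (E : Subgroup L) (hE : ∀ x, x ∈ E ↔ x ^ 3 = 1) (hEcard : Nat.card E = 9) (a : MulAut L) (hfix : ∀ x ∈ E, a x = x) (hU : ∀ C₁ C₂ : Subgroup L, C₁.Normal → C₂.Normal → (∀ x ∈ C₁, a x ∈ C₁) → (∀ x ∈ C₂, a x ∈ C₂) → Nat.card C₁ = 9 → Nat.card C₂ = 9 → C₁ = C₂) (hZ : ∀ C : Subgroup L, (∀ c ∈ C, ∀ l : L, l * c = c * l) → (∀ c ∈ C, a c = c) → Nat.card C ≤ 3) : False := by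
  haveI : Fact (Nat.Prime 3) := ⟨Nat.prime_three⟩
  obtain ⟨N, hNn, hNc, hQc⟩ := hmc
  -- `E` is normal and `a`-invariant
  have hEn : E.Normal := by
    refine ⟨fun x hx g => ?_⟩
    rw [hE] at hx ⊢
    rw [conj_pow, hx, mul_one, mul_inv_cancel]
  have hEa : ∀ x ∈ E, a x ∈ E := fun x hx => by rw [hfix x hx]; exact hx
  -- `L' ≤ N`
  have hcomN : commutator L ≤ N := by
    apply Subgroup.Normal.quotient_commutative_iff_commutator_le.mp
    exact ⟨⟨(IsCyclic.commGroup (α := L ⧸ N)).mul_comm⟩⟩
  -- `a` preserves `L'`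
  have hcoma : ∀ x ∈ commutator L, a x ∈ commutator L := by
    intro x hx
    have hchar : (commutator L).Characteristic := by
      rw [commutator_def]; infer_instance
    have := Subgroup.characteristic_iff_map_le.mp hchar a
    exact this ⟨x, hx, rfl⟩
  -- `L'` has exponent `3`
  have hcom3 : ∀ x ∈ commutator L, x ^ 3 = 1 := by
    intro x hx
    by_contra hx3
    obtain ⟨j, hj⟩ := exists_pow_order_nine hL x hx3
    have hx'c : x ^ j ∈ commutator L := Subgroup.pow_mem _ hx j
    have hC₁N : Subgroup.zpowers (x ^ j) ≤ N := (Subgroup.zpowers_le).mpr (hcomN hx'c)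
    have hC₁com : Subgroup.zpowers (x ^ j) ≤ commutator L := (Subgroup.zpowers_le).mpr hx'c
    have hC₁card : Nat.card (Subgroup.zpowers (x ^ j)) = 9 := by rw [Nat.card_zpowers, hj]
    have hC₁n : (Subgroup.zpowers (x ^ j)).Normal := by
      refine ⟨fun y hy g => ?_⟩
      have h1 : (Subgroup.zpowers (x ^ j)).map (MulAut.conj g).toMonoidHom ≤ N := by
        rintro _ ⟨q, hq, rfl⟩
        exact hNn.conj_mem q (hC₁N hq) g
      have h2 : (Subgroup.zpowers (x ^ j)).map (MulAut.conj g).toMonoidHom =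
          Subgroup.zpowers (x ^ j) :=
        eq_of_card_eq_of_le_cyc hNc h1 hC₁N
          (Subgroup.card_map_of_injective (MulAut.conj g).injective)
      rw [← h2]
      exact ⟨y, hy, rfl⟩
    have hC₁a : ∀ y ∈ Subgroup.zpowers (x ^ j), a y ∈ Subgroup.zpowers (x ^ j) := by
      have h1 : (Subgroup.zpowers (x ^ j)).map a.toMonoidHom ≤ N := by
        rintro _ ⟨q, hq, rfl⟩
        exact hcomN (hcoma q (hC₁com hq))
      have h2 := eq_of_card_eq_of_le_cyc hNc h1 hC₁N
        (Subgroup.card_map_of_injective a.injective)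
      intro y hy
      rw [← h2]
      exact ⟨y, hy, rfl⟩
    have hEq := hU (Subgroup.zpowers (x ^ j)) E hC₁n hEn hC₁a hEa hC₁card hEcard
    have hx'E : x ^ j ∈ E := by rw [← hEq]; exact Subgroup.mem_zpowers _
    rw [hE] at hx'E
    have hd := orderOf_dvd_of_pow_eq_one hx'E
    rw [hj] at hd
    norm_num at hd
  -- `L'` is central
  have hcomZ : commutator L ≤ Subgroup.center L := by
    haveI : IsCyclic (commutator L) := by
      haveI := hNc
      exact Subgroup.isCyclic_of_le hcomN
    obtain ⟨g, hg⟩ := IsCyclic.exists_generator (α := commutator L)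
    have hcard : Nat.card (commutator L) = orderOf g :=
      (orderOf_eq_card_of_forall_mem_zpowers hg).symm
    have hg3 : g ^ 3 = 1 := Subtype.ext (by simpa using hcom3 g.1 g.2)
    have hdvd : orderOf g ∣ 3 := orderOf_dvd_of_pow_eq_one hg3
    rcases (Nat.dvd_prime Nat.prime_three).mp hdvd with h1 | h3
    · have hbot : commutator L = ⊥ := Subgroup.card_eq_one.mp (by rw [hcard, h1])
      rw [hbot]; exact bot_le
    · haveI : (commutator L).Normal := by rw [commutator_def]; infer_instance
      exact normal_card_prime_le_center' hL (commutator L) (by rw [hcard, h3])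
  have hmem : ∀ x y : L, y * x * y⁻¹ * x⁻¹ ∈ commutator L := by
    intro x y
    rw [commutator_def]
    exact Subgroup.commutator_mem_commutator (Subgroup.mem_top y) (Subgroup.mem_top x)
  have hcentral : ∀ x y g : L, (y * x * y⁻¹ * x⁻¹) * g = g * (y * x * y⁻¹ * x⁻¹) := by
    intro x y g
    exact (Subgroup.mem_center_iff.mp (hcomZ (hmem x y)) g).symm
  have hcube : ∀ x y : L, (x * y) ^ 3 = x ^ 3 * y ^ 3 := fun x y =>
    cube_mul x y (y * x * y⁻¹ * x⁻¹) (hcentral x y) (by group) (hcom3 _ (hmem x y))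
  have hcubeZ : ∀ x g : L, g * x ^ 3 = x ^ 3 * g := by
    intro x g
    have h := mul_pow_of_central x g (g * x * g⁻¹ * x⁻¹) (hcentral x g) (by group) 3
    rw [hcom3 _ (hmem x g), one_mul] at h
    exact h
  let φ : L →* L := { toFun := fun x => x ^ 3, map_one' := one_pow 3, map_mul' := hcube }
  have hφ : ∀ x, φ x = x ^ 3 := fun x => rfl
  have hker : φ.ker = E := by
    ext x
    rw [MonoidHom.mem_ker, hE, hφ]
  have hrange_card : Nat.card φ.range = 3 ^ (m - 2) := by
    have h1 : Nat.card L = Nat.card φ.ker * Nat.card φ.range := by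
      rw [Subgroup.card_eq_card_quotient_mul_card_subgroup φ.ker,
        Nat.card_congr (QuotientGroup.quotientKerEquivRange φ).toEquiv, mul_comm]
    rw [hker, hEcard, hm] at h1
    have h2 : 3 ^ m = 9 * 3 ^ (m - 2) := by
      have : m = (m - 2) + 2 := by omega
      conv_lhs => rw [this, pow_add]
      ring
    rw [h2] at h1
    exact (Nat.eq_of_mul_eq_mul_left (by norm_num) h1).symm
  have hZ1 : Nat.card (E ⊓ Subgroup.center L : Subgroup L) ≤ 3 := by
    apply hZ
    · intro c hc l
      exact Subgroup.mem_center_iff.mp hc.2 l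
    · intro c hc
      exact hfix c hc.1
  have hrangeZ : φ.range ≤ Subgroup.center L := by
    rintro w ⟨x, rfl⟩
    rw [Subgroup.mem_center_iff]
    intro g
    exact hcubeZ x g
  have hw : ∃ w ∈ φ.range, w ^ 3 ≠ 1 := by
    by_contra hno
    push Not at hno
    have hle : φ.range ≤ E ⊓ Subgroup.center L := by
      intro w hw
      exact ⟨(hE w).mpr (hno w hw), hrangeZ hw⟩
    have h3 := Subgroup.card_le_of_le hle
    have h9 : 9 ≤ 3 ^ (m - 2) := by
      calc 9 = 3 ^ 2 := by norm_num
        _ ≤ 3 ^ (m - 2) := Nat.pow_le_pow_right (by norm_num) (by omega)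
    omega
  obtain ⟨w, hwr, hw3⟩ := hw
  obtain ⟨j, hj⟩ := exists_pow_order_nine hL w hw3
  have hw'Z : w ^ j ∈ Subgroup.center L := Subgroup.pow_mem _ (hrangeZ hwr) j
  have hw'9 : (w ^ j) ^ 9 = 1 := by rw [← hj]; exact pow_orderOf_eq_one _
  -- `C = Ω₂(Z(L))`
  let C : Subgroup L :=
    { carrier := {y | y ∈ Subgroup.center L ∧ y ^ 9 = 1}
      one_mem' := ⟨one_mem _, one_pow _⟩
      mul_mem' := by
        rintro y z ⟨hy, hy9⟩ ⟨hz, hz9⟩
        refine ⟨mul_mem hy hz, ?_⟩
        have hc : Commute y z := Subgroup.mem_center_iff.mp hz y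
        rw [hc.mul_pow, hy9, hz9, one_mul]
      inv_mem' := by
        rintro y ⟨hy, hy9⟩
        exact ⟨inv_mem hy, by rw [inv_pow, hy9, inv_one]⟩ }
  have hCmem : ∀ y, y ∈ C ↔ y ∈ Subgroup.center L ∧ y ^ 9 = 1 := fun y => Iff.rfl
  have hCn : C.Normal := by
    refine ⟨fun y hy g => ?_⟩
    have h1 := Subgroup.mem_center_iff.mp ((hCmem y).mp hy).1 g
    rw [h1, mul_inv_cancel_right]
    exact hy
  have hCa : ∀ y ∈ C, a y ∈ C := by
    intro y hy
    obtain ⟨hyZ, hy9⟩ := (hCmem y).mp hy
    rw [hCmem]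
    refine ⟨?_, by rw [← map_pow, hy9, map_one]⟩
    rw [Subgroup.mem_center_iff]
    intro g
    have h1 := Subgroup.mem_center_iff.mp hyZ (a.symm g)
    have h2 := congrArg a h1
    rw [map_mul, map_mul, MulEquiv.apply_symm_apply] at h2
    exact h2
  have hCcard : Nat.card C = 9 := by
    apply le_antisymm
    · -- the cube map `C → E ⊓ Z(L)`
      let ψ : C →* (E ⊓ Subgroup.center L : Subgroup L) :=
        { toFun := fun y => ⟨y.1 ^ 3, by
            obtain ⟨hyZ, hy9⟩ := (hCmem y.1).mp y.2
            refine ⟨(hE _).mpr ?_, Subgroup.pow_mem _ hyZ 3⟩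
            rw [← pow_mul]; exact hy9⟩
          map_one' := by
            apply Subtype.ext
            show ((1 : C) : L) ^ 3 = 1
            rw [Subgroup.coe_one, one_pow]
          map_mul' := by
            intro y z
            apply Subtype.ext
            show ((y * z : C) : L) ^ 3 = y.1 ^ 3 * z.1 ^ 3
            have hc : Commute y.1 z.1 :=
              Subgroup.mem_center_iff.mp ((hCmem z.1).mp z.2).1 y.1
            rw [Subgroup.coe_mul, hc.mul_pow] }
      have hψ : ∀ y : C, ((ψ y : (E ⊓ Subgroup.center L : Subgroup L)) : L) = y.1 ^ 3 :=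
        fun y => rfl
      have h1 : Nat.card C = Nat.card ψ.ker * Nat.card ψ.range := by
        rw [Subgroup.card_eq_card_quotient_mul_card_subgroup ψ.ker,
          Nat.card_congr (QuotientGroup.quotientKerEquivRange ψ).toEquiv, mul_comm]
      have h2 : Nat.card ψ.range ≤ 3 := le_trans (Subgroup.card_le_card_group _) hZ1
      have h3 : Nat.card ψ.ker ≤ 3 := by
        refine le_trans ?_ hZ1
        let f : ψ.ker → (E ⊓ Subgroup.center L : Subgroup L) := fun y =>
          ⟨y.1.1, by
            have hk : ψ y.1 = 1 := y.2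
            have hk' : y.1.1 ^ 3 = 1 := by
              rw [← hψ, hk]; rfl
            exact ⟨(hE _).mpr hk', ((hCmem y.1.1).mp y.1.2).1⟩⟩
        have hf : Function.Injective f := by
          intro y z hyz
          apply Subtype.ext
          apply Subtype.ext
          have h5 : ((f y : (E ⊓ Subgroup.center L : Subgroup L)) : L) = (f z : L) :=
            congrArg Subtype.val hyz
          exact h5
        exact Nat.card_le_card_of_injective f hf
      rw [h1]
      calc Nat.card ψ.ker * Nat.card ψ.range ≤ 3 * 3 := Nat.mul_le_mul h3 h2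
        _ = 9 := by norm_num
    · have hle : Subgroup.zpowers (w ^ j) ≤ C :=
        (Subgroup.zpowers_le).mpr ((hCmem _).mpr ⟨hw'Z, hw'9⟩)
      have h1 := Subgroup.card_le_of_le hle
      rwa [Nat.card_zpowers, hj] at h1
  have hEq := hU C E hCn hEn hCa hEa hCcard hEcard
  have hw'E : w ^ j ∈ E := by
    rw [← hEq]
    exact (hCmem _).mpr ⟨hw'Z, hw'9⟩
  rw [hE] at hw'E
  have hd := orderOf_dvd_of_pow_eq_one hw'E
  rw [hj] at hd
  norm_num at hd

end Cfsg.Agent.Lib.Helper66.S4079Bwd
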