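import Cfsg.Agent.Lib.Helper66.SURegEndOf
import Cfsg.Agent.Lib.Helper30.SURegTrans
import Cfsg.Agent.Lib.Helper30.SURegQXC

/-!
# S2282-[END] (helper66): assembly of part D, exact sheet statement
-/

set_option autoImplicit false

namespace Cfsg.Agent.Lib.Helper66.SUReg

open Matrix Cfsg.Agent.S0837 Cfsg.Agent.S0781 Cfsg.Agent.S2644 Cfsg.Agent.Lib.Helper53.SUReg

variable {n : ℕ} {F : Type*} [Field F] {σ : F →+* F} {q : ℕ}
variable {m : ℕ} {u : ↥(Cfsg.SU n F q)} {a : Fin n → F} {φ : F}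

local notation "SLn" => Matrix.SpecialLinearGroup (Fin n) F
local notation "Mn" => Matrix (Fin n) (Fin n) F

theorem eq_top_of_roots [Finite F] (hσq : ∀ x, σ x = x ^ q) (hσ : σ ≠ RingHom.id F)
    (hσ2 : ∀ x, σ (σ x) = x)
    (hn : n = 2 * m + 1) (hm : 2 ≤ m) (hφ : φ ≠ 0) (hg : UGood σ q m u a φ)
    (H : Subgroup ↥(Cfsg.SU n F q)) (hu : u ∈ H)
    (hT : ∀ (k : ℤ) (x : F), tauU σ q (uvec q u a k) x ∈ H)
    (hS : ∀ (j k : ℤ), j ≠ k → |j - k| < (m : ℤ) → ∀ s : F,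
      sigU σ q (uvec q u a j) (uvec q u a k) s ∈ H) : H = ⊤ :=
  eq_top_of_roots_of hσq hσ hσ2 hn hm hφ hg H hu
    (Cfsg.Agent.Lib.Helper30.SUReg.siegel_mem hσq hσ hσ2 hn hm hφ hg H hu hT hS)
    (fun x y hx hy hxy hQx hQy p t hp =>
      Cfsg.Agent.Lib.Helper30.SUReg.tv_mem_of_siegel hσq hσ hσ2 H x y hx hy hxy hQx hQy p t hp)

end Cfsg.Agent.Lib.Helper66.SUReg
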