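/-
helper66: project SMALL (helper35), module SMALL-[T-D4B2]: the mod-`n` torus separation tables for `D₄` (`n = 2, 3`) and
`B₂` (`n = 3`), and the `TopCert` certificates for all roots of `D₄`.  Boolean checks on the packed tables, with
coweights of the form `coroot t`.
-/
import Cfsg.Agent.Lib.Helper35.SmallDefs
import Cfsg.Agent.Lib.Helper89.St3Sep
import Cfsg.Agent.Lib.Helper18.ChevDataAll
import Cfsg.Agent.Lib.Helper18.BN1

set_option autoImplicit false

namespace Cfsg.Agent.Lib.Helper66.Small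

open Cfsg.Lie Cfsg.Agent.Lib.Helper35.St Cfsg.Agent.Lib.Helper60.St3 Cfsg.Agent.Lib.Helper35.Small
  Cfsg.Agent.Lib.Helper18 Cfsg.Agent.Lib.Helper89.St3

variable {D : ChevalleyDatum}

/-- the commutator formula of the datum, read off the packed tables -/
theorem ct_eq' (C : ChevData.{0} D) {r s : ℕ} (hr : r < D.nroots) (hs : s < D.nroots) :
    C.T.commTermsFast r s = D.commTerms r s := by
  rw [C.T.commTermsFast_eq, C.T.commTermsF_eq D C.hag C.hin r s hr hs]

theorem not_dvd_of_emod {n x : ℤ} (h : x % n ≠ 0) : ¬ n ∣ x := fun hd =>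
  h (Int.emod_eq_zero_of_dvd hd)

/-! ### `HdN` -/

/-- Table check for `HdN`. -/
def hdOK (T : FastDatum) (n : ℤ) : Bool :=
  (List.range T.nroots).all fun s => (List.range T.nroots).any fun t => decide (nF T s t % n ≠ 0)

theorem hdN_of_ok (C : ChevData.{0} D) (n : ℤ) (h : hdOK C.T n = true) : HdN D n := by
  intro s hs
  unfold hdOK at h
  rw [List.all_eq_true] at h
  have hn := C.nroots_eq
  have h1 := h s (List.mem_range.2 (hn ▸ hs))
  rw [List.any_eq_true] at h1
  obtain ⟨t, -, ht⟩ := h1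
  rw [decide_eq_true_eq] at ht
  refine ⟨fun i => C.T.coroot t i, ?_⟩
  rw [pair_eq_nF C t s hs]
  exact not_dvd_of_emod ht

/-! ### `SepN` -/

/-- the search for a separating coroot: `n ∣ ⟨a, t∨⟩`, `n ∤ ⟨k, t∨⟩` -/
def sepAtB (T : FastDatum) (n : ℤ) (a k : ℕ) : Bool :=
  (List.range T.nroots).any fun t => decide (nF T a t % n = 0) && decide (nF T k t % n ≠ 0)

theorem sepAt_of_B (C : ChevData.{0} D) (n : ℤ) {a k : ℕ} (ha : a < D.nroots) (hk : k < D.nroots)
    (h : sepAtB C.T n a k = true) : SepAt D n a k := by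
  unfold sepAtB at h
  rw [List.any_eq_true] at h
  obtain ⟨t, -, ht⟩ := h
  rw [Bool.and_eq_true, decide_eq_true_eq, decide_eq_true_eq] at ht
  refine ⟨fun i => C.T.coroot t i, ?_, ?_⟩
  · rw [pair_eq_nF C t a ha]
    exact Int.dvd_of_emod_eq_zero ht.1
  · rw [pair_eq_nF C t k hk]
    exact not_dvd_of_emod ht.2

/-- Table check for `SepN`. -/
def sepNOK (T : FastDatum) (n : ℤ) : Bool :=
  (List.range T.nroots).all fun a => (List.range T.nroots).all fun k =>
    k == a || k == T.neg a || (T.commTermsFast a k == []) || sepAtB T n a k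

theorem sepN_of_ok (C : ChevData.{0} D) (n : ℤ) (h : sepNOK C.T n = true) : SepN D n := by
  intro a k ha hk hka hkn hct
  have hn := C.nroots_eq
  unfold sepNOK at h
  rw [List.all_eq_true] at h
  have h1 := h a (List.mem_range.2 (hn ▸ ha))
  rw [List.all_eq_true] at h1
  have h2 := h1 k (List.mem_range.2 (hn ▸ hk))
  simp only [Bool.or_eq_true, beq_iff_eq] at h2
  rcases h2 with ((h2 | h2) | h2) | h2
  · exact (hka h2).elim
  · exact (hkn (by rw [C.neg_eq a ha]; exact h2)).elim
  · exact (hct (by rw [← ct_eq' C ha hk]; exact h2)).elim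
  · exact sepAt_of_B C n ha hk h2

/-! ### `ComSep` -/

/-- Table check for `ComSep`. -/
def comSepOK (T : FastDatum) (n : ℤ) : Bool :=
  (List.range T.nroots).all fun a => (List.range T.nroots).all fun b =>
    b == a || b == T.neg a || (T.commTermsFast a b != []) || sepAtB T n a b || sepAtB T n b a

theorem comSep_of_ok (C : ChevData.{0} D) (n : ℤ) (h : comSepOK C.T n = true) : ComSep D n := by
  rintro a b ha ⟨hb, hba, hbn, hct⟩
  have hn := C.nroots_eq
  unfold comSepOK at h
  rw [List.all_eq_true] at h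
  have h1 := h a (List.mem_range.2 (hn ▸ ha))
  rw [List.all_eq_true] at h1
  have h2 := h1 b (List.mem_range.2 (hn ▸ hb))
  simp only [Bool.or_eq_true, beq_iff_eq, bne_iff_ne, ne_eq] at h2
  rcases h2 with (((h2 | h2) | h2) | h2) | h2
  · exact (hba h2).elim
  · exact (hbn (by rw [C.neg_eq a ha]; exact h2)).elim
  · exact (h2 (by rw [ct_eq' C ha hb]; exact hct)).elim
  · exact Or.inl (sepAt_of_B C n ha hb h2)
  · exact Or.inr (sepAt_of_B C n hb ha h2)

/-! ### `AllTop` -/

/-- `x ≠ ± s` and the formula of `(s, x)` is empty -/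
def comPairB (T : FastDatum) (s x : ℕ) : Bool :=
  (x != s) && (x != T.neg s) && (T.commTermsFast s x == [])

theorem comPair_of_B (C : ChevData.{0} D) {s x : ℕ} (hs : s < D.nroots) (hx : x < D.nroots)
    (h : comPairB C.T s x = true) : ComPair D s x := by
  unfold comPairB at h
  simp only [Bool.and_eq_true, bne_iff_ne, ne_eq, beq_iff_eq] at h
  refine ⟨hx, h.1.1, ?_, ?_⟩
  · rw [C.neg_eq s hs]; exact h.1.2
  · rw [← ct_eq' C hs hx]; exact h.2

/-- the certificate search at the root `s` -/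
def topB (T : FastDatum) (s : ℕ) : Bool :=
  (List.range T.nroots).any fun r' => (List.range T.nroots).any fun s' =>
    (s' != r') && (s' != T.neg r') &&
    ((T.commTermsFast r' s' == [(s, 1, 1, 1)]) || (T.commTermsFast r' s' == [(s, -1, 1, 1)])) &&
    comPairB T s r' && comPairB T s s'

/-- Table check for `AllTop`. -/
def allTopOK (T : FastDatum) : Bool := (List.range T.nroots).all fun s => topB T s

theorem allTop_of_ok (C : ChevData.{0} D) (h : allTopOK C.T = true) : AllTop D := by
  intro s hs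
  have hn := C.nroots_eq
  unfold allTopOK at h
  rw [List.all_eq_true] at h
  have h1 := h s (List.mem_range.2 (hn ▸ hs))
  unfold topB at h1
  rw [List.any_eq_true] at h1
  obtain ⟨r', hr', h2⟩ := h1
  rw [List.any_eq_true] at h2
  obtain ⟨s', hs', h3⟩ := h2
  have hr'' : r' < D.nroots := hn ▸ List.mem_range.1 hr'
  have hs'' : s' < D.nroots := hn ▸ List.mem_range.1 hs'
  simp only [Bool.and_eq_true, Bool.or_eq_true, bne_iff_ne, ne_eq, beq_iff_eq] at h3
  obtain ⟨⟨⟨⟨e1, e2⟩, e3⟩, e4⟩, e5⟩ := h3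
  have e2' : s' ≠ D.neg r' := by rw [C.neg_eq r' hr'']; exact e2
  rcases e3 with e3 | e3
  · refine ⟨r', s', [], [], 1, 1, hr'', hs'', e1, e2', Or.inl rfl, ?_, comPair_of_B C hs hr'' e4,
      comPair_of_B C hs hs'' e5, ?_⟩
    · rw [← ct_eq' C hr'' hs'', e3]; rfl
    · intro c hc; simp at hc
  · refine ⟨r', s', [], [], -1, 1, hr'', hs'', e1, e2', Or.inr rfl, ?_, comPair_of_B C hs hr'' e4,
      comPair_of_B C hs hs'' e5, ?_⟩
    · rw [← ct_eq' C hr'' hs'', e3]; rfl
    · intro c hc; simp at hc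

/-! ### The tables -/

set_option maxRecDepth 1000000 in
theorem hdOK_D4_2 : hdOK fastD4 2 = true := by decide +kernel

set_option maxRecDepth 1000000 in
theorem hdOK_D4_3 : hdOK fastD4 3 = true := by decide +kernel

set_option maxRecDepth 1000000 in
theorem sepNOK_D4_2 : sepNOK fastD4 2 = true := by decide +kernel

set_option maxRecDepth 1000000 in
theorem sepNOK_D4_3 : sepNOK fastD4 3 = true := by decide +kernel

set_option maxRecDepth 1000000 in
theorem comSepOK_D4_3 : comSepOK fastD4 3 = true := by decide +kernel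

set_option maxRecDepth 1000000 in
theorem allTopOK_D4 : allTopOK fastD4 = true := by decide +kernel

set_option maxRecDepth 1000000 in
theorem hdOK_B2_3 : hdOK fastB2 3 = true := by decide +kernel

set_option maxRecDepth 1000000 in
theorem sepNOK_B2_3 : sepNOK fastB2 3 = true := by decide +kernel

set_option maxRecDepth 1000000 in
theorem comSepOK_B2_3 : comSepOK fastB2 3 = true := by decide +kernel

/-! ### SMALL-[T-D4B2] -/

theorem hdN_D4_2 : HdN chevD4 2 := hdN_of_ok chevData_D4.{0} 2 hdOK_D4_2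
theorem hdN_D4_3 : HdN chevD4 3 := hdN_of_ok chevData_D4.{0} 3 hdOK_D4_3
theorem sepN_D4_2 : SepN chevD4 2 := sepN_of_ok chevData_D4.{0} 2 sepNOK_D4_2
theorem sepN_D4_3 : SepN chevD4 3 := sepN_of_ok chevData_D4.{0} 3 sepNOK_D4_3
theorem comSep_D4_3 : ComSep chevD4 3 := comSep_of_ok chevData_D4.{0} 3 comSepOK_D4_3
theorem allTop_D4 : AllTop chevD4 := allTop_of_ok chevData_D4.{0} allTopOK_D4
theorem hdN_B2_3 : HdN chevB2 3 := hdN_of_ok chevData_B2.{0} 3 hdOK_B2_3
theorem sepN_B2_3 : SepN chevB2 3 := sepN_of_ok chevData_B2.{0} 3 sepNOK_B2_3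
theorem comSep_B2_3 : ComSep chevB2 3 := comSep_of_ok chevData_B2.{0} 3 comSepOK_B2_3

end Cfsg.Agent.Lib.Helper66.Small
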