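import Mathlib
import Cfsg.Prelude.Def_KGroupFacts

set_option autoImplicit false

namespace Cfsg.Agent.Lib.Helper66

open scoped commutatorElement

universe u v w

section

variable {G : Type u} {H : Type v} {Q : Type w} [CommGroup G] [Group H] [Group Q]

/-- The pullback (fibre product) of `f : G →* Q` and `σ₀ : H →* Q`, as a subgroup of `G × H`. -/
def pullbackSubgroup (f : G →* Q) (σ₀ : H →* Q) : Subgroup (G × H) :=
  (f.comp (MonoidHom.fst G H)).eqLocus (σ₀.comp (MonoidHom.snd G H))

theorem mem_pullbackSubgroup (f : G →* Q) (σ₀ : H →* Q) (x : G × H) :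
    x ∈ pullbackSubgroup f σ₀ ↔ f x.1 = σ₀ x.2 := Iff.rfl

/-- The projection of the pullback to `G`. -/
def pullbackFst (f : G →* Q) (σ₀ : H →* Q) : pullbackSubgroup f σ₀ →* G :=
  (MonoidHom.fst G H).comp (pullbackSubgroup f σ₀).subtype

theorem pullbackFst_apply (f : G →* Q) (σ₀ : H →* Q) (x : pullbackSubgroup f σ₀) :
    pullbackFst f σ₀ x = (x : G × H).1 := rfl

theorem mem_ker_pullbackFst (f : G →* Q) (σ₀ : H →* Q) (x : pullbackSubgroup f σ₀) :
    x ∈ (pullbackFst f σ₀).ker ↔ (x : G × H).1 = 1 := by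
  rw [MonoidHom.mem_ker, pullbackFst_apply]

/-- Pulling a stem extension of `Q` back along a surjection from an abelian group gives a stem
extension. -/
theorem pullbackFst_isStem (f : G →* Q) (hf : Function.Surjective f) (σ₀ : H →* Q)
    (hσ₀ : Cfsg.IsStemExtension σ₀) : Cfsg.IsStemExtension (pullbackFst f σ₀) := by
  obtain ⟨hsurj, hcen, hcomm⟩ := hσ₀
  refine ⟨?_, ?_, ?_⟩
  · intro g
    obtain ⟨h, hh⟩ := hsurj (f g)
    exact ⟨⟨(g, h), by rw [mem_pullbackSubgroup]; exact hh.symm⟩, rfl⟩
  · intro x hx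
    rw [mem_ker_pullbackFst] at hx
    have hx2 : (x : G × H).2 ∈ σ₀.ker := by
      rw [MonoidHom.mem_ker]
      have := (mem_pullbackSubgroup f σ₀ x).1 x.2
      rw [← this, hx, map_one]
    have hc := hcen hx2
    rw [Subgroup.mem_center_iff] at hc ⊢
    intro y
    apply Subtype.ext
    apply Prod.ext
    · show (y : G × H).1 * (x : G × H).1 = (x : G × H).1 * (y : G × H).1
      exact mul_comm _ _
    · show (y : G × H).2 * (x : G × H).2 = (x : G × H).2 * (y : G × H).2
      exact hc _
  · -- every `(1, c)` with `c ∈ commutator H` lies in the commutator of the pullback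
    have key : commutator H ≤ ((commutator (pullbackSubgroup f σ₀)).map
        (pullbackSubgroup f σ₀).subtype).comap (MonoidHom.inr G H) := by
      rw [commutator_def, Subgroup.commutator_def, Subgroup.closure_le]
      rintro c ⟨a, _, b, _, rfl⟩
      obtain ⟨ga, hga⟩ := hf (σ₀ a)
      obtain ⟨gb, hgb⟩ := hf (σ₀ b)
      let xa : pullbackSubgroup f σ₀ := ⟨(ga, a), by rw [mem_pullbackSubgroup]; exact hga⟩
      let xb : pullbackSubgroup f σ₀ := ⟨(gb, b), by rw [mem_pullbackSubgroup]; exact hgb⟩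
      rw [SetLike.mem_coe, Subgroup.mem_comap, Subgroup.mem_map]
      refine ⟨⁅xa, xb⁆, Subgroup.commutator_mem_commutator (Subgroup.mem_top _)
        (Subgroup.mem_top _), ?_⟩
      apply Prod.ext
      · show ((⁅xa, xb⁆ : pullbackSubgroup f σ₀) : G × H).1 = 1
        rw [commutatorElement_def]
        show ga * gb * ga⁻¹ * gb⁻¹ = 1
        rw [mul_comm ga gb]; group
      · show ((⁅xa, xb⁆ : pullbackSubgroup f σ₀) : G × H).2 = ⁅a, b⁆
        rw [commutatorElement_def, commutatorElement_def]
        rfl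
    intro x hx
    rw [mem_ker_pullbackFst] at hx
    have hx2 : (x : G × H).2 ∈ σ₀.ker := by
      rw [MonoidHom.mem_ker]
      have := (mem_pullbackSubgroup f σ₀ x).1 x.2
      rw [← this, hx, map_one]
    obtain ⟨y, hy, hyx⟩ := key (hcomm hx2)
    have : y = x := by
      apply Subtype.ext
      rw [show ((y : G × H)) = (pullbackSubgroup f σ₀).subtype y from rfl, hyx]
      apply Prod.ext
      · exact hx.symm
      · rfl
    rw [← this]; exact hy

/-- If the original extension has nontrivial kernel, so does the pullback. -/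
theorem pullbackFst_ker_ne_bot (f : G →* Q) (σ₀ : H →* Q) (k : H) (hk : k ∈ σ₀.ker) (hk1 : k ≠ 1) :
    (pullbackFst f σ₀).ker ≠ ⊥ := by
  intro hbot
  have hmem : ((1 : G), k) ∈ pullbackSubgroup f σ₀ := by
    rw [mem_pullbackSubgroup, map_one]; exact ((MonoidHom.mem_ker).1 hk).symm
  have h1 : (⟨((1 : G), k), hmem⟩ : pullbackSubgroup f σ₀) ∈ (pullbackFst f σ₀).ker := by
    rw [mem_ker_pullbackFst]
  rw [hbot, Subgroup.mem_bot] at h1
  have := congrArg (fun z : pullbackSubgroup f σ₀ => (z : G × H).2) h1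
  exact hk1 this

end

end Cfsg.Agent.Lib.Helper66
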