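import Mathlib

set_option autoImplicit false

namespace Cfsg.Agent.Lib.Helper66

open scoped Pointwise

variable {G : Type*} [Group G] [Finite G] {p : ℕ} [Fact p.Prime]

/-- If a Sylow `p`-subgroup is a TI-set, any two distinct Sylow `p`-subgroups meet trivially. -/
theorem ti_pairs (P : Sylow p G)
    (hTI : ∀ g : G, g ∉ Subgroup.normalizer ((P : Subgroup G) : Set G) →
      (P : Subgroup G) ⊓ (MulAut.conj g • (P : Subgroup G)) = ⊥)
    (S₁ S₂ : Sylow p G) (hne : S₁ ≠ S₂) : (S₁ : Subgroup G) ⊓ (S₂ : Subgroup G) = ⊥ := by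
  obtain ⟨a, rfl⟩ := MulAction.exists_smul_eq G P S₁
  obtain ⟨b, rfl⟩ := MulAction.exists_smul_eq G P S₂
  have hnot : a⁻¹ * b ∉ Subgroup.normalizer ((P : Subgroup G) : Set G) := by
    intro h
    have h' : (a⁻¹ * b) • P = P := Sylow.smul_eq_iff_mem_normalizer.2 h
    apply hne
    have : a • ((a⁻¹ * b) • P) = a • P := by rw [h']
    rw [← mul_smul, mul_inv_cancel_left] at this
    exact this.symm
  have h1 := hTI _ hnot
  have h2 : ((a • P : Sylow p G) : Subgroup G) ⊓ ((b • P : Sylow p G) : Subgroup G) =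
      MulAut.conj a • ((P : Subgroup G) ⊓ (MulAut.conj (a⁻¹ * b) • (P : Subgroup G))) := by
    rw [Subgroup.smul_inf, Sylow.coe_subgroup_smul, Sylow.coe_subgroup_smul, ← mul_smul, ← map_mul,
      mul_inv_cancel_left]
  rw [h2, h1, Subgroup.smul_bot]

/-- Conversely the pairwise form gives the TI property for each Sylow subgroup. -/
theorem ti_of_pairs (h : ∀ S₁ S₂ : Sylow p G, S₁ ≠ S₂ → (S₁ : Subgroup G) ⊓ (S₂ : Subgroup G) = ⊥)
    (Q : Sylow p G) (g : G) (hg : g ∉ Subgroup.normalizer ((Q : Subgroup G) : Set G)) :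
    (Q : Subgroup G) ⊓ (MulAut.conj g • (Q : Subgroup G)) = ⊥ := by
  have hne : Q ≠ g • Q := by
    intro h'
    exact hg (Sylow.smul_eq_iff_mem_normalizer.1 h'.symm)
  exact h Q (g • Q) hne

end Cfsg.Agent.Lib.Helper66
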