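/-
helper66, project BHRSP (helper94), sub-sheet TW3 (helper41).  Module TW3-[R8-MINUS]:
`R0 = Q_8 ⊗ Q_8 ⊗ Q_8 ≤ GL_8(F)` (characteristic 3) is of minus type: no elementary abelian subgroup of order `≥ 16`.
(helper49's `isOfMinusType_three_of_trace` with `J = A2 ⊗ A2 ⊗ A2`.)  The form identity [R8-FORM] is proved here as well
(`R8set_form'`, own namespace).
-/
import Mathlib
import Cfsg.Prelude.Def_GeometricClasses
import Cfsg.Agent.Lib.Helper41.TW3.Group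
import Cfsg.Agent.Lib.Helper49.MinusTypeCore

set_option autoImplicit false
set_option linter.unusedSimpArgs false
set_option linter.unusedSectionVars false

namespace Cfsg.Agent.Lib.Helper66.TW3

open Cfsg Cfsg.Geo Cfsg.Agent.Lib.Helper15.AschSlotNorm Cfsg.Agent.Lib.Helper15.AschUPure
open Cfsg.Agent.Lib.Helper41.TW3
open scoped MatrixGroups Matrix

variable {F : Type*} [Field F]

/-- [R8-FORM] (own copy): the elements of `R8set` preserve `G ⊗ G ⊗ G` for an alternating `2 × 2` matrix `G`. -/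
theorem R8set_form' (h3 : (3 : F) = 0) (G : Matrix (Fin 2) (Fin 2) F) (hG0 : G 0 0 = 0) (hG1 : G 1 1 = 0)
    (hG : G 1 0 = -G 0 1) {M : Matrix I8 I8 F} (hM : M ∈ R8set) :
    Mᵀ * PT (fun _ : Fin 3 => G) * M = PT (fun _ : Fin 3 => G) := by
  obtain ⟨q, hq, rfl⟩ := hM
  rw [PT_transpose, PT_mul, PT_mul]
  congr 1
  funext i
  rw [transpose_mul_alt G _ hG0 hG1 hG, det_of_mem_Q8set h3 (hq i), one_smul]

/-- the form `J = A2 ⊗ A2 ⊗ A2` -/
def J8 : Matrix I8 I8 F := PT (fun _ : Fin 3 => (A2 : Matrix (Fin 2) (Fin 2) F))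

theorem J8_mul_J8 : (J8 : Matrix I8 I8 F) * J8 = -1 := by
  unfold J8
  rw [PT_mul]
  have h : (fun _ : Fin 3 => (A2 : Matrix (Fin 2) (Fin 2) F) * A2) =
      fun i : Fin 3 => (fun _ : Fin 3 => (-1 : F)) i • (fun _ : Fin 3 => (1 : Matrix (Fin 2) (Fin 2) F)) i := by
    funext i
    rw [A2_mul_A2]
    simp
  rw [h, PT_smul, PT_one]
  simp only [Finset.prod_const, Finset.card_univ, Fintype.card_fin]
  rw [show ((-1 : F)) ^ 3 = -1 by ring, neg_smul, one_smul]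

theorem A2_transpose : (A2 : Matrix (Fin 2) (Fin 2) F)ᵀ = -A2 := by
  unfold A2
  ext i j
  fin_cases i <;> fin_cases j <;> simp

theorem J8_transpose : (J8 : Matrix I8 I8 F)ᵀ = -J8 := by
  unfold J8
  rw [PT_transpose]
  have h : (fun _ : Fin 3 => (A2 : Matrix (Fin 2) (Fin 2) F)ᵀ) =
      fun i : Fin 3 => (fun _ : Fin 3 => (-1 : F)) i • (fun _ : Fin 3 => (A2 : Matrix (Fin 2) (Fin 2) F)) i := by
    funext i
    rw [A2_transpose]
    simp
  rw [h, PT_smul]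
  simp only [Finset.prod_const, Finset.card_univ, Fintype.card_fin]
  rw [show ((-1 : F)) ^ 3 = -1 by ring, neg_smul, one_smul]

theorem J8_alt (h2 : (2 : F) ≠ 0) (u : I8 → F) : u ⬝ᵥ ((J8 : Matrix I8 I8 F) *ᵥ u) = 0 := by
  have h1 : u ⬝ᵥ ((J8 : Matrix I8 I8 F) *ᵥ u) = -(u ⬝ᵥ ((J8 : Matrix I8 I8 F) *ᵥ u)) := by
    calc u ⬝ᵥ ((J8 : Matrix I8 I8 F) *ᵥ u) = (u ᵥ* (J8 : Matrix I8 I8 F)) ⬝ᵥ u := Matrix.dotProduct_mulVec _ _ _
      _ = ((J8 : Matrix I8 I8 F)ᵀ *ᵥ u) ⬝ᵥ u := by rw [Matrix.mulVec_transpose]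
      _ = -(((J8 : Matrix I8 I8 F) *ᵥ u) ⬝ᵥ u) := by rw [J8_transpose, Matrix.neg_mulVec, neg_dotProduct]
      _ = -(u ⬝ᵥ ((J8 : Matrix I8 I8 F) *ᵥ u)) := by rw [dotProduct_comm]
  have h4 : (2 : F) * (u ⬝ᵥ ((J8 : Matrix I8 I8 F) *ᵥ u)) = 0 := by linear_combination h1
  rcases mul_eq_zero.mp h4 with h | h
  · exact absurd h h2
  · exact h

/-- **TW3-[R8-MINUS]** (exact sheet statement). -/
theorem isOfMinusType_R0 (h3 : (3 : F) = 0) : IsOfMinusType 3 (R0 : Subgroup (GL I8 F)) := by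
  have h2 := two_ne_zero' h3
  refine Cfsg.Agent.Lib.Helper49.MinusType.isOfMinusType_three_of_trace h2 (by simp [I8]) (J8 : Matrix I8 I8 F) ?_
    (J8_alt h2) R0 ?_ ?_
  · -- `J8` is invertible
    have h : (J8 : Matrix I8 I8 F) * (-J8) = 1 := by rw [Matrix.mul_neg, J8_mul_J8, neg_neg]
    exact Matrix.isUnit_det_of_right_inverse h
  · intro g hg
    have hM := (mem_R0_iff h3 g).mp hg
    exact R8set_form' h3 A2 (by simp [A2]) (by simp [A2]) (by simp [A2]) hM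
  · intro g hg hne1 hne2
    have hM := (mem_R0_iff h3 g).mp hg
    obtain ⟨s, v, hs, hv⟩ := (mem_R8set_iff _).mp hM
    rw [hv, Matrix.trace_smul]
    by_cases hv0 : v = fun _ => 0
    · exfalso
      rw [hv0, PE_zero] at hv
      rcases hs with rfl | rfl
      · exact hne1 (by rw [hv, one_smul])
      · exact hne2 (by rw [hv, neg_smul, one_smul])
    · rw [PE_trace_of_ne hv0, smul_zero]

end Cfsg.Agent.Lib.Helper66.TW3
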